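import Cfsg.Agent.Mrg.Omega.NO3S.Pas.Front
import Cfsg.Agent.Mrg.Omega.NO3S.Act.PasCore
import Cfsg.Agent.Mrg.Omega.NO3S.ActT.Pack
import Cfsg.Agent.Mrg.Omega.NOThreeL.FFB.Rp2
import Cfsg.Agent.Mrg.Omega.NO3S.Act.OneNat
import Mathlib
import Cfsg.Agent.Mrg.Omega.NOThreeL.Low.PmNat
import Cfsg.Agent.Mrg.Omega.NO3S.ActT.TLNat
import Cfsg.Agent.Mrg.Omega.NOThreeL.NF.Final

section


/-!
# GammaFF: the KEY and the passive types, instances over the front (#19093, #20445)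

`h : Fr S M V F n` (all lines at distance `< n` from the chambers `≥ W` are good), `BL M S V F n` the group `B`.

* `fr_tp` : a bad line at distance `≤ n` of a type with `C_Z(P) = 1` is natural^k or `S_n^k`;
* `fr_root` : **KEY** `[r, W] = [r', W]` for `r, r' ∈ I - F`; `fr_mem` : `[r, W] ≤ V_P`, `r ∈ I`, if `W ≤ S` moves `V_P`;
* `WFr.act` : `BetaFF.Act S P V F` for active `P`;
* `WFr.pre` : 570's `Pre` for active `P`, passive `P'`;
* `WFr.min`, `WFr.gen`, `WFr.cvq` : the other inputs.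
-/

set_option autoImplicit false
set_option linter.unusedSectionVars false

namespace Cfsg.Agent.Omega.NO3S.Pas

open Subgroup Cfsg Cfsg.Agent.ZN Cfsg.Agent.Omega.MinPar Cfsg.Agent.Omega.Frame Cfsg.Agent.Omega.FrameNOFF
open Cfsg.Agent.Omega.NOne.Flat (Hyp EE WW NN BadX Cos card_mul_relIndex' conj_eq_of_norm conj_centralizer WW_conj
  EE_conj conj_eq_of_cent)
open Cfsg.Agent.Omega.NOne.NearFF (c c_def)
open Cfsg.Agent.Omega.NoFF.Basic (conj_conj mem_conj conj_le_iff conj_le_centralizer comm_symm Gal)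
open Cfsg.Agent.Omega.NOThreeL.Low (Tp Blk Fr Ch BB)
open Cfsg.Agent.Omega.NOThreeL.Low.Key (BH)
open Cfsg.Agent.Omega.FrameFF (cv)
open Cfsg.Agent.Omega.FFThm (OffM NoOverM ConclM)
open Cfsg.Agent.ZN.ChoiceSit (Syl)
open scoped Pointwise

universe u

variable {G : Type u} [Group G] [Finite G] {S : Sylow 2 G} {P V F B : Subgroup G}

section fr

variable {M : Subgroup G} {n : ℕ} (h : Fr S M V F n)
include h

/-- A bad line of a type with `C_Z(P) = 1` is of type natural^k or `S_n^k`. -/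
theorem fr_tp (hFF : FFThm.StmtM.{u}) (hlow : zl (S : Subgroup G) P ≤ o2 (CZ (S : Subgroup G)))
    {j : ℕ} (hj : j ≤ n) {g : G} (hg : Ch M (S : Subgroup G) (NOne.Flat.WW V F) j g)
    (hP : IsParS (S : Subgroup G) P) (hcv : cv (S : Subgroup G) P = ⊥)
    (hI : ¬ V ⊓ BL M (S : Subgroup G) V F n ≤ F)
    (hUE : ¬ MulAut.conj g • zl (S : Subgroup G) P ≤ EE V F) : Tp (S : Subgroup G) P := by
  have hgM : g ∈ M := h.mem_M hg
  have hgV := h.MV hgM
  have hgV' : g⁻¹ ∈ normalizer (V : Set G) := inv_mem hgV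
  have eE : EE V (MulAut.conj g⁻¹ • F) = MulAut.conj g⁻¹ • EE V F := (EE_conj hgV').symm
  have b' := (bh h).conj hgV'
  have e1 : V ⊓ MulAut.conj g⁻¹ • BL M (S : Subgroup G) V F n =
      MulAut.conj g⁻¹ • (V ⊓ BL M (S : Subgroup G) V F n) := by
    rw [Subgroup.smul_inf, conj_eq_of_norm hgV']
  have hn : ¬ NO3b.EZero.NotFF (zl (S : Subgroup G) P) := by
    refine NOThreeL.Low.NonFF.ff (S := S) h.hc hP hlow b'.toHyp b'.le_W b'.F_le b'.abel b'.norm ?_ ?_ (h.zl_le_V hP) ?_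
    · rw [e1]
      exact fun h1 => hI (conj_le_iff.1 h1)
    · have h2 := conj_le_iff (g := g⁻¹).2 (BL_le_conj h hj hg)
      rwa [conj_conj, inv_mul_cancel, map_one, one_smul] at h2
    · intro h2
      apply hUE
      rw [eE] at h2
      have h3 := conj_le_iff (g := g).2 h2
      rwa [conj_conj, mul_inv_cancel, map_one, one_smul] at h3
  obtain ⟨A, hA, ho⟩ := NOThreeL.Low.exists_off (hP.le.trans (MinSimple.VModule.le_normalizer_zl _ _)) hn
  obtain ⟨-, hcon⟩ := hFF G (S : Subgroup G) P (MinSimple.EmptyTI.syl_of_le hP.le)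
    hP.toIsMinPar (hP.isLoc.char2 S h.hc) ⟨A, hA.trans hP.le, ho⟩
  unfold ConclM at hcon
  rw [hcv] at hcon
  exact hcon

/-- **KEY** `[r, W] = [r', W]` for `r, r' ∈ I - F`. -/
theorem fr_root (hkey : F.relIndex (V ⊓ BL M (S : Subgroup G) V F n) ≤ (EE V F).relIndex V) {r r' s : G}
    (hr : r ∈ V ⊓ BL M (S : Subgroup G) V F n) (hrF : r ∉ F)
    (hr' : r' ∈ V ⊓ BL M (S : Subgroup G) V F n) (hr'F : r' ∉ F) (hs : s ∈ NOne.Flat.WW V F) :
    ∃ t ∈ NOne.Flat.WW V F, c r' t = c r s := by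
  obtain ⟨b, hb, hbN⟩ := (bh h).exists_not_mem_NN fun h1 => hrF (h1 hr)
  exact ((bh h).root hkey hr' hr'F hb hbN _).2 (((bh h).root hkey hr hrF hb hbN _).1 ⟨s, hs, rfl⟩)

/-- `[r, W] ≤ L` for `r ∈ I`, if `L ≤ I` is `W`-invariant and moved by `W`. -/
theorem fr_mem (hkey : F.relIndex (V ⊓ BL M (S : Subgroup G) V F n) ≤ (EE V F).relIndex V) {L : Subgroup G}
    (hL : L ≤ V ⊓ BL M (S : Subgroup G) V F n) (hWL : NOne.Flat.WW V F ≤ normalizer (L : Set G))
    (hmov : ¬ NOne.Flat.WW V F ≤ centralizer (L : Set G)) :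
    ∀ r ∈ V ⊓ BL M (S : Subgroup G) V F n, ∀ s ∈ NOne.Flat.WW V F, c r s ∈ L := by
  intro r hr s hs
  by_cases hrF : r ∈ F
  · rw [NOne.Flat.Hyp.c_F hrF hs]
    exact one_mem _
  · obtain ⟨l, hl, hlF⟩ : ∃ l ∈ L, l ∉ F := by
      by_contra hcon
      push Not at hcon
      apply hmov
      intro w hw
      rw [mem_centralizer_iff]
      exact fun l hl => NOne.Flat.Hyp.F_comm (hcon l hl) (NOne.Flat.Hyp.W_le_X hw)
    obtain ⟨t, ht, e⟩ := fr_root h hkey hr hrF (hL hl) hlF hs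
    rw [← e]
    exact NOThreeL.Low.Key.c_mem_left hl (hWL ht)

end fr

namespace WFr

variable {M : Subgroup G} (w : WFr S M V F)
include w

theorem PV {R : Subgroup G} (hR : IsParS (S : Subgroup G) R) : R ≤ normalizer (V : Set G) := (w.PM R hR).trans w.MV

theorem zl_le_V {R : Subgroup G} (hR : IsParS (S : Subgroup G) R) : zl (S : Subgroup G) R ≤ V :=
  MinSimple.VModule.zl_le w.ZV (w.PV hR)

theorem zl_le_E {R : Subgroup G} (hR : IsParS (S : Subgroup G) R) : zl (S : Subgroup G) R ≤ EE V F := by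
  have h1 := w.good (one_mem M) (by rw [map_one, one_smul]; exact w.WS) hR
  rwa [map_one, one_smul] at h1

/-- `W ≰ O₂(P)` : `W` moves `V_P`. -/
theorem mov (hP : IsParS (S : Subgroup G) P) (hact : ¬ NOne.Flat.WW V F ≤ o2 P) :
    ¬ NOne.Flat.WW V F ≤ centralizer (zl (S : Subgroup G) P : Set G) := fun h1 => hact (by
  rw [← hP.inf_centralizer S w.hc]
  exact le_inf w.WS h1)

/-- `W ≤ O₂(P)` : `V_P ≤ F`. -/
theorem zl_le_F (hP : IsParS (S : Subgroup G) P) (hpas : NOne.Flat.WW V F ≤ o2 P) : zl (S : Subgroup G) P ≤ F := by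
  rw [← w.hyp.cent_VW]
  refine le_inf (w.zl_le_V hP) (comm_symm ?_)
  rw [← hP.inf_centralizer S w.hc] at hpas
  exact hpas.trans inf_le_right

/-- the active types: `BetaFF.Act` -/
theorem act (hP : IsParS (S : Subgroup G) P) (hcv : cv (S : Subgroup G) P = ⊥) (hact : ¬ NOne.Flat.WW V F ≤ o2 P) :
    BetaFF.Act S P V F where
  char2 := w.hc
  par := hP
  cv := hcv
  hyp := w.hyp
  PV := w.PV hP
  LE := w.zl_le_E hP
  WS := w.WS
  mov := w.mov hP hact
  lines := fun x hx => by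
    have h1 := (w.fr hP).gal (Nat.zero_le 1) (Nat.zero_le 1) w.ch_one w.ch_one hP hP
      (by rw [map_one, one_smul]; exact w.zl_le_E hP) (by rw [map_one, one_smul]; exact w.zl_le_E hP) hx
    rw [mul_one, map_one, one_smul] at h1
    exact comm_symm h1

theorem PQ (hP : IsParS (S : Subgroup G) P) :
    P ≤ normalizer (((S : Subgroup G) ⊓ centralizer (zl (S : Subgroup G) P : Set G) : Subgroup G) : Set G) := by
  rw [hP.inf_centralizer S w.hc]
  exact MinSimple.VModule.le_normalizer_o2 P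

/-- **570's `Pre`** for active `P`, passive `P'`. -/
theorem pre {P' : Subgroup G} (hP : IsParS (S : Subgroup G) P) (hP' : IsParS (S : Subgroup G) P')
    (hact : ¬ NOne.Flat.WW V F ≤ o2 P) (hpas : NOne.Flat.WW V F ≤ o2 P') :
    Pre (S : Subgroup G) V F (BL M (S : Subgroup G) V F 1) P P' (zl (S : Subgroup G) P)
      (zl (S : Subgroup G) P') where
  toBH := bh (w.fr hP)
  SP := hP.le
  SP' := hP'.le
  PV := w.PV hP
  PV' := w.PV hP'
  PL := MinSimple.VModule.le_normalizer_zl _ _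
  Pc := MinSimple.VModule.le_normalizer_zl _ _
  PQ := w.PQ hP
  WS := w.WS
  WS' := fun g hg => by
    have h1 := conj_le_iff (g := g).2 hpas
    rw [conj_eq_of_norm (MinSimple.VModule.le_normalizer_o2 P' hg)] at h1
    exact h1.trans (hP'.isLoc.o2_le S)
  LV := w.zl_le_V hP
  LB := w.zl_le_BL hP
  mov := w.mov hP hact
  cF := w.zl_le_F hP' hpas
  line := fun y hy hW => w.line_le_BL (sup_le (w.PM P hP) (w.PM P' hP') hy) hW hP'

/-- `min` of `Pre.pas` -/
theorem min (hP : IsParS (S : Subgroup G) P) {N : Subgroup G} (hN : N ≤ P) (hn : P ≤ normalizer (N : Set G))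
    (ha : ∃ a ∈ N, a ∈ (S : Subgroup G) ∧ a ∉ centralizer (zl (S : Subgroup G) P : Set G)) :
    P ≤ N ⊔ (S : Subgroup G) := by
  rcases hP.toIsPar.sup_eq_or_inf_le S hN hn with h1 | h1
  · exact h1.ge
  · obtain ⟨a, haN, haS, hac⟩ := ha
    have h2 := h1 (mem_inf.2 ⟨haS, haN⟩)
    rw [← hP.inf_centralizer S w.hc] at h2
    exact absurd h2.2 hac

/-- `gen` of `Pre.c_le_L` -/
theorem gen (hP : IsParS (S : Subgroup G) P) (hact : ¬ NOne.Flat.WW V F ≤ o2 P) {N : Subgroup G} (hN : N ≤ P)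
    (hn : P ≤ normalizer (N : Set G)) (hW : NOne.Flat.WW V F ≤ N) : P ≤ N ⊔ (S : Subgroup G) := by
  rcases hP.toIsPar.sup_eq_or_inf_le S hN hn with h1 | h1
  · exact h1.ge
  · exact absurd ((le_inf w.WS hW).trans h1) hact

/-- `hc` of `Pre.pas` -/
theorem zl_le_of {X : Subgroup G} (hX : P ≤ normalizer (X : Set G))
    (hZ : zc (S : Subgroup G) ≤ X) : zl (S : Subgroup G) P ≤ X := MinSimple.VModule.zl_le hZ hX

/-- `hsp` of `Pre.pas` -/
theorem hsp (hFF : FFThm.StmtM.{u}) {P' : Subgroup G} (hP : IsParS (S : Subgroup G) P)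
    (hP' : IsParS (S : Subgroup G) P') (hcv : cv (S : Subgroup G) P' = ⊥)
    (hI : ¬ V ⊓ BL M (S : Subgroup G) V F 1 ≤ F) {p : G} (hp : p ∈ P)
    (hUE : ¬ MulAut.conj p • zl (S : Subgroup G) P' ≤ EE V F) :
    ∀ v ∈ V, ∃ x ∈ MulAut.conj p • zl (S : Subgroup G) P', ∃ e ∈ EE V F, v = x * e := fun _ hv =>
  fr_span (w.fr hP) le_rfl (w.ch_par hP hp) hP'
    (fr_tp (w.fr hP) hFF (w.low P' hP') le_rfl (w.ch_par hP hp) hP' hcv hI hUE) hUE hI hv

end WFr

end Cfsg.Agent.Omega.NO3S.Pas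

end

section


/-!
# GammaFF: the passive types, radicals allowed (helper905 #21048 (K2), helper793 #20445 (P1))

* `Key V F B` : the conclusion of the KEY, `[r, W] = [E, b]` for `r ∈ I - F`, `b ∈ B - N`;
* `two` : `d ≤ V`, `d ≰ E`, `B ≤ N(d)`, `d ∩ ρ = 1`, `[E, B] ≤ ρ`, `B` no over-offender on `d` ⟹ `|I : F| ≤ |d : d ∩ E|`;
* `WFr.hsp'` : so `V = V_P'^p E` for a bad line `V_P'^p`, `p ∈ P` with `V_P'^p ∩ ρ = 1` (`P` active, `P'` passive);
* `WFr.pas` : `V_P'^p ≤ E`;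
* `WFr.le_of_good` : `V_P'^p ≤ E` for one `p` with `P = ⟨S, W^(p⁻¹)⟩` ⟹ `V_P' ≤ V_P`.
-/

set_option autoImplicit false
set_option linter.unusedSectionVars false

namespace Cfsg.Agent.Omega.NO3S.Pas

open Subgroup Cfsg Cfsg.Agent.ZN Cfsg.Agent.Omega.MinPar Cfsg.Agent.Omega.Frame Cfsg.Agent.Omega.FrameNOFF
open Cfsg.Agent.Omega.NOne.Flat (EE NN BadX Cos card_mul_relIndex' conj_eq_of_norm conj_centralizer WW_conj
  EE_conj conj_eq_of_cent)
open Cfsg.Agent.Omega.NOne.NearFF (c c_def)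
open Cfsg.Agent.Omega.NoFF.Basic (conj_conj mem_conj conj_le_iff conj_le_centralizer comm_symm Gal)
open Cfsg.Agent.Omega.NOThreeL.Low (Tp Blk Fr Ch BB)
open Cfsg.Agent.Omega.NOThreeL.Low.Key (BH)
open Cfsg.Agent.Omega.FrameFF (cv)
open Cfsg.Agent.Omega.FFThm (ElemM OffM NoOverM ConclM relIndex_le_iff)
open Cfsg.Agent.ZN.ChoiceSit (Syl)
open scoped Pointwise

universe u

variable {G : Type u} [Group G] [Finite G] {S : Sylow 2 G} {P V F B : Subgroup G}

/-- The KEY: `[r, W] = [E, b]` for `r ∈ I - F`, `b ∈ B - N`. -/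
def Key (V F B : Subgroup G) : Prop :=
  ∀ r ∈ V ⊓ B, r ∉ F → ∀ b ∈ B, b ∉ NN V F → ∀ y,
    (∃ s ∈ NOne.Flat.WW V F, c r s = y) ↔ ∃ e ∈ EE V F, c e b = y

theorem key_of_le (h : BH V F B) (hle : F.relIndex (V ⊓ B) ≤ (EE V F).relIndex V) : Key V F B :=
  fun _ hr hrF _ hb hbN y => h.root hle hr hrF hb hbN y

section abs

variable (h : BH V F B)
include h

/-- `[r, W] ≤ [L, W]` -/
theorem Key.mem (hk : Key V F B) {L : Subgroup G} (hL : L ≤ V ⊓ B) (hmov : ¬ NOne.Flat.WW V F ≤ centralizer (L : Set G))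
    {r s : G} (hr : r ∈ V ⊓ B) (hs : s ∈ NOne.Flat.WW V F) : c r s ∈ ⁅L, NOne.Flat.WW V F⁆ := by
  by_cases hrF : r ∈ F
  · rw [NOne.Flat.Hyp.c_F hrF hs]
    exact one_mem _
  · obtain ⟨l, hl, hlF⟩ : ∃ l ∈ L, l ∉ F := by
      by_contra hcon
      push Not at hcon
      apply hmov
      intro w hw
      rw [mem_centralizer_iff]
      exact fun l hl => NOne.Flat.Hyp.F_comm (hcon l hl) (NOne.Flat.Hyp.W_le_X hw)
    obtain ⟨b, hb, hbN⟩ := h.exists_not_mem_NN fun h1 => hrF (h1 hr)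
    obtain ⟨t, ht, e⟩ := (hk l (hL hl) hlF b hb hbN _).2 ((hk r hr hrF b hb hbN _).1 ⟨s, hs, rfl⟩)
    rw [← e, c_def]
    exact commutator_mem_commutator hl ht

/-- `[E, B] ≤ [L, W]` -/
theorem Key.mem_EB (hk : Key V F B) {L : Subgroup G} (hL : L ≤ V ⊓ B)
    (hmov : ¬ NOne.Flat.WW V F ≤ centralizer (L : Set G)) {e b : G} (he : e ∈ EE V F) (hb : b ∈ B) :
    c e b ∈ ⁅L, NOne.Flat.WW V F⁆ := by
  obtain ⟨l, hl, hlF⟩ : ∃ l ∈ L, l ∉ F := by
    by_contra hcon
    push Not at hcon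
    apply hmov
    intro w hw
    rw [mem_centralizer_iff]
    exact fun l hl => NOne.Flat.Hyp.F_comm (hcon l hl) (NOne.Flat.Hyp.W_le_X hw)
  by_cases hbN : b ∈ NN V F
  · have h1 := mem_centralizer_iff.1 hbN.2 e he
    rw [NOThreeL.Low.Key.c_eq_one' h1]
    exact one_mem _
  · obtain ⟨s, hs, e1⟩ := (hk l (hL hl) hlF b hb hbN _).2 ⟨e, he, rfl⟩
    rw [← e1, c_def]
    exact commutator_mem_commutator hl hs

/-- `B` offends on `d`. -/
theorem off_d {d ρ : Subgroup G} (hdV : d ≤ V) (hdE : ¬ d ≤ EE V F) (hBd : B ≤ normalizer (d : Set G))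
    (hI : ¬ V ⊓ B ≤ F) (hEB : ∀ e ∈ EE V F, ∀ b ∈ B, c e b ∈ ρ) (hdρ : d ⊓ ρ = ⊥) :
    ¬ B ≤ centralizer (d : Set G) ∧ (centralizer (B : Set G)).relIndex d ≤ (EE V F).relIndex d ∧
      (EE V F).relIndex d ≤ F.relIndex (V ⊓ B) ∧ F.relIndex (V ⊓ B) ≤ (centralizer (d : Set G)).relIndex B := by
  obtain ⟨w, hw, hwE⟩ := SetLike.not_le_iff_exists.1 hdE
  refine ⟨fun h1 => ?_, ?_, ?_, ?_⟩
  · obtain ⟨b, hb, hbN⟩ := h.exists_not_mem_NN hI
    refine hbN (h.mem_NN_of_c (hdV hw) hwE hb ?_)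
    rw [NOThreeL.Low.Key.c_eq_one' (mem_centralizer_iff.1 (h1 hb) w hw)]
    exact one_mem _
  · rw [← inf_relIndex_right (EE V F) d]
    refine relIndex_le_of_le_left ?_ index_ne_zero_of_finite
    rintro e ⟨he1, he2⟩
    rw [mem_centralizer_iff]
    intro b hb
    have h1 : c e b ∈ d ⊓ ρ := ⟨NOThreeL.Low.Key.c_mem_left he2 (hBd hb), hEB e he1 b hb⟩
    rw [hdρ, mem_bot] at h1
    exact (NOThreeL.Low.Key.comm_of_c h1).symm
  · exact (relIndex_le_of_le_right hdV index_ne_zero_of_finite).trans (h.relIndex_V_le hI)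
  · rw [← h.relIndex_B, ← inf_relIndex_right (centralizer (d : Set G)) B]
    refine relIndex_le_of_le_left ?_ index_ne_zero_of_finite
    rintro b ⟨hb1, hb2⟩
    refine h.mem_NN_of_c (hdV hw) hwE hb2 ?_
    rw [NOThreeL.Low.Key.c_eq_one' (mem_centralizer_iff.1 hb1 w hw)]
    exact one_mem _

/-- `B` acts on `d ≤ V` as an elementary abelian group. -/
theorem elem_d {d : Subgroup G} (hdV : d ≤ V) : ElemM d B where
  sq := fun b hb => by
    rw [pow_two, mem_centralizer_iff]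
    intro x hx
    exact (NOne.Flat.Hyp.F_comm (h.toHyp.sq_W (h.le_W hb)) (h.toHyp.V_le_X (hdV hx))).symm
  comm := fun a ha b hb => by
    rw [h.B_comm ha hb, mul_inv_cancel_right, mul_inv_cancel]
    exact one_mem _

/-- **(K2)** `|I : F| ≤ |d : d ∩ E|`. -/
theorem two {d ρ : Subgroup G} (hdV : d ≤ V) (hdE : ¬ d ≤ EE V F) (hBd : B ≤ normalizer (d : Set G))
    (hI : ¬ V ⊓ B ≤ F) (hEB : ∀ e ∈ EE V F, ∀ b ∈ B, c e b ∈ ρ) (hdρ : d ⊓ ρ = ⊥)
    (hno : OffM d B → (centralizer (d : Set G)).relIndex B ≤ (centralizer (B : Set G)).relIndex d) :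
    F.relIndex (V ⊓ B) ≤ (EE V F).relIndex d := by
  obtain ⟨h1, h2, h3, h4⟩ := off_d h hdV hdE hBd hI hEB hdρ
  exact h4.trans ((hno ⟨elem_d h hdV, h1, relIndex_le_iff.2 (h2.trans (h3.trans h4))⟩).trans h2)

end abs

/-- The FF theorem for a conjugate of `V_P'`. -/
theorem noOver_conj (hFF : FFThm.StmtM.{u}) (hc : IsCharacteristicTwoType G) (hP : IsParS (S : Subgroup G) P)
    {p : G} {A : Subgroup G} (hA : A ≤ MulAut.conj p • (S : Subgroup G))
    (hoff : OffM (MulAut.conj p • zl (S : Subgroup G) P) A) :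
    (centralizer ((MulAut.conj p • zl (S : Subgroup G) P : Subgroup G) : Set G)).relIndex A ≤
      (centralizer (A : Set G)).relIndex (MulAut.conj p • zl (S : Subgroup G) P : Subgroup G) := by
  set A' : Subgroup G := MulAut.conj p⁻¹ • A with hA'
  have eA : A = MulAut.conj p • A' := by rw [hA', conj_conj, mul_inv_cancel, map_one, one_smul]
  have hA'S : A' ≤ (S : Subgroup G) := by
    have h2 := conj_le_iff (g := p⁻¹).2 hA
    rwa [conj_conj, inv_mul_cancel, map_one, one_smul] at h2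
  have e1 : (centralizer ((MulAut.conj p • zl (S : Subgroup G) P : Subgroup G) : Set G)).relIndex A =
      (centralizer (zl (S : Subgroup G) P : Set G)).relIndex A' := by
    rw [← conj_centralizer, eA, relIndex_pointwise_smul]
  have e2 : (centralizer (A : Set G)).relIndex (MulAut.conj p • zl (S : Subgroup G) P : Subgroup G) =
      (centralizer (A' : Set G)).relIndex (zl (S : Subgroup G) P) := by
    rw [eA, ← conj_centralizer, relIndex_pointwise_smul]
  have ho : OffM (zl (S : Subgroup G) P) A' := by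
    have h1 := NO3b.Bang.OffM_cj hoff p⁻¹
    have h2 : ∀ X : Subgroup G, ZN.ChoiceBase.cj p⁻¹ X = MulAut.conj p⁻¹ • X := fun X => rfl
    rw [h2, h2, conj_conj, inv_mul_cancel, map_one, one_smul] at h1
    exact h1
  rw [e1, e2]
  obtain ⟨hno, -⟩ := hFF G (S : Subgroup G) P (MinSimple.EmptyTI.syl_of_le hP.le)
    hP.toIsMinPar (hP.isLoc.char2 S hc) ⟨A', hA'S.trans hP.le, ho⟩
  exact relIndex_le_iff.1 (hno A' (hA'S.trans hP.le) ho.toElemM)

namespace WFr

variable {M : Subgroup G} (w : WFr S M V F)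
include w

/-- `I ≰ F` if there is an active type. -/
theorem not_I_le (hP : IsParS (S : Subgroup G) P) (hact : ¬ NOne.Flat.WW V F ≤ o2 P) :
    ¬ V ⊓ BL M (S : Subgroup G) V F 1 ≤ F := by
  intro h1
  apply w.mov hP hact
  intro s hs
  rw [mem_centralizer_iff]
  exact fun l hl => NOne.Flat.Hyp.F_comm (h1 ⟨w.zl_le_V hP hl, w.zl_le_BL hP hl⟩) (NOne.Flat.Hyp.W_le_X hs)

theorem L_le_I (hP : IsParS (S : Subgroup G) P) : zl (S : Subgroup G) P ≤ V ⊓ BL M (S : Subgroup G) V F 1 :=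
  le_inf (w.zl_le_V hP) (w.zl_le_BL hP)

/-- **(K2)** `V = V_P'^p E` -/
theorem hsp' (hFF : FFThm.StmtM.{u}) {P' : Subgroup G} (hP : IsParS (S : Subgroup G) P)
    (hP' : IsParS (S : Subgroup G) P') (hact : ¬ NOne.Flat.WW V F ≤ o2 P)
    (hk : Key V F (BL M (S : Subgroup G) V F 1)) {p : G} (hp : p ∈ P)
    (hρ : MulAut.conj p • zl (S : Subgroup G) P' ⊓ ⁅zl (S : Subgroup G) P, NOne.Flat.WW V F⁆ = ⊥)
    (hUE : ¬ MulAut.conj p • zl (S : Subgroup G) P' ≤ EE V F) :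
    ∀ v ∈ V, ∃ x ∈ MulAut.conj p • zl (S : Subgroup G) P', ∃ e ∈ EE V F, v = x * e := by
  have hf := w.fr hP
  have hb := bh hf
  have hI := w.not_I_le hP hact
  have hBS := BL_le_conj hf le_rfl (w.ch_par hP hp)
  have hdV := hf.line_le_V (w.PM P hP hp) hP'
  have hBd : BL M (S : Subgroup G) V F 1 ≤
      normalizer ((MulAut.conj p • zl (S : Subgroup G) P' : Subgroup G) : Set G) := by
    refine hBS.trans ?_
    intro x hx
    rw [mem_conj] at hx
    have h1 := MinSimple.VModule.le_normalizer_zl (S : Subgroup G) P' (hP'.le hx)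
    rw [mem_normalizer_iff] at h1 ⊢
    intro y
    rw [mem_conj, mem_conj]
    have e : p⁻¹ * (x * y * x⁻¹) * p = p⁻¹ * x * p * (p⁻¹ * y * p) * (p⁻¹ * x * p)⁻¹ := by group
    rw [e]
    exact h1 _
  have h3 := two hb hdV hUE hBd hI (fun e he b hb' => hk.mem_EB hb (w.L_le_I hP) (w.mov hP hact) he hb') hρ
    (noOver_conj hFF w.hc hP' hBS)
  intro v hv
  have hcos : Cos id (MulAut.conj p • zl (S : Subgroup G) P') (EE V F) V (EE V F) :=
    ⟨fun u hu => hdV hu, fun _ _ _ _ => Iff.rfl⟩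
  obtain ⟨x, hx, hxv⟩ := hcos.surj ((hb.relIndex_V_le hI).trans h3) hv
  exact ⟨x, hx, x⁻¹ * v, hxv, by group⟩

/-- **THEOREM PAS** (#20445 (P1), radicals of `P'` allowed): `V_P'^p ≤ E` if `V_P'^p ∩ ρ = 1`. -/
theorem pas (hFF : FFThm.StmtM.{u}) {P' : Subgroup G} (hP : IsParS (S : Subgroup G) P)
    (hP' : IsParS (S : Subgroup G) P') (hact : ¬ NOne.Flat.WW V F ≤ o2 P) (hpas : NOne.Flat.WW V F ≤ o2 P')
    (hk : Key V F (BL M (S : Subgroup G) V F 1)) {rho : Subgroup G} (hrho : rho ≤ zl (S : Subgroup G) P)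
    (dich : ∀ k ∈ P', MulAut.conj k • NOne.Flat.WW V F ≤ centralizer (zl (S : Subgroup G) P : Set G) ∨
      ∃ s ∈ (S : Subgroup G), MulAut.conj k • rho = MulAut.conj s • rho)
    (hZ : zc (S : Subgroup G) ≤ ⨆ s : (S : Subgroup G), MulAut.conj (s : G) • rho)
    {p : G} (hp : p ∈ P)
    (hρ : MulAut.conj p • zl (S : Subgroup G) P' ⊓ ⁅zl (S : Subgroup G) P, NOne.Flat.WW V F⁆ = ⊥) :
    MulAut.conj p • zl (S : Subgroup G) P' ≤ EE V F :=
  (w.pre hP hP' hact hpas).pas (rho := rho) dich rfl hrho (fun _ hN hn ha => w.min hP' hN hn ha) hZ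
    (fun _ hX hZX => w.zl_le_of hX hZX) hp (w.hsp' hFF hP hP' hact hk hp hρ)

/-- `[r, W] ≤ L` for `r ∈ I` -/
theorem comm_I (hP : IsParS (S : Subgroup G) P) (hact : ¬ NOne.Flat.WW V F ≤ o2 P)
    (hk : Key V F (BL M (S : Subgroup G) V F 1)) {r s : G} (hr : r ∈ V ⊓ BL M (S : Subgroup G) V F 1)
    (hs : s ∈ NOne.Flat.WW V F) : c r s ∈ zl (S : Subgroup G) P := by
  have h1 := hk.mem (bh (w.fr hP)) (w.L_le_I hP) (w.mov hP hact) hr hs
  refine (commutator_le.2 fun l hl t ht => ?_ : ⁅zl (S : Subgroup G) P, NOne.Flat.WW V F⁆ ≤ zl (S : Subgroup G) P) h1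
  rw [commutatorElement_def, ← c_def]
  exact NOThreeL.Low.Key.c_mem_left hl (MinSimple.VModule.le_normalizer_zl _ _ (hP.le (w.WS ht)))

/-- `V_P'^p ≤ E` for one `p ∈ P` with `P = ⟨S, W^(p⁻¹)⟩` ⟹ `V_P' ≤ V_P`. -/
theorem le_of_good (hP : IsParS (S : Subgroup G) P) {P' : Subgroup G}
    (hP' : IsParS (S : Subgroup G) P') (hact : ¬ NOne.Flat.WW V F ≤ o2 P) (hpas : NOne.Flat.WW V F ≤ o2 P')
    (hk : Key V F (BL M (S : Subgroup G) V F 1))
    (irr : ∀ X : Subgroup G, X ≤ V → P ≤ normalizer (X : Set G) → X ≠ ⊥ → zl (S : Subgroup G) P ≤ X)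
    (cvq : V ⊓ centralizer (o2 P : Set G) ≤ zl (S : Subgroup G) P) {p : G} (hp : p ∈ P)
    (hgen : P ≤ (S : Subgroup G) ⊔ MulAut.conj p⁻¹ • NOne.Flat.WW V F)
    (hgood : MulAut.conj p • zl (S : Subgroup G) P' ≤ EE V F) :
    zl (S : Subgroup G) P' ≤ zl (S : Subgroup G) P := by
  have hf := w.fr hP
  set L : Subgroup G := zl (S : Subgroup G) P with hL
  set d : Subgroup G := zl (S : Subgroup G) P' with hd
  have hLV : L ≤ V := w.zl_le_V hP
  have hdV : d ≤ V := w.zl_le_V hP'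
  have hPL : P ≤ normalizer (L : Set G) := MinSimple.VModule.le_normalizer_zl _ _
  have hPd : P' ≤ normalizer (d : Set G) := MinSimple.VModule.le_normalizer_zl _ _
  have hdL : d ≤ normalizer (L : Set G) := by
    refine le_trans ?_ (centralizer_le_normalizer _)
    exact hdV.trans (w.hyp.comm.trans (centralizer_le hLV))
  have hLd : L ≤ normalizer (d : Set G) := by
    refine le_trans ?_ (centralizer_le_normalizer _)
    exact hLV.trans (w.hyp.comm.trans (centralizer_le hdV))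
  -- `A = V_P' V_P`
  set A : Subgroup G := d ⊔ L with hA
  have hAV : A ≤ V := sup_le hdV hLV
  have hgI : MulAut.conj p • d ≤ BL M (S : Subgroup G) V F 1 :=
    (Fr.le_BB' (Fr.mem_Gd le_rfl (w.ch_par hP hp) hP' hgood)).trans le_sup_left
  have hAI : MulAut.conj p • A ≤ V ⊓ BL M (S : Subgroup G) V F 1 := by
    refine le_inf ?_ ?_
    · have h1 := conj_le_iff (g := p).2 hAV
      rwa [conj_eq_of_norm (w.PV hP hp)] at h1
    · rw [hA, Subgroup.smul_sup]
      refine sup_le hgI ?_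
      rw [conj_eq_of_norm (hPL hp)]
      exact w.zl_le_BL hP
  -- `[A, W^(p⁻¹)] ≤ L`
  have hAW : ∀ x ∈ A, ∀ s ∈ MulAut.conj p⁻¹ • NOne.Flat.WW V F, c x s ∈ L := by
    intro x hx s hs
    rw [mem_conj, inv_inv] at hs
    have hx' : p * x * p⁻¹ ∈ V ⊓ BL M (S : Subgroup G) V F 1 := hAI (NOne.Frame.conj_mem hx)
    have h1 := w.comm_I hP hact hk hx' hs
    have h2 := (mem_normalizer_iff.1 (hPL (inv_mem hp)) _).1 h1
    have e : p⁻¹ * c (p * x * p⁻¹) (p * s * p⁻¹) * p⁻¹⁻¹ = c x s := by rw [c_def, c_def]; group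
    rwa [e] at h2
  have hSA : (S : Subgroup G) ≤ normalizer (A : Set G) := by
    intro s hs
    have h1 : MulAut.conj s • A = A := by
      rw [hA, Subgroup.smul_sup, conj_eq_of_norm (hPd (hP'.le hs)), conj_eq_of_norm (hPL (hP.le hs))]
    rw [mem_normalizer_iff]
    intro y
    constructor
    · intro hy
      rw [← h1]
      exact NOne.Frame.conj_mem hy
    · intro hy
      rw [← h1, mem_conj] at hy
      have e : s⁻¹ * (s * y * s⁻¹) * s = y := by group
      rwa [e] at hy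
  have hWA : MulAut.conj p⁻¹ • NOne.Flat.WW V F ≤ normalizer (A : Set G) := by
    have key : ∀ s ∈ MulAut.conj p⁻¹ • NOne.Flat.WW V F, ∀ x ∈ A, s * x * s⁻¹ ∈ A := by
      intro s hs x hx
      have e : s * x * s⁻¹ = x * c x⁻¹ s := by rw [c_def]; group
      rw [e]
      exact mul_mem hx (le_sup_right (a := d) (hAW x⁻¹ (inv_mem hx) s hs))
    intro s hs
    rw [mem_normalizer_iff]
    intro y
    refine ⟨key s hs y, fun hy => ?_⟩
    have h1 := key s⁻¹ (inv_mem hs) _ hy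
    have e : s⁻¹ * (s * y * s⁻¹) * s⁻¹⁻¹ = y := by group
    rwa [e] at h1
  have hPA : P ≤ normalizer (A : Set G) := hgen.trans (sup_le hSA hWA)
  -- `X = [A, Q]`
  set X : Subgroup G := closure {y | ∃ u ∈ A, ∃ q ∈ o2 P, y = c u q} with hX
  have hQS : o2 P ≤ (S : Subgroup G) := hP.isLoc.o2_le S
  have hQL : o2 P ≤ centralizer (L : Set G) := by
    rw [← hP.inf_centralizer S w.hc]
    exact inf_le_right
  have hXc : X ≤ d := by
    rw [hX, closure_le]
    rintro y ⟨u, hu, q, hq, rfl⟩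
    obtain ⟨l, hl, x, hx, rfl⟩ := mem_sup_of_norm hdL (by rw [sup_comm]; exact hu)
    have hql : q * l⁻¹ * q⁻¹ = l⁻¹ := by
      have h1 := mem_centralizer_iff.1 (hQL hq) l⁻¹ (inv_mem hl)
      rw [← h1, mul_inv_cancel_right]
    have h2 : q * x⁻¹ * q⁻¹ ∈ d := (mem_normalizer_iff.1 (hPd (hP'.le (hQS hq))) _).1 (inv_mem hx)
    have h3 : x * (q * x⁻¹ * q⁻¹) ∈ d := mul_mem hx h2
    have e1 : c (l * x) q = l * (x * (q * x⁻¹ * q⁻¹)) * (q * l⁻¹ * q⁻¹) := by rw [c_def]; group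
    rw [SetLike.mem_coe, e1, hql, w.hyp.V_comm (hLV hl) (hdV h3), mul_inv_cancel_right]
    exact h3
  have hPX : P ≤ normalizer (X : Set G) := by
    have key : ∀ t ∈ P, ∀ x ∈ X, t * x * t⁻¹ ∈ X := by
      intro t ht x hx
      induction hx using closure_induction with
      | mem x hx =>
        obtain ⟨u, hu, q, hq, rfl⟩ := hx
        refine subset_closure ⟨t * u * t⁻¹, (mem_normalizer_iff.1 (hPA ht) _).1 hu, t * q * t⁻¹,
          (mem_normalizer_iff.1 (MinSimple.VModule.le_normalizer_o2 P ht) _).1 hq, ?_⟩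
        rw [c_def, c_def]
        group
      | one => rw [mul_one, mul_inv_cancel]; exact one_mem _
      | mul x y _ _ hx hy =>
        have e : t * (x * y) * t⁻¹ = t * x * t⁻¹ * (t * y * t⁻¹) := by group
        rw [e]
        exact mul_mem hx hy
      | inv x _ hx =>
        have e : t * x⁻¹ * t⁻¹ = (t * x * t⁻¹)⁻¹ := by group
        rw [e]
        exact inv_mem hx
    intro t ht
    rw [mem_normalizer_iff]
    intro x
    refine ⟨key t ht x, fun hx => ?_⟩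
    have h1 := key _ (inv_mem ht) _ hx
    have e : t⁻¹ * (t * x * t⁻¹) * t⁻¹⁻¹ = x := by group
    rwa [e] at h1
  have hX1 : X = ⊥ := by
    by_contra hne
    have h1 := (irr X (hXc.trans hdV) hPX hne).trans hXc
    apply w.mov hP hact
    intro s hs
    rw [mem_centralizer_iff]
    exact fun l hl => NOne.Flat.Hyp.F_comm (w.zl_le_F hP' hpas (h1 hl)) (NOne.Flat.Hyp.W_le_X hs)
  refine le_trans (le_inf hdV fun x hx => ?_) cvq
  rw [mem_centralizer_iff]
  intro q hq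
  have h1 : c x q ∈ X := subset_closure ⟨x, le_sup_left (b := L) hx, q, hq, rfl⟩
  rw [hX1, mem_bot] at h1
  exact (NOThreeL.Low.Key.comm_of_c h1).symm

end WFr

end Cfsg.Agent.Omega.NO3S.Pas

end

section


/-!
# THEOREM ACT (#20049, helper365): two active types of one bad line

`V` FLAT over the bad line `F`, `B ⊴ C_G(F)` abelian (the group generated by the good lines), the KEY `Pas.Key V F B`
(it holds if `|V ∩ B : F| ≤ |V : E|`: `Pas.key_of_le`); `P₀, P` two active types (`Act`) with lines `L = V_{P₀}`, `c = V_P` in `B`; the conjugates of the lines under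
`P₀`, `P` which are in `E` are in `B`.

* `AA.good_le` : `g ∈ P₀`, `P₀ = ⟨S^g, W⟩`, `c^g ≤ E` ⟹ `c ≤ L`;
* `AA.bad` : `g ∈ P₀`, `c^g ≰ E` ⟹ `V ∩ B = L F` and there is a point `R` of `c` with `R^g ≤ L`, `R^g ∩ F = 1`,
  `[V, C_W(L)] ≤ R^g [L, W]`, `R^g ⊆ {[v, b] | v ∈ V, b ∈ C_W(L)}`;
* `AA.eq` **(THEOREM ACT)** : `c = L`.
-/

set_option autoImplicit false
set_option linter.unusedSectionVars false

namespace Cfsg.Agent.Omega.NO3S.ActT

open Subgroup Cfsg Cfsg.Agent.ZN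
open Cfsg.Agent.ZN.ChoiceBase (cj mem_cj cj_mono)
open Cfsg.Agent.Omega.NoFF.Basic
open Cfsg.Agent.Omega.MinPar
open Cfsg.Agent.Omega.FFThm (StmtM)
open Cfsg.Agent.Omega.NOThreeL.NF (MinOffM RP pts)
open Cfsg.Agent.Omega.NOThreeL.NF.NatR (Const)
open Cfsg.Agent.Omega.NOThreeL.Low.Key (BH conj_eq_of_norm' norm_conj_mem c_eq_one')
open Cfsg.Agent.Omega.NOne
open Cfsg.Agent.Omega.NOne.NearFF (c_def c_inv)
open Cfsg.Agent.Omega.NO3S.BetaFF (BB)
open Cfsg.Agent.MinSimple.VModule (le_normalizer_zl)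
open scoped Pointwise commutatorElement

universe u

local notation "cm" => Cfsg.Agent.Omega.NOne.NearFF.c

variable {G : Type u} [Group G] [Finite G]

/-- Two active types of one bad line. -/
structure AA (S : Sylow 2 G) (P₀ P V F B : Subgroup G) : Prop where
  a₀ : BetaFF.Act S P₀ V F
  a : BetaFF.Act S P V F
  bh : BH V F B
  LB : zl (S : Subgroup G) P₀ ≤ B
  cB : zl (S : Subgroup G) P ≤ B
  hk : Pas.Key V F B
  good₀ : ∀ g ∈ P₀, MulAut.conj g • zl (S : Subgroup G) P ≤ Flat.EE V F → MulAut.conj g • zl (S : Subgroup G) P ≤ B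
  good : ∀ g ∈ P, MulAut.conj g • zl (S : Subgroup G) P₀ ≤ Flat.EE V F → MulAut.conj g • zl (S : Subgroup G) P₀ ≤ B

theorem conj_smul_eq_cj' (g : G) (H : Subgroup G) : MulAut.conj g • H = cj g H := rfl

/-- `s` normalises `A ⊔ B` if it normalises both. -/
theorem le_normalizer_sup' {K A B : Subgroup G} (hA : K ≤ normalizer (A : Set G)) (hB : K ≤ normalizer (B : Set G)) :
    K ≤ normalizer ((A ⊔ B : Subgroup G) : Set G) := by
  intro x hx
  rw [ChoiceBase.mem_normalizer_iff_cj]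
  have h1 := ChoiceBase.cj_eq_of_mem_normalizer (hA hx)
  have h2 := ChoiceBase.cj_eq_of_mem_normalizer (hB hx)
  have h3 : cj x (A ⊔ B) = cj x A ⊔ cj x B := map_sup _ _ _
  rw [h3, h1, h2]

namespace AA

variable {S : Sylow 2 G} {P₀ P V F B : Subgroup G} (h : AA S P₀ P V F B)
include h

theorem symm : AA S P P₀ V F B := ⟨h.a, h.a₀, h.bh, h.cB, h.LB, h.hk, h.good, h.good₀⟩

theorem hyp : Flat.Hyp V F := h.bh.toHyp

theorem L_le_I : zl (S : Subgroup G) P₀ ≤ V ⊓ B := le_inf h.a₀.LV h.LB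

theorem not_L_le_F : ¬ zl (S : Subgroup G) P₀ ≤ F := by
  intro hle
  apply h.a₀.mov
  intro w hw
  rw [mem_centralizer_iff]
  exact fun l hl => Flat.Hyp.F_comm (hle hl) (Flat.Hyp.W_le_X hw)

theorem exists_l : ∃ l ∈ zl (S : Subgroup G) P₀, l ∉ F := SetLike.not_le_iff_exists.1 h.not_L_le_F

theorem exists_b : ∃ b ∈ B, b ∉ Flat.NN V F :=
  h.bh.exists_not_mem_NN fun hle => h.not_L_le_F (h.L_le_I.trans hle)

/-- `B` centralises `L` -/
theorem B_le_BB : B ≤ BB V F (zl (S : Subgroup G) P₀) :=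
  le_inf h.bh.le_W (comm_symm (h.LB.trans h.bh.abel))

/-- `[r, W] = [r', W]` for `r, r' ∈ V ∩ B - F` -/
theorem root' {r r' s : G} (hr : r ∈ V ⊓ B) (hrF : r ∉ F) (hr' : r' ∈ V ⊓ B) (hrF' : r' ∉ F) (hs : s ∈ Flat.WW V F) :
    ∃ s' ∈ Flat.WW V F, cm r' s' = cm r s := by
  obtain ⟨b, hb, hbN⟩ := h.exists_b
  exact (h.hk r' hr' hrF' b hb hbN _).2 ((h.hk r hr hrF b hb hbN _).1 ⟨s, hs, rfl⟩)

theorem const : Const (zl (S : Subgroup G) P₀) (Flat.WW V F) := by
  intro x hx hxc y hy hyc a ha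
  have hn : ∀ z : G, z ∉ centralizer (Flat.WW V F : Set G) → z ∉ F := by
    intro z hz hzF
    apply hz
    rw [mem_centralizer_iff]
    exact fun w hw => (Flat.Hyp.F_comm hzF (Flat.Hyp.W_le_X hw)).symm
  obtain ⟨s, hs, h1⟩ := h.root' (h.L_le_I hx) (hn x hxc) (h.L_le_I hy) (hn y hyc) ha
  refine ⟨s, hs, ?_⟩
  have e1 : a * x * a⁻¹ * x⁻¹ = (cm x a)⁻¹ := by rw [c_def]; group
  have e2 : s * y * s⁻¹ * y⁻¹ = (cm y s)⁻¹ := by rw [c_def]; group
  rw [e1, e2, h1]

theorem min₀ (hFF : StmtM.{u}) : MinOffM (zl (S : Subgroup G) P₀) (S : Subgroup G) (Flat.WW V F) :=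
  (pack hFF h.a₀ h.const).1

theorem rp₀ (hFF : StmtM.{u}) : RP (S : Subgroup G) P₀ := (pack hFF h.a₀ h.const).2.1

theorem tl₀ (hFF : StmtM.{u}) : TL (S : Subgroup G) P₀ (Flat.WW V F) := (pack hFF h.a₀ h.const).2.2

/-- `[r, W] ≤ ρ = [L, W]` for `r ∈ V ∩ B` -/
theorem c_mem_rho {r s : G} (hr : r ∈ V ⊓ B) (hs : s ∈ Flat.WW V F) :
    cm r s ∈ ⁅zl (S : Subgroup G) P₀, Flat.WW V F⁆ := by
  by_cases hrF : r ∈ F
  · rw [Flat.Hyp.c_F hrF hs]
    exact one_mem _
  · obtain ⟨l, hl, hlF⟩ := h.exists_l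
    obtain ⟨s', hs', h1⟩ := h.root' hr hrF (h.L_le_I hl) hlF hs
    rw [← h1]
    exact commutator_mem_commutator hl hs'

theorem rho_le' : ⁅zl (S : Subgroup G) P, Flat.WW V F⁆ ≤ ⁅zl (S : Subgroup G) P₀, Flat.WW V F⁆ := by
  rw [commutator_le]
  intro x hx w hw
  exact h.c_mem_rho (h.symm.L_le_I hx) hw

theorem rho_eq : ⁅zl (S : Subgroup G) P, Flat.WW V F⁆ = ⁅zl (S : Subgroup G) P₀, Flat.WW V F⁆ :=
  le_antisymm h.rho_le' h.symm.rho_le'

theorem rho_le : ⁅zl (S : Subgroup G) P₀, Flat.WW V F⁆ ≤ zl (S : Subgroup G) P₀ := by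
  rw [commutator_le]
  intro x hx w hw
  have h1 : w * x⁻¹ * w⁻¹ ∈ zl (S : Subgroup G) P₀ := norm_conj_mem (h.a₀.PL (h.a₀.WP hw)) (inv_mem hx)
  have e : ⁅x, w⁆ = x * (w * x⁻¹ * w⁻¹) := by rw [commutatorElement_def]; group
  rw [e]
  exact mul_mem hx h1

theorem rho_ne : ⁅zl (S : Subgroup G) P₀, Flat.WW V F⁆ ≠ ⊥ := by
  intro h0
  apply h.a₀.mov
  rw [commutator_eq_bot_iff_le_centralizer] at h0
  exact comm_symm h0

theorem pts_eq : pts (zl (S : Subgroup G) P) (S : Subgroup G) (Flat.WW V F) =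
    pts (zl (S : Subgroup G) P₀) (S : Subgroup G) (Flat.WW V F) := by
  unfold pts
  rw [h.rho_eq]

theorem pts_le {r : Subgroup G} (hr : r ∈ pts (zl (S : Subgroup G) P₀) (S : Subgroup G) (Flat.WW V F)) :
    r ≤ zl (S : Subgroup G) P₀ := by
  obtain ⟨s, hs, rfl⟩ := hr
  have h1 := cj_mono s h.rho_le
  rwa [ChoiceBase.cj_eq_of_mem_normalizer (h.a₀.PL (h.a₀.SP hs))] at h1

theorem card_pts {r : Subgroup G} (hr : r ∈ pts (zl (S : Subgroup G) P₀) (S : Subgroup G) (Flat.WW V F)) :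
    Nat.card r = Nat.card ↥(⁅zl (S : Subgroup G) P₀, Flat.WW V F⁆ : Subgroup G) := by
  obtain ⟨s, -, rfl⟩ := hr
  exact ChoiceBase.card_cj _ _

/-- `|L| = |c|` -/
theorem card_eq (hFF : StmtM.{u}) : Nat.card (zl (S : Subgroup G) P) = Nat.card (zl (S : Subgroup G) P₀) := by
  rw [(h.rp₀ hFF).cardV _ (h.min₀ hFF), (h.symm.rp₀ hFF).cardV _ (h.symm.min₀ hFF), h.pts_eq, h.rho_eq]

theorem eq_of_le (hFF : StmtM.{u}) (hle : zl (S : Subgroup G) P ≤ zl (S : Subgroup G) P₀) :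
    zl (S : Subgroup G) P = zl (S : Subgroup G) P₀ :=
  Subgroup.eq_of_le_of_card_ge hle (h.card_eq hFF).ge

/-- `|ρ| = |L : L ∩ F|` -/
theorem card_rho (hFF : StmtM.{u}) : Nat.card ↥(⁅zl (S : Subgroup G) P₀, Flat.WW V F⁆ : Subgroup G) =
    F.relIndex (zl (S : Subgroup G) P₀) := by
  rw [(h.rp₀ hFF).card _ (h.min₀ hFF), h.a₀.exact hFF, h.a₀.relIndex_F]

/-! ### The good case -/

/-- an element of `L` or `c` and `W` -/
theorem W_norm {M : Subgroup G} (hM : M ≤ V ⊓ B) (hρ : ⁅zl (S : Subgroup G) P₀, Flat.WW V F⁆ ≤ M) :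
    Flat.WW V F ≤ normalizer (M : Set G) := by
  have key : ∀ w ∈ Flat.WW V F, ∀ x ∈ M, w * x * w⁻¹ ∈ M := by
    intro w hw x hx
    have h1 := hρ (h.c_mem_rho (hM hx) hw)
    have e : w * x * w⁻¹ = (cm x w)⁻¹ * x := by rw [c_def]; group
    rw [e]
    exact mul_mem (inv_mem h1) hx
  intro w hw
  rw [mem_normalizer_iff]
  intro x
  refine ⟨key w hw x, fun hx => ?_⟩
  have h1 := key _ (inv_mem hw) _ hx
  have e : w⁻¹ * (w * x * w⁻¹) * w⁻¹⁻¹ = x := by group
  rwa [e] at h1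

/-- **The good case.** -/
theorem good_le (hFF : StmtM.{u}) {g : G} (hg : g ∈ P₀) (hgen : P₀ ≤ cj g (S : Subgroup G) ⊔ Flat.WW V F)
    (hE : MulAut.conj g • zl (S : Subgroup G) P ≤ Flat.EE V F) :
    zl (S : Subgroup G) P ≤ zl (S : Subgroup G) P₀ := by
  set L := zl (S : Subgroup G) P₀ with hL
  set d := zl (S : Subgroup G) P with hd
  have hSP₀ := h.a₀.SP
  have hB := h.good₀ g hg hE
  have hV : MulAut.conj g • d ≤ V := hE.trans inf_le_left
  have hdV : d ≤ V := h.a.LV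
  have hLV : L ≤ V := h.a₀.LV
  have hLg : cj g L = L := ChoiceBase.cj_eq_of_mem_normalizer (h.a₀.PL hg)
  -- `M = c^g L` is normalised by `P₀`
  have hMI : MulAut.conj g • d ⊔ L ≤ V ⊓ B := sup_le (le_inf hV hB) h.L_le_I
  have hP₀M' : P₀ ≤ normalizer ((MulAut.conj g • d ⊔ L : Subgroup G) : Set G) := by
    refine hgen.trans (sup_le ?_ (h.W_norm hMI (h.rho_le.trans le_sup_right)))
    refine le_normalizer_sup' ?_ ?_
    · have h1 := cj_mono g (h.a.PL.trans' h.a.SP : (S : Subgroup G) ≤ normalizer (d : Set G))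
      rwa [ChoiceBase.cj_normalizer] at h1
    · have h1 := cj_mono g (h.a₀.PL.trans' h.a₀.SP : (S : Subgroup G) ≤ normalizer (L : Set G))
      rwa [ChoiceBase.cj_normalizer, hLg] at h1
  have hMeq : MulAut.conj g • d ⊔ L = d ⊔ L := by
    have h1 := ChoiceBase.cj_eq_of_mem_normalizer (hP₀M' (inv_mem hg))
    have h2 : cj g⁻¹ (MulAut.conj g • d ⊔ L) = cj g⁻¹ (cj g d) ⊔ cj g⁻¹ L := map_sup _ _ _
    rw [h2, ChoiceBase.cj_inv_cj, ChoiceBase.cj_eq_of_mem_normalizer (h.a₀.PL (inv_mem hg))] at h1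
    exact h1.symm
  have hP₀M : P₀ ≤ normalizer ((d ⊔ L : Subgroup G) : Set G) := hMeq ▸ hP₀M'
  -- `X = [M, Q]`
  have hQ := h.a₀.o2_eq
  set X : Subgroup G := ⁅(d ⊔ L : Subgroup G), o2 P₀⁆ with hX
  have hLn : L ≤ normalizer (d : Set G) := (h.hyp.comm.trans (centralizer_le hdV)).trans'
    hLV |>.trans (centralizer_le_normalizer _)
  have hXd : X ≤ d := by
    rw [hX, commutator_le]
    intro x hx q hq
    rw [← hQ] at hq
    obtain ⟨a, ha, l, hl, rfl⟩ := Pas.mem_sup_of_norm hLn hx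
    have e1 : ⁅a * l, q⁆ = a * (l * (q * l⁻¹ * q⁻¹)) * (q * a⁻¹ * q⁻¹) := by
      rw [commutatorElement_def]; group
    have e2 : q * l⁻¹ * q⁻¹ = l⁻¹ := by
      have := mem_centralizer_iff.1 hq.2 l⁻¹ (inv_mem hl)
      rw [← this, mul_inv_cancel_right]
    rw [e1, e2, mul_inv_cancel, mul_one]
    exact mul_mem ha (norm_conj_mem (h.a.PL (h.a.SP hq.1)) (inv_mem ha))
  have hP₀X : P₀ ≤ normalizer (X : Set G) := by
    intro x hx
    rw [ChoiceBase.mem_normalizer_iff_cj]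
    have h1 : cj x X = ⁅cj x (d ⊔ L : Subgroup G), cj x (o2 P₀)⁆ := map_commutator _ _ _
    rw [h1, ChoiceBase.cj_eq_of_mem_normalizer (hP₀M hx),
      ChoiceBase.cj_eq_of_mem_normalizer (le_normalizer_o2 P₀ hx)]
  by_cases hX1 : X = ⊥
  · rw [hX, commutator_eq_bot_iff_le_centralizer] at hX1
    exact (le_inf hdV (le_sup_left.trans hX1) : d ≤ BetaFF.Act.CQ P₀ V).trans (h.a₀.cent_VQ hFF).le
  · have hXS : X ≤ (S : Subgroup G) := hXd.trans ((h.a.LE.trans Flat.Hyp.E_le_W).trans h.a.WS)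
    obtain ⟨z, hz, hz1, hzX⟩ := NOThreeL.FFB.exists_zc hXS (fun x hx => h.hyp.sq x (hdV (hXd hx)))
      (hSP₀.trans hP₀X) hX1
    have h1 := ((h.rp₀ hFF).irr z hz hz1 X hP₀X hzX).trans hXd
    exact (h.symm.eq_of_le hFF h1).ge

/-! ### The bad case -/

/-- **The bad case.** -/
theorem bad (hFF : StmtM.{u}) {g : G} (hg : g ∈ P₀) (hb : ¬ MulAut.conj g • zl (S : Subgroup G) P ≤ Flat.EE V F) :
    ∃ R ∈ pts (zl (S : Subgroup G) P) (S : Subgroup G) (Flat.WW V F),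
      V ⊓ B = zl (S : Subgroup G) P₀ ⊔ F ∧ cj g R ≤ zl (S : Subgroup G) P₀ ∧ cj g R ⊓ F = ⊥ ∧
      (∀ v ∈ V, ∀ b ∈ BB V F (zl (S : Subgroup G) P₀),
        cm v b ∈ cj g R ⊔ ⁅zl (S : Subgroup G) P₀, Flat.WW V F⁆) ∧
      ∀ y ∈ cj g R, ∃ v ∈ V, ∃ b ∈ BB V F (zl (S : Subgroup G) P₀), cm v b = y := by
  obtain ⟨ι, R, N, hR, hN, hgen, htri, hsur⟩ := (h.symm.tl₀ hFF).blocks
  set L := zl (S : Subgroup G) P₀ with hL
  set d := zl (S : Subgroup G) P with hd
  have hSP₀ := h.a₀.SP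
  have hdV : d ≤ V := h.a.LV
  have hLg : cj g L = L := ChoiceBase.cj_eq_of_mem_normalizer (h.a₀.PL hg)
  have hVg : cj g V = V := ChoiceBase.cj_eq_of_mem_normalizer (h.a₀.PV hg)
  obtain ⟨i, hi⟩ : ∃ i, ¬ cj g (N i) ≤ Flat.EE V F := by
    by_contra hall
    push Not at hall
    apply hb
    refine (cj_mono g hgen).trans ?_
    exact Pas.conj_iSup_le (g := g) (H := N) hall
  obtain ⟨e, he, heE⟩ := SetLike.not_le_iff_exists.1 hi
  have hRL : R i ≤ L := h.pts_le (h.pts_eq ▸ hR i)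
  have hRL' : cj g (R i) ≤ L := by
    have h1 := cj_mono g hRL
    rwa [hLg] at h1
  have hNV : cj g (N i) ≤ V := by
    have h1 := cj_mono g ((hN i).trans hdV)
    rwa [hVg] at h1
  -- the elements of `C_W(L)`, conjugated by `g⁻¹`
  have ht : ∀ b ∈ BB V F L, g⁻¹ * b * g ∈ (S : Subgroup G) ∧ CP (S : Subgroup G) P (Flat.WW V F) (g⁻¹ * b * g) := by
    intro b hbb
    have h1 : b ∈ o2 P₀ := h.a₀.BB_le_o2 hbb
    have h2 : g⁻¹ * b * g⁻¹⁻¹ ∈ o2 P₀ := norm_conj_mem (le_normalizer_o2 P₀ (inv_mem hg)) h1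
    rw [inv_inv, ← h.a₀.o2_eq] at h2
    refine ⟨h2.1, fun r hr y hy => ?_⟩
    exact (mem_centralizer_iff.1 h2.2 y (h.pts_le (h.pts_eq ▸ hr) hy)).symm
  have hcR : ∀ v ∈ cj g (N i), ∀ b ∈ BB V F L, cm v b ∈ cj g (R i) := by
    intro v hv b hbb
    rw [mem_cj] at hv ⊢
    have h1 := htri _ (ht b hbb).1 (ht b hbb).2 i _ hv
    have e1 : g⁻¹ * cm v b * g = cm (g⁻¹ * v * g) (g⁻¹ * b * g) := by rw [c_def, c_def]; group
    rwa [e1]
  have hsR : ∀ v ∈ cj g (N i), ∀ b ∈ BB V F L, cm v b ≠ 1 → ∀ y ∈ cj g (R i), ∃ v' ∈ cj g (N i), cm v' b = y := by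
    intro v hv b hbb hne y hy
    rw [mem_cj] at hv hy
    have e1 : g⁻¹ * cm v b * g = cm (g⁻¹ * v * g) (g⁻¹ * b * g) := by rw [c_def, c_def]; group
    obtain ⟨v', hv', h1⟩ := hsur _ (ht b hbb).1 (ht b hbb).2 i _ hv (fun h0 => hne (by
      rw [← e1] at h0
      have e2 : cm v b = g * (g⁻¹ * cm v b * g) * g⁻¹ := by group
      rw [e2, h0, mul_one, mul_inv_cancel])) _ hy
    refine ⟨g * v' * g⁻¹, ?_, ?_⟩
    · rw [mem_cj]
      have e2 : g⁻¹ * (g * v' * g⁻¹) * g = v' := by group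
      rwa [e2]
    · have e2 : cm (g * v' * g⁻¹) b = g * cm v' (g⁻¹ * b * g) * g⁻¹ := by rw [c_def, c_def]; group
      rw [e2, h1]; group
  have heV : e ∈ V := hNV he
  have hBB := h.B_le_BB
  -- `I = L F`
  have hspan : ∀ y ∈ V ⊓ B, ∃ b ∈ B, (cm e b)⁻¹ * y ∈ F := fun y hy => h.bh.surj heV heE hy
  have hI : V ⊓ B = L ⊔ F := by
    refine le_antisymm (fun y hy => ?_) (sup_le h.L_le_I h.bh.F_le_I)
    obtain ⟨b, hbB, hyF⟩ := hspan y hy
    have e1 : y = cm e b * ((cm e b)⁻¹ * y) := by group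
    rw [e1]
    exact mul_mem ((le_sup_left : L ≤ _) (hRL' (hcR e he b (hBB hbB)))) ((le_sup_right : F ≤ _) hyF)
  obtain ⟨b₁, hb₁, hb₁N⟩ := h.exists_b
  have hne1 : cm e b₁ ≠ 1 := by
    intro h0
    apply hb₁N
    refine h.bh.mem_NN_of_c heV heE hb₁ ?_
    rw [h0]
    exact one_mem _
  -- `R^g ∩ F = 1`
  have hRF : cj g (R i) ⊓ F = ⊥ := by
    have h1 : F.relIndex (V ⊓ B) ≤ F.relIndex (cj g (R i)) := by
      refine Pas.relIndex_le_of_span fun y hy => ?_
      obtain ⟨b, hbB, hyF⟩ := hspan y hy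
      exact ⟨cm e b, hcR e he b (hBB hbB), h.bh.c_memI heV hbB, hyF⟩
    have h2 : Nat.card (cj g (R i)) = F.relIndex L := by
      rw [ChoiceBase.card_cj, h.card_pts (h.pts_eq ▸ hR i), h.card_rho hFF]
    have h3 : F.relIndex L ≤ F.relIndex (V ⊓ B) := relIndex_le_of_le_right h.L_le_I (BetaFF.rne _ _)
    have h4 := NOThreeL.Star.rel_mul_card (cj g (R i)) F
    have h5 : Nat.card (cj g (R i)) ≤ F.relIndex (cj g (R i)) := by rw [h2]; exact h3.trans h1
    have h6 : 0 < Nat.card ↥(cj g (R i) ⊓ F) := Nat.card_pos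
    have h7 : 0 < F.relIndex (cj g (R i)) := Nat.pos_of_ne_zero (BetaFF.rne _ _)
    rw [← Subgroup.card_eq_one]
    by_contra hne
    have h8 : 2 ≤ Nat.card ↥(cj g (R i) ⊓ F) := by omega
    have h9 := Nat.mul_le_mul_left (F.relIndex (cj g (R i))) h8
    rw [h4] at h9
    omega
  refine ⟨R i, hR i, hI, hRL', hRF, ?_, ?_⟩
  · intro v hv b hbb
    have hbW : b ∈ Flat.WW V F := hbb.1
    have hb₁W : b₁ ∈ Flat.WW V F := h.bh.le_W hb₁
    -- `v ∈ N^g E`
    obtain ⟨b₂, hb₂, h1⟩ := hspan _ (h.bh.c_memI hv hb₁)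
    obtain ⟨n, hn, h2⟩ := hsR e he b₁ (hBB hb₁) hne1 _ (hcR e he b₂ (hBB hb₂))
    have hnV := hNV hn
    have h3 : n⁻¹ * v ∈ Flat.EE V F := by
      refine h.bh.mem_E_of_c (mul_mem (inv_mem hnV) hv) hb₁ hb₁N ?_
      rw [h.hyp.c_mul_left (inv_mem hnV) hv hb₁W, h.hyp.c_inv_left hnV hb₁W, h2]
      exact h1
    have h4 : cm v b = cm n b * cm (n⁻¹ * v) b := by
      rw [← h.hyp.c_mul_left hnV h3.1 hbW, mul_inv_cancel_left]
    obtain ⟨s, hs, h5⟩ := h.hyp.surj heV heE h3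
    have h6 : cm (cm e s) b = cm (n⁻¹ * v) b :=
      h.hyp.c_congr_left (h.hyp.c_memV heV hs) h3.1 hbW (h.hyp.inv_mul_mem (h.hyp.c_memV heV hs) h3.1 h5)
    rw [h4, ← h6, h.hyp.beta_comm heV hs hbW]
    exact mul_mem ((le_sup_left : cj g (R i) ≤ _) (hcR n hn b hbb))
      ((le_sup_right : ⁅L, Flat.WW V F⁆ ≤ _) (commutator_mem_commutator (hRL' (hcR e he b hbb)) hs))
  · intro y hy
    obtain ⟨v, hv, h1⟩ := hsR e he b₁ (hBB hb₁) hne1 y hy
    exact ⟨v, hNV hv, b₁, hBB hb₁, h1⟩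

/-- **THEOREM ACT.** -/
theorem eq (hFF : StmtM.{u}) : zl (S : Subgroup G) P = zl (S : Subgroup G) P₀ := by
  obtain ⟨g₀, hg₀, hgen₀, -, -⟩ := (h.tl₀ hFF).gen
  obtain ⟨g, hg, hgen, htop, -⟩ := (h.symm.tl₀ hFF).gen
  by_cases hb₀ : MulAut.conj g₀ • zl (S : Subgroup G) P ≤ Flat.EE V F
  · exact h.eq_of_le hFF (h.good_le hFF hg₀ hgen₀ hb₀)
  by_cases hb : MulAut.conj g • zl (S : Subgroup G) P₀ ≤ Flat.EE V F
  · exact (h.symm.eq_of_le hFF (h.symm.good_le hFF hg hgen hb)).symm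
  -- both bad
  obtain ⟨R, -, -, hRL, -, hall, -⟩ := h.bad hFF hg₀ hb₀
  obtain ⟨R', hR', hI, hRd, hRF, -, hex⟩ := h.symm.bad hFF hg hb
  refine h.eq_of_le hFF ?_
  have hρ := h.rho_le
  -- `R'^g ≤ L`
  have h1 : cj g R' ≤ zl (S : Subgroup G) P₀ := by
    intro y hy
    obtain ⟨v, hv, b, hbb, rfl⟩ := hex y hy
    have h2 : b ∈ BB V F (zl (S : Subgroup G) P₀) := by
      refine ⟨hbb.1, mem_centralizer_iff.2 fun l hl => ?_⟩
      have h3 : l ∈ zl (S : Subgroup G) P ⊔ F := by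
        rw [← hI]; exact h.L_le_I hl
      have h4 : zl (S : Subgroup G) P ⊔ F ≤ centralizer ({b} : Set G) := by
        refine sup_le (fun x hx => ?_) fun x hx => ?_
        · rw [mem_centralizer_singleton_iff]
          exact mem_centralizer_iff.1 hbb.2 x hx
        · rw [mem_centralizer_singleton_iff]
          exact Flat.Hyp.F_comm hx (Flat.Hyp.W_le_X hbb.1)
      exact mem_centralizer_singleton_iff.1 (h4 h3)
    exact (sup_le hRL hρ) (hall v hv b h2)
  -- `R'^g` does not commute with `W`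
  have h2 : ¬ cj g R' ≤ centralizer (Flat.WW V F : Set G) := by
    intro hcon
    have h3 : cj g R' ≤ F := by
      rw [← h.hyp.cent_VW]
      exact le_inf (h1.trans h.a₀.LV) hcon
    have h4 : cj g R' = ⊥ := by
      rw [← hRF]
      exact (inf_eq_left.2 h3).symm
    have h5 : R' = ⊥ := by
      rw [← ChoiceBase.cj_inv_cj g R', h4]
      exact map_bot _
    obtain ⟨s, -, h6⟩ := hR'
    rw [h5] at h6
    apply h.rho_ne
    rw [← ChoiceBase.cj_inv_cj s ⁅zl (S : Subgroup G) P₀, Flat.WW V F⁆, ← h6]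
    exact map_bot _
  have hR'' : R' ∈ pts (zl (S : Subgroup G) P) (S : Subgroup G) (Flat.WW V F) := by
    rw [h.pts_eq]; exact hR'
  refine (htop R' hR'' h2).trans (iSup_le fun s => ?_)
  have h3 : cj g R' ⊔ ⁅zl (S : Subgroup G) P, Flat.WW V F⁆ ≤ zl (S : Subgroup G) P₀ :=
    sup_le h1 (h.rho_eq ▸ hρ)
  have h4 := cj_mono (s : G) h3
  rwa [ChoiceBase.cj_eq_of_mem_normalizer (h.a₀.PL (h.a₀.SP s.2))] at h4

end AA

end Cfsg.Agent.Omega.NO3S.ActT

end

section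


/-!
# THEOREM ACT (#20049, helper365) over the front of the W-stage

* `WFr.aa` : the structure `AA` for two active types `P₀, P` of the front `WFr`, `B` the group of the good lines at
  distance `≤ n`, `n ≥ 1`;
* `WFr.act_eq` **(THEOREM ACT)** : `V_P = V_{P₀}`.
-/

set_option autoImplicit false
set_option linter.unusedSectionVars false

namespace Cfsg.Agent.Omega.NO3S.Pas

open Subgroup Cfsg Cfsg.Agent.ZN Cfsg.Agent.Omega.MinPar Cfsg.Agent.Omega.Frame Cfsg.Agent.Omega.FrameNOFF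
open Cfsg.Agent.Omega.NOThreeL.Low (Fr Ch BB)
open Cfsg.Agent.Omega.FrameFF (cv)
open scoped Pointwise

universe u

variable {G : Type u} [Group G] [Finite G] {S : Sylow 2 G} {M P₀ P V F : Subgroup G} {n : ℕ}

/-- `n ≥ 1`: the lines `V_R^p`, `p ∈ R'`, which are in `E` are in `B`; also `V_R ≤ B`. -/
theorem WFr.good_le_BL (w : WFr S M V F) (hn : 1 ≤ n) {R R' : Subgroup G} (hR : IsParS (S : Subgroup G) R)
    (hR' : IsParS (S : Subgroup G) R') {p : G} (hp : p ∈ R')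
    (hE : MulAut.conj p • zl (S : Subgroup G) R ≤ NOne.Flat.EE V F) :
    MulAut.conj p • zl (S : Subgroup G) R ≤ BL M (S : Subgroup G) V F n :=
  (Fr.le_BB' (Fr.mem_Gd hn (w.ch_par hR' hp) hR hE)).trans le_sup_left

theorem WFr.zl_le_BL' (w : WFr S M V F) (n : ℕ) {R : Subgroup G} (hR : IsParS (S : Subgroup G) R) :
    zl (S : Subgroup G) R ≤ BL M (S : Subgroup G) V F n := by
  have h1 : MulAut.conj (1 : G) • zl (S : Subgroup G) R ≤ NOne.Flat.EE V F := by
    rw [map_one, one_smul]; exact w.zl_le_E hR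
  have h2 := (Fr.le_BB' (Fr.mem_Gd (Nat.zero_le n) w.ch_one hR h1)).trans
    (le_sup_left : BB M (S : Subgroup G) V F n ≤ BL M (S : Subgroup G) V F n)
  rwa [map_one, one_smul] at h2

/-- Two active types over the front. -/
theorem WFr.aa (w : WFr S M V F) (h : Fr S M V F n) (hn : 1 ≤ n) (hk : Key V F (BL M (S : Subgroup G) V F n))
    (hP₀ : IsParS (S : Subgroup G) P₀) (hcv₀ : cv (S : Subgroup G) P₀ = ⊥) (hact₀ : ¬ NOne.Flat.WW V F ≤ o2 P₀)
    (hP : IsParS (S : Subgroup G) P) (hcv : cv (S : Subgroup G) P = ⊥) (hact : ¬ NOne.Flat.WW V F ≤ o2 P) :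
    ActT.AA S P₀ P V F (BL M (S : Subgroup G) V F n) where
  a₀ := w.act hP₀ hcv₀ hact₀
  a := w.act hP hcv hact
  bh := bh h
  LB := w.zl_le_BL' n hP₀
  cB := w.zl_le_BL' n hP
  hk := hk
  good₀ := fun _ hg hE => w.good_le_BL hn hP hP₀ hg hE
  good := fun _ hg hE => w.good_le_BL hn hP₀ hP hg hE

/-- **THEOREM ACT**: two active types (`W ≰ O₂(P)`) with `C_Z(P) = 1` have the same line. -/
theorem WFr.act_eq (w : WFr S M V F) (h : Fr S M V F n) (hn : 1 ≤ n) (hFF : FFThm.StmtM.{u})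
    (hk : Key V F (BL M (S : Subgroup G) V F n))
    (hP₀ : IsParS (S : Subgroup G) P₀) (hcv₀ : cv (S : Subgroup G) P₀ = ⊥) (hact₀ : ¬ NOne.Flat.WW V F ≤ o2 P₀)
    (hP : IsParS (S : Subgroup G) P) (hcv : cv (S : Subgroup G) P = ⊥) (hact : ¬ NOne.Flat.WW V F ≤ o2 P) :
    zl (S : Subgroup G) P = zl (S : Subgroup G) P₀ :=
  (w.aa h hn hk hP₀ hcv₀ hact₀ hP hcv hact).eq hFF

end Cfsg.Agent.Omega.NO3S.Pas

end

section


/-!
# Active types have `C_Z(P) = 1` (helper365, #20924 (0), #21048)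

`V` FLAT over the bad line `F`, the KEY, `P₀` an active type with `C_Z(P₀) = 1`.

* `AZ.cv_eq` : `C_{V_P}(O²(P)) = 1` for every active type `P` with `V_P ≤ B`;
* `WFr.cv_eq` : the same over the front;
* `WFr.act_eq'` **(THEOREM ACT)** : `V_P = V_{P₀}` for ALL active types `P`.
-/

set_option autoImplicit false
set_option linter.unusedSectionVars false

namespace Cfsg.Agent.Omega.NO3S.ActT

open Subgroup Cfsg Cfsg.Agent.ZN
open Cfsg.Agent.ZN.ChoiceBase (cj mem_cj cj_mono)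
open Cfsg.Agent.Omega.MinPar
open Cfsg.Agent.Omega.FFThm (StmtM OffM ElemM relIndex_le_iff)
open Cfsg.Agent.Omega.FrameFF (cv)
open Cfsg.Agent.Omega.NOThreeL.NF (MinOffM RP pts)
open Cfsg.Agent.Omega.NOThreeL.NF.NatR (Const)
open Cfsg.Agent.Omega.NOThreeL.Low.Key (BH)
open Cfsg.Agent.Omega.NOne
open Cfsg.Agent.Omega.NOne.NearFF (c_def)
open Cfsg.Agent.MinSimple.VModule (oddGen le_normalizer_oddGen)
open scoped Pointwise commutatorElement

universe u

local notation "cm" => Cfsg.Agent.Omega.NOne.NearFF.c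

variable {G : Type u} [Group G] [Finite G]

/-- the KEY gives constant commutators -/
theorem const_of_key {V F B X : Subgroup G} (bh : BH V F B) (hk : Pas.Key V F B) (hX : X ≤ V ⊓ B) :
    Const X (Flat.WW V F) := by
  intro x hx hxc y hy hyc a ha
  have hn : ∀ z : G, z ∉ centralizer (Flat.WW V F : Set G) → z ∉ F := by
    intro z hz hzF
    apply hz
    rw [mem_centralizer_iff]
    exact fun w hw => (Flat.Hyp.F_comm hzF (Flat.Hyp.W_le_X hw)).symm
  obtain ⟨b, hb, hbN⟩ := bh.exists_not_mem_NN fun hle => hn x hxc (hle (hX hx))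
  obtain ⟨s, hs, h1⟩ := (hk y (hX hy) (hn y hyc) b hb hbN _).2 ((hk x (hX hx) (hn x hxc) b hb hbN _).1 ⟨a, ha, rfl⟩)
  refine ⟨s, hs, ?_⟩
  have e1 : a * x * a⁻¹ * x⁻¹ = (cm x a)⁻¹ := by rw [c_def]; group
  have e2 : s * y * s⁻¹ * y⁻¹ = (cm y s)⁻¹ := by rw [c_def]; group
  rw [e1, e2, h1]

/-- `P` normalises `C_{V_P}(O²(P))` -/
theorem P_norm_cv (S P : Subgroup G) : P ≤ normalizer (cv S P : Set G) := by
  have key : ∀ g ∈ P, ∀ x ∈ cv S P, g * x * g⁻¹ ∈ cv S P := by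
    intro g hg x hx
    refine mem_inf.2 ⟨(mem_normalizer_iff.1 (MinSimple.VModule.le_normalizer_zl S P hg) x).1 (mem_inf.1 hx).1, ?_⟩
    rw [mem_centralizer_iff]
    intro y hy
    have hy' : g⁻¹ * y * g⁻¹⁻¹ ∈ oddGen P :=
      (mem_normalizer_iff.1 (le_normalizer_oddGen P (inv_mem hg)) y).1 hy
    have h1 := mem_centralizer_iff.1 (mem_inf.1 hx).2 _ hy'
    calc y * (g * x * g⁻¹) = g * ((g⁻¹ * y * g⁻¹⁻¹) * x) * g⁻¹ := by group
      _ = g * (x * (g⁻¹ * y * g⁻¹⁻¹)) * g⁻¹ := by rw [h1]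
      _ = g * x * g⁻¹ * y := by group
  intro g hg
  rw [mem_normalizer_iff]
  intro x
  refine ⟨key g hg x, fun hx => ?_⟩
  have h1 := key _ (inv_mem hg) _ hx
  have e : g⁻¹ * (g * x * g⁻¹) * g⁻¹⁻¹ = x := by group
  rwa [e] at h1

/-- **`TD` from the FF theorem.** -/
theorem td_of (hFF : StmtM.{u}) {S : Sylow 2 G} {P A : Subgroup G} (hc : IsCharacteristicTwoType G)
    (hP : IsParS (S : Subgroup G) P) (hAS : A ≤ (S : Subgroup G)) (hoff : OffM (zl (S : Subgroup G) P) A)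
    (hcon : Const (zl (S : Subgroup G) P) A)
    (hq : ∀ v ∈ zl (S : Subgroup G) P, ∀ a ∈ A, ∀ b ∈ A, cm v a * b = b * cm v a) :
    TD (S : Subgroup G) P A (cv (S : Subgroup G) P) := by
  have hSP := hP.le
  have hDW : cv (S : Subgroup G) P ≤ zl (S : Subgroup G) P := inf_le_left
  have hDn := P_norm_cv (S : Subgroup G) P
  have hPV : P ≤ normalizer (zl (S : Subgroup G) P : Set G) := le_normalizer_zl _ _
  obtain ⟨-, hcl⟩ := hFF G (S : Subgroup G) P (MinSimple.EmptyTI.syl_of_le hSP) hP.toIsMinPar (hP.isLoc.char2 S hc)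
    ⟨A, hAS.trans hSP, hoff⟩
  rcases hcl with ⟨K, _, _, _, k, hk, ⟨M⟩⟩ | ⟨k, m, hk, hm, ⟨M⟩⟩
  · have hne : ∃ g ∈ P, ∃ v ∈ zl (S : Subgroup G) P, g * v * g⁻¹ * v⁻¹ ∉ cv (S : Subgroup G) P := by
      obtain ⟨t, ht, hU'⟩ := M.unip fun _ => 1
      have hU : U M t fun _ => 1 := hU'
      obtain ⟨v, hv, hev⟩ := M.surj fun _ => ![0, 1]
      refine ⟨t, hSP ht, v, hv, fun h1 => ?_⟩
      have h2 := (M.ker _ (hDW h1)).2 h1
      have hm1 : t * v * t⁻¹ ∈ zl (S : Subgroup G) P := (mem_normalizer_iff.1 (hPV (hSP ht)) v).1 hv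
      rw [M.mul _ hm1 _ (inv_mem hv), ne_inv hv] at h2
      have h3 := congrFun (congrFun h2 ⟨0, hk⟩) 0
      rw [Pi.add_apply, hU.at hv, hev] at h3
      simp at h3
    exact td_nat M hSP hDW (fun g hg hU => cent_of_triv hc hP hDn hne hg
      (fun v hv => U.mem_D (M := M) hPV hSP (hSP hg) hU hv) hU.2) hAS hoff hcon hq
  · have hne : ∃ g ∈ P, ∃ v ∈ zl (S : Subgroup G) P, g * v * g⁻¹ * v⁻¹ ∉ cv (S : Subgroup G) P := by
      have h01 : (0 : Fin (2 ^ m + 1)) ≠ 1 := by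
        intro h
        have h1 := congrArg Fin.val h
        have h2 : 2 ≤ 2 ^ m := by
          calc 2 = 2 ^ 1 := by norm_num
            _ ≤ 2 ^ m := Nat.pow_le_pow_right (by norm_num) (by omega)
        rw [Fin.val_zero, Fin.val_one', Nat.mod_eq_of_lt (by omega)] at h1
        exact zero_ne_one h1
      have hpq : ((⟨0, hk⟩, 0) : Omega.Half.SymA.Pt k m) ≠ (⟨0, hk⟩, 1) := fun h => h01 (congrArg Prod.snd h)
      obtain ⟨g, hg, hac, -⟩ := M.lift (Function.update 1 ⟨0, hk⟩ (Equiv.swap 0 1))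
      have h1 := SD.mv_pm M.toSymK hac
      have h2 := Omega.Half.SymA.pm_swap (k := k) (m := m) (p := (⟨0, hk⟩, 0)) (q := (⟨0, hk⟩, 1)) rfl
      change Omega.Half.SymA.pm 1 (Function.update 1 ⟨0, hk⟩ (Equiv.swap 0 1)) = _ at h2
      rw [h2] at h1
      obtain ⟨v, hv, hv1, hv2⟩ := SD.sep M.toSymK (by omega) hpq
      refine ⟨g, hg, v, hv, fun h3 => ?_⟩
      have h4 := (M.ker _ (hDW h3)).2 h3
      have h5 : SD.E M.toSymK (g * v * g⁻¹ * v⁻¹) (⟨0, hk⟩, 1) = 0 := by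
        change M.e _ ⟨0, hk⟩ 1 = 0
        rw [h4]; rfl
      have hm1 : g * v * g⁻¹ ∈ zl (S : Subgroup G) P := (mem_normalizer_iff.1 (hPV hg) v).1 hv
      have h6 := h1 v hv (⟨0, hk⟩, 0)
      rw [Equiv.swap_apply_left] at h6
      rw [SD.E_mul _ hm1 (inv_mem hv), SD.E_inv _ hv, h6, hv1, hv2, add_zero] at h5
      exact one_ne_zero h5
    refine td_sym M hSP S.isPGroup' (by omega) hDW (fun g hg hπ hgD => cent_of_triv hc hP hDn hne hg
      (fun v hv => ?_) hgD) hAS hoff hcon hq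
    have hm1 : g * v * g⁻¹ ∈ zl (S : Subgroup G) P := (mem_normalizer_iff.1 (hPV (hSP hg)) v).1 hv
    refine (M.ker _ (mul_mem hm1 (inv_mem hv))).1 ?_
    funext i x
    change SD.E M.toSymK (g * v * g⁻¹ * v⁻¹) (i, x) = 0
    have h6 := hπ v hv (i, x)
    rw [SD.E_mul _ hm1 (inv_mem hv), SD.E_inv _ hv]
    have h7 : SD.E M.toSymK (g * v * g⁻¹) (i, x) = SD.E M.toSymK v (i, x) := h6
    rw [h7]
    exact CharTwo.add_self_eq_zero _

/-- `P₀` active with `C_Z(P₀) = 1`, `P` active. -/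
structure AZ (S : Sylow 2 G) (P₀ P V F B : Subgroup G) : Prop where
  a₀ : BetaFF.Act S P₀ V F
  par : IsParS (S : Subgroup G) P
  LE : zl (S : Subgroup G) P ≤ Flat.EE V F
  mov : ¬ Flat.WW V F ≤ centralizer (zl (S : Subgroup G) P : Set G)
  bh : BH V F B
  LB : zl (S : Subgroup G) P₀ ≤ B
  cB : zl (S : Subgroup G) P ≤ B
  hk : Pas.Key V F B

/-- **Active types have `C_{V_P}(O²(P)) = 1`.** -/
theorem AZ.cv_eq {S : Sylow 2 G} {P₀ P V F B : Subgroup G} (h : AZ S P₀ P V F B) (hFF : StmtM.{u}) :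
    cv (S : Subgroup G) P = ⊥ := by
  have hc := h.a₀.char2
  have hyp := h.bh.toHyp
  have hVI : zl (S : Subgroup G) P ≤ V ⊓ B := le_inf (h.LE.trans inf_le_left) h.cB
  have hLI : zl (S : Subgroup G) P₀ ≤ V ⊓ B := le_inf h.a₀.LV h.LB
  have hcV : zl (S : Subgroup G) P ≤ V := h.LE.trans inf_le_left
  have hoff : OffM (zl (S : Subgroup G) P) (Flat.WW V F) :=
    { sq := fun a ha => centralizer_le hcV (hyp.elemM_W.sq a ha)
      comm := fun a ha b hb => centralizer_le hcV (hyp.elemM_W.comm a ha b hb)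
      ne := h.mov
      le := relIndex_le_iff.2 (hyp.off_of_le_all h.LE) }
  obtain ⟨K, hDK, hρK, hs⟩ := (td_of hFF hc h.par h.a₀.WS hoff (const_of_key h.bh h.hk hVI)
    (fun v hv a ha b hb => Flat.Hyp.F_comm (hyp.comm_EW (h.LE hv) ha) (Flat.Hyp.W_le_X hb))).coord
  obtain ⟨hmin, hrp, -⟩ := pack hFF h.a₀ (const_of_key h.bh h.hk hLI)
  -- `ρ`
  have hρ : ⁅zl (S : Subgroup G) P, Flat.WW V F⁆ = ⁅zl (S : Subgroup G) P₀, Flat.WW V F⁆ := by
    apply le_antisymm
    · rw [commutator_le]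
      exact fun x hx w hw => Pas.Key.mem h.bh h.hk hLI h.a₀.mov (hVI hx) hw
    · rw [commutator_le]
      exact fun x hx w hw => Pas.Key.mem h.bh h.hk hVI h.mov (hLI hx) hw
  by_contra hne
  have hDS : cv (S : Subgroup G) P ≤ (S : Subgroup G) :=
    ((inf_le_left : cv (S : Subgroup G) P ≤ _).trans (h.LE.trans Flat.Hyp.E_le_W)).trans h.a₀.WS
  obtain ⟨z, hz, hz1, hzD⟩ := NOThreeL.FFB.exists_zc hDS
    (fun x hx => hyp.sq x (hcV ((inf_le_left : cv (S : Subgroup G) P ≤ _) hx)))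
    (h.par.le.trans (P_norm_cv _ _)) hne
  obtain ⟨hz2, hz3⟩ := hrp.zfull _ hmin z hz hz1
  set ρ := ⁅zl (S : Subgroup G) P₀, Flat.WW V F⁆ with hρd
  have hρp : ρ ∈ pts (zl (S : Subgroup G) P₀) (S : Subgroup G) (Flat.WW V F) :=
    ⟨1, one_mem _, by rw [ChoiceBase.cj_one]⟩
  have hPL : ∀ r ∈ pts (zl (S : Subgroup G) P₀) (S : Subgroup G) (Flat.WW V F), r ≤ V := by
    rintro r ⟨s, hs, rfl⟩
    have h1 : ρ ≤ zl (S : Subgroup G) P₀ := by
      rw [hρd, commutator_le]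
      intro x hx w hw
      have h2 : w * x⁻¹ * w⁻¹ ∈ zl (S : Subgroup G) P₀ :=
        (mem_normalizer_iff.1 (h.a₀.PL (h.a₀.WP hw)) _).1 (inv_mem hx)
      have e : ⁅x, w⁆ = x * (w * x⁻¹ * w⁻¹) := by rw [commutatorElement_def]; group
      rw [e]
      exact mul_mem hx h2
    have h2 := cj_mono s h1
    rw [ChoiceBase.cj_eq_of_mem_normalizer (h.a₀.PL (h.a₀.SP hs))] at h2
    exact h2.trans h.a₀.LV
  set R' := sSup (pts (zl (S : Subgroup G) P₀) (S : Subgroup G) (Flat.WW V F) \ {ρ}) with hR'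
  have hR'K : R' ≤ K := by
    refine sSup_le ?_
    rintro r ⟨⟨s, hs', rfl⟩, hr2⟩
    have h1 := hs s hs'
    rw [hρ] at h1
    exact h1 hr2
  have hR'V : R' ≤ V := sSup_le fun r hr => hPL r hr.1
  have hsup : sSup (pts (zl (S : Subgroup G) P₀) (S : Subgroup G) (Flat.WW V F)) ≤ R' ⊔ ρ := by
    refine sSup_le fun r hr => ?_
    by_cases h1 : r = ρ
    · rw [h1]; exact le_sup_right
    · exact (le_sSup ⟨hr, h1⟩ : r ≤ R').trans le_sup_left
  obtain ⟨y, hy, x, hx, hxy⟩ := Pas.mem_sup_of_norm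
    (((hPL ρ hρp).trans (hyp.comm.trans (centralizer_le hR'V))).trans (centralizer_le_normalizer _)) (hsup hz2)
  have hx1 : x = 1 := by
    have h1 : x ∈ K := by
      have e : x = y⁻¹ * z := by rw [← hxy]; group
      rw [e]
      exact mul_mem (inv_mem (hR'K hy)) (hDK hzD)
    have h2 : x ∈ ⁅zl (S : Subgroup G) P, Flat.WW V F⁆ ⊓ K := ⟨by rw [hρ]; exact hx, h1⟩
    rwa [hρK, mem_bot] at h2
  refine hz3 ρ hρp ?_
  rw [← hxy, hx1, mul_one]
  exact hy

end Cfsg.Agent.Omega.NO3S.ActT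

namespace Cfsg.Agent.Omega.NO3S.Pas

open Subgroup Cfsg Cfsg.Agent.ZN Cfsg.Agent.Omega.MinPar Cfsg.Agent.Omega.Frame Cfsg.Agent.Omega.FrameNOFF
open Cfsg.Agent.Omega.NOThreeL.Low (Fr Ch BB)
open Cfsg.Agent.Omega.FrameFF (cv)
open scoped Pointwise

universe u

variable {G : Type u} [Group G] [Finite G] {S : Sylow 2 G} {M P₀ P V F : Subgroup G} {n : ℕ}

/-- **If one active type has `C_Z(P₀) = 1`, all active types have `C_{V_P}(O²(P)) = 1`.** -/
theorem WFr.cv_eq (w : WFr S M V F) (h : Fr S M V F n) (hFF : FFThm.StmtM.{u})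
    (hk : Key V F (BL M (S : Subgroup G) V F n))
    (hP₀ : IsParS (S : Subgroup G) P₀) (hcv₀ : cv (S : Subgroup G) P₀ = ⊥) (hact₀ : ¬ NOne.Flat.WW V F ≤ o2 P₀)
    (hP : IsParS (S : Subgroup G) P) (hact : ¬ NOne.Flat.WW V F ≤ o2 P) : cv (S : Subgroup G) P = ⊥ :=
  ActT.AZ.cv_eq (P₀ := P₀) (B := BL M (S : Subgroup G) V F n)
    { a₀ := w.act hP₀ hcv₀ hact₀
      par := hP
      LE := w.zl_le_E hP
      mov := w.mov hP hact
      bh := bh h
      LB := w.zl_le_BL' n hP₀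
      cB := w.zl_le_BL' n hP
      hk := hk } hFF

/-- **THEOREM ACT**: if one active type has `C_Z(P₀) = 1`, all active types have the same line. -/
theorem WFr.act_eq' (w : WFr S M V F) (h : Fr S M V F n) (hn : 1 ≤ n) (hFF : FFThm.StmtM.{u})
    (hk : Key V F (BL M (S : Subgroup G) V F n))
    (hP₀ : IsParS (S : Subgroup G) P₀) (hcv₀ : cv (S : Subgroup G) P₀ = ⊥) (hact₀ : ¬ NOne.Flat.WW V F ≤ o2 P₀)
    (hP : IsParS (S : Subgroup G) P) (hact : ¬ NOne.Flat.WW V F ≤ o2 P) :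
    zl (S : Subgroup G) P = zl (S : Subgroup G) P₀ :=
  w.act_eq h hn hFF hk hP₀ hcv₀ hact₀ hP (w.cv_eq h hFF hk hP₀ hcv₀ hact₀ hP hact) hact

end Cfsg.Agent.Omega.NO3S.Pas

end

section


/-!
# GammaFF, (S1) (#21629): the frame

`V = X₀`, `F` maximal bad, `W = NOne.Flat.WW V F ≤ S`, `P ∈ P**`, `P₁ ∈ P*(S)` active (`W ≰ O₂(P₁)`), `L₁ = zl S P₁`.

* `SO S V F B P P₁` : what the geometry of `Y = ⟨P, P₁⟩` gives (lines of types `P^ν`, `P₁^ν`, `ν ∈ N_Y(S)`; `B` the group of the good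
  lines up to the distance of the nearest bad line);
* `Gen S P₁ A p` : a generic element `p ∈ P₁` (radicals allowed);
* `NT S P₁ q` : the interface to the natural modules (radicals allowed), `q` = order of the field;
* `Two S P₁` : the interface for the field of order 2 and for the symmetric groups.
-/

set_option autoImplicit false
set_option linter.unusedSectionVars false

namespace Cfsg.Agent.Omega.NO3S.SOne

open Subgroup Cfsg Cfsg.Agent.ZN Cfsg.Agent.Omega.MinPar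
open Cfsg.Agent.Omega.NOne.Flat (EE NN)
open Cfsg.Agent.Omega.NOThreeL.Low.Key (BH)
open Cfsg.Agent.Omega.FFThm (ElemM OffM NoOverM)
open Cfsg.Agent.Omega.FrameFF (cv)
open Cfsg.Agent.Omega.NOThreeL.NF (MinOffM)
open Cfsg.Agent.Omega.NOThreeL.NF.NatR (Const)
open scoped Pointwise

universe u

variable {G : Type u} [Group G]

/-- **The frame of (S1).** -/
structure SO [Finite G] (S : Sylow 2 G) (V F B P P₁ : Subgroup G) : Prop extends BH V F B where
  hc : IsCharacteristicTwoType G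
  hP : IsParS (S : Subgroup G) P
  hP₁ : IsParS (S : Subgroup G) P₁
  PV : P ≤ normalizer (V : Set G)
  P₁V : P₁ ≤ normalizer (V : Set G)
  ZV : zc (S : Subgroup G) ≤ V
  WS : NOne.Flat.WW V F ≤ (S : Subgroup G)
  act : ¬ NOne.Flat.WW V F ≤ o2 P₁
  /-- the lines (type `P₁`) of the chambers which contain `W` -/
  line0 : ∀ y ∈ P ⊔ P₁, NOne.Flat.WW V F ≤ MulAut.conj y • (S : Subgroup G) → MulAut.conj y • zl (S : Subgroup G) P₁ ≤ B
  /-- the good lines of the chambers at distance 1 -/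
  line1 : ∀ g ∈ P₁, ∀ h ∈ P, h ∈ normalizer ((S : Subgroup G) : Set G) →
    MulAut.conj (g * h) • zl (S : Subgroup G) P₁ ≤ EE V F → MulAut.conj (g * h) • zl (S : Subgroup G) P₁ ≤ B
  BS : ∀ g ∈ P₁, B ≤ MulAut.conj g • (S : Subgroup G)

/-- **A generic element** (radicals allowed): `P₁ = ⟨S, A^(p⁻¹)⟩`; `x ∈ L₁` centralised by all `A^s`, `x^p ∈ [L₁, A]` ⟹ `x = 1`. -/
structure Gen (S P₁ A : Subgroup G) (p : G) : Prop where
  mem : p ∈ P₁
  gen : P₁ ≤ S ⊔ MulAut.conj p⁻¹ • A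
  dis : ∀ x ∈ zl S P₁, (∀ s ∈ S, MulAut.conj s • A ≤ centralizer ({x} : Set G)) → p * x * p⁻¹ ∈ ⁅zl S P₁, A⁆ → x = 1

/-- `R = ⟨[L₁, A]^S⟩` -/
def RR (S P₁ A : Subgroup G) : Subgroup G := ⨆ s : S, MulAut.conj (s : G) • ⁅zl S P₁, A⁆

/-- **The interface to the natural modules**, `q` the order of the field; `L₁ = zl S P₁`, radical `cv S P₁`. -/
structure NT (S P₁ : Subgroup G) (q : ℕ) : Prop where
  four : 4 ≤ q
  no : NoOverM (zl S P₁) P₁
  /-- an offender with constant commutators is one full root group -/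
  const : ∀ A ≤ S, OffM (zl S P₁) A → Const (zl S P₁) A → MinOffM (zl S P₁) S A
  idx : ∀ A, MinOffM (zl S P₁) S A → (centralizer (zl S P₁ : Set G)).relIndex A = q
  idx' : ∀ A, MinOffM (zl S P₁) S A → (centralizer (A : Set G)).relIndex (zl S P₁) = q
  /-- `C_A(r) = C_A(L₁)` for `r ∈ L₁ - C(A)` -/
  cent : ∀ A, MinOffM (zl S P₁) S A → ∀ r ∈ zl S P₁, r ∉ centralizer (A : Set G) → ∀ a ∈ A, a * r = r * a →
    a ∈ centralizer (zl S P₁ : Set G)
  /-- the root groups of `S` on `L₁` are conjugate in `S` -/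
  cls : ∀ A A', MinOffM (zl S P₁) S A → MinOffM (zl S P₁) S A' →
    ∃ s ∈ S, A' ⊔ o2 P₁ = MulAut.conj s • (A ⊔ o2 P₁)
  gen : ∀ A, MinOffM (zl S P₁) S A → Const (zl S P₁) A → ∃ p, Gen S P₁ A p
  dis : ∀ A, MinOffM (zl S P₁) S A → Const (zl S P₁) A → RR S P₁ A ⊓ cv S P₁ = ⊥

/-- The groups `A ≤ S` which move `L₁`, with constant commutators. -/
structure KA (S P₁ A : Subgroup G) : Prop where
  le : A ≤ S
  off : OffM (zl S P₁) A
  const : Const (zl S P₁) A

/-- **The interface for `q = 2`** (field of order 2, symmetric groups). -/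
structure Two (S P₁ : Subgroup G) : Prop where
  cls : ∀ A A', KA S P₁ A → KA S P₁ A' → ∃ s ∈ S, ⁅zl S P₁, A'⁆ = MulAut.conj s • ⁅zl S P₁, A⁆
  pt : ∀ A, KA S P₁ A → ∃ r, r ≠ 1 ∧ ⁅zl S P₁, A⁆ = zpowers r ∧
    ∃ g ∈ P₁, g * r * g⁻¹ ≠ r ∧ ∀ s ∈ S, s * r * s⁻¹ ≠ r → g * (s * r * s⁻¹) * g⁻¹ = s * r * s⁻¹

end Cfsg.Agent.Omega.NO3S.SOne

end

section


/-!
# GammaFF, (S1) (#21629, helper335): the end for `q₀ ≥ 4` by transitivity of `N_P(S)` on `Z#`

`N` a set of elements normalising `Z` and transitive on `Z#`.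

* `le_or_le` : `1 ≠ A₀ ≤ Z`, every `A₀^h ≤ A` or `≤ B` (`h ∈ N`) imply `Z ≤ A` or `Z ≤ B`;
* `comm_conj_eq` : `⁅L₂, W⁆ = Π`, `⁅L₂, W^h⁆ = Π^h` conjugate under `S` imply `⟨Π^S⟩ = ⟨(Π^h)^S⟩`;
* `false_key` : KEY: `Z ∩ R₁ ∩ C₁ = 1`, `Z ∩ R₁ ≰ C₁`, `C₁ ≠ 1`;
* `false_ns` : NS: `C₁^h ≤ C₁` or `≤ C₂`, `C₁, C₂ < Z`.
-/

set_option autoImplicit false

namespace Cfsg.Agent.Omega.NO3S.SOne.Trans

open Subgroup
open scoped Pointwise

universe u

variable {G : Type u} [Group G]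

/-- `⟨A^S⟩`. -/
def Cl (S A : Subgroup G) : Subgroup G := ⨆ s ∈ S, MulAut.conj s • A

theorem Cl_le {S A B : Subgroup G} (h : ∀ s ∈ S, MulAut.conj s • A ≤ B) : Cl S A ≤ B :=
  iSup₂_le h

theorem conj_le_Cl {S A : Subgroup G} {s : G} (hs : s ∈ S) : MulAut.conj s • A ≤ Cl S A :=
  le_iSup₂ (f := fun s (_ : s ∈ S) => MulAut.conj s • A) s hs

theorem le_Cl {S A : Subgroup G} : A ≤ Cl S A := by
  have h := conj_le_Cl (S := S) (A := A) S.one_mem
  rwa [map_one, one_smul] at h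

theorem Cl_mono_conj {S A : Subgroup G} {s : G} (hs : s ∈ S) : Cl S (MulAut.conj s • A) ≤ Cl S A := by
  refine Cl_le fun t ht => ?_
  rw [smul_smul, ← map_mul]
  exact conj_le_Cl (mul_mem ht hs)

/-- `⟨(A^s)^S⟩ = ⟨A^S⟩`. -/
theorem Cl_conj {S A : Subgroup G} {s : G} (hs : s ∈ S) : Cl S (MulAut.conj s • A) = Cl S A := by
  refine le_antisymm (Cl_mono_conj hs) ?_
  have h := Cl_mono_conj (S := S) (A := MulAut.conj s • A) (inv_mem hs)
  rwa [smul_smul, ← map_mul, inv_mul_cancel, map_one, one_smul] at h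

/-- `⟨A^S⟩^h = ⟨(A^h)^S⟩` for `h ∈ N(S)`. -/
theorem conj_Cl {S A : Subgroup G} {h : G} (hh : h ∈ normalizer (S : Set G)) :
    MulAut.conj h • Cl S A = Cl S (MulAut.conj h • A) := by
  have key : ∀ (A : Subgroup G) (h : G), h ∈ normalizer (S : Set G) →
      Cl S (MulAut.conj h • A) ≤ MulAut.conj h • Cl S A := by
    intro A h hh
    refine Cl_le fun t ht => ?_
    have h1 : h⁻¹ * t * h ∈ S := by
      have := (mem_normalizer_iff'.1 hh (h⁻¹ * t)).2 (by rwa [mul_inv_cancel_left])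
      exact this
    have h2 : MulAut.conj t • MulAut.conj h • A = MulAut.conj h • MulAut.conj (h⁻¹ * t * h) • A := by
      rw [smul_smul, smul_smul, ← map_mul, ← map_mul]
      congr 2
      group
    rw [h2]
    exact smul_mono_right _ (conj_le_Cl h1)
  refine le_antisymm ?_ (key A h hh)
  have h1 := key (MulAut.conj h • A) h⁻¹ (inv_mem hh)
  rw [smul_smul, ← map_mul, inv_mul_cancel, map_one, one_smul] at h1
  have h2 := smul_mono_right (MulAut.conj h) h1
  rwa [smul_smul, ← map_mul, mul_inv_cancel, map_one, one_smul] at h2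

/-- (i): if `⁅L₂, W⁆ = Π` and `⁅L₂, W₂⁆ = Π^h` are `S`-conjugate, then `⟨Π^S⟩^h = ⟨Π^S⟩`. -/
theorem conj_Cl_eq {S A : Subgroup G} {h s : G} (hh : h ∈ normalizer (S : Set G)) (hs : s ∈ S)
    (e : A = MulAut.conj s • MulAut.conj h • A) : MulAut.conj h • Cl S A = Cl S A := by
  rw [conj_Cl hh]
  conv_rhs => rw [e]
  exact (Cl_conj hs).symm

/-- `1 ≠ A₀ ≤ Z`, `N` transitive on `Z#`, every `A₀^h ≤ A` or `≤ B`: then `Z ≤ A` or `Z ≤ B`. -/
theorem le_or_le {Z A₀ A B : Subgroup G} (N : Set G)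
    (htr : ∀ x ∈ Z, x ≠ 1 → ∀ y ∈ Z, y ≠ 1 → ∃ h ∈ N, h * x * h⁻¹ = y) (hA₀ : A₀ ≤ Z) (hne : A₀ ≠ ⊥)
    (h : ∀ h ∈ N, MulAut.conj h • A₀ ≤ A ∨ MulAut.conj h • A₀ ≤ B) : Z ≤ A ∨ Z ≤ B := by
  obtain ⟨⟨a, ha⟩, ha1⟩ := Subgroup.ne_bot_iff_exists_ne_one.1 hne
  have ha1 : a ≠ 1 := fun h => ha1 (Subtype.ext h)
  have hcov : ∀ z ∈ Z, z ∈ A ∨ z ∈ B := by
    intro z hz
    by_cases hz1 : z = 1
    · exact Or.inl (hz1 ▸ one_mem _)
    · obtain ⟨g, hg, e⟩ := htr a (hA₀ ha) ha1 z hz hz1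
      have h1 : z ∈ MulAut.conj g • A₀ := by
        rw [← e]
        exact smul_mem_pointwise_smul a (MulAut.conj g) A₀ ha
      rcases h g hg with h2 | h2
      · exact Or.inl (h2 h1)
      · exact Or.inr (h2 h1)
  by_contra hcon
  push Not at hcon
  obtain ⟨x, hx, hxA⟩ := SetLike.not_le_iff_exists.1 hcon.1
  obtain ⟨y, hy, hyB⟩ := SetLike.not_le_iff_exists.1 hcon.2
  have hxB := (hcov x hx).resolve_left hxA
  have hyA := (hcov y hy).resolve_right hyB
  rcases hcov (x * y) (mul_mem hx hy) with h1 | h1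
  · exact hxA ((mul_mem_cancel_right hyA).1 h1)
  · exact hyB ((mul_mem_cancel_left hxB).1 h1)

/-- **KEY, `q₀ ≥ 4`.** `R = R₁`, `C₁ = C_Z(P₁)`. -/
theorem false_key {Z R C₁ : Subgroup G} (N : Set G)
    (htr : ∀ x ∈ Z, x ≠ 1 → ∀ y ∈ Z, y ≠ 1 → ∃ h ∈ N, h * x * h⁻¹ = y)
    (hNZ : ∀ h ∈ N, MulAut.conj h • Z = Z) (hC : C₁ ≤ Z) (hC1 : C₁ ≠ ⊥) (hne : ¬ Z ⊓ R ≤ C₁)
    (hdis : Z ⊓ R ⊓ C₁ = ⊥)
    (h : ∀ h ∈ N, MulAut.conj h • R = R ∨ Z ⊓ MulAut.conj h • R ≤ C₁) : False := by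
  have h0 : Z ⊓ R ≠ ⊥ := fun h0 => hne (h0 ▸ bot_le)
  have h1 := le_or_le N htr (A₀ := Z ⊓ R) (A := R) (B := C₁) inf_le_left h0 (fun g hg => by
    rcases h g hg with h2 | h2
    · left
      conv_rhs => rw [← h2]
      exact smul_mono_right _ inf_le_right
    · right
      rw [smul_inf, hNZ g hg]
      exact h2)
  rcases h1 with h1 | h1
  · apply hC1
    rw [← hdis, inf_eq_left.2 h1, inf_eq_right.2 hC]
  · exact hne (inf_le_left.trans h1)

/-- **NS.** `Z ≤ R` (from `le_or_le`), every `h` is in case (i); `C₁^h ≤ C₁` or `≤ C₂`. -/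
theorem false_ns {Z R C₁ C₂ : Subgroup G} (N : Set G)
    (htr : ∀ x ∈ Z, x ≠ 1 → ∀ y ∈ Z, y ≠ 1 → ∃ h ∈ N, h * x * h⁻¹ = y)
    (hNZ : ∀ h ∈ N, MulAut.conj h • Z = Z) (hC : C₁ ≤ Z) (hC1 : C₁ ≠ ⊥) (hne : ¬ Z ⊓ R ≤ C₁)
    (hC2 : ¬ Z ≤ C₂)
    (h : ∀ h ∈ N, (MulAut.conj h • R = R ∧ (MulAut.conj h • C₁ ≤ C₁ ∨ MulAut.conj h • C₁ ≤ C₂)) ∨
      Z ⊓ MulAut.conj h • R ≤ C₁) : False := by
  have h0 : Z ⊓ R ≠ ⊥ := fun h0 => hne (h0 ▸ bot_le)
  have hZC : ¬ Z ≤ C₁ := fun h1 => hne (inf_le_left.trans h1)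
  have h1 := le_or_le N htr (A₀ := Z ⊓ R) (A := R) (B := C₁) inf_le_left h0 (fun g hg => by
    rcases h g hg with h2 | h2
    · left
      conv_rhs => rw [← h2.1]
      exact smul_mono_right _ inf_le_right
    · right
      rw [smul_inf, hNZ g hg]
      exact h2)
  have hZR : Z ≤ R := h1.resolve_right hZC
  have h3 := le_or_le N htr (A₀ := C₁) (A := C₁) (B := C₂) hC hC1 (fun g hg => by
    rcases h g hg with h2 | h2
    · exact h2.2
    · exfalso
      apply hZC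
      refine le_trans (le_inf le_rfl ?_) h2
      rw [← hNZ g hg]
      exact smul_mono_right _ hZR)
  rcases h3 with h3 | h3
  · exact hZC h3
  · exact hC2 h3

end Cfsg.Agent.Omega.NO3S.SOne.Trans

end

section


/-!
# GammaFF, (S1): natural modules with a radical

`M : NatKM F S P V D k`, `D` arbitrary (split or not); `V = zl S P`, `D = cv S P` in the application.

* `AmbD S P V D` : the ambient facts; `uq` : an element of `P` which is trivial on `V / D` and on `D` is trivial on `V`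
  (`AmbD.of`);
* `One M A i` : `A ≤ S` acts as the full root group of the `i`-th summand, trivially on `D`;
* `One.of_const`, `One.of_min`, `One.min`, `One.cent_iff`, `One.relIndex`, `One.relIndex'`, `One.cent`;
* `comm_inf` : constant commutators: `[V, A] ∩ D = 1`;
* `One.comm_same` : `[V, A]` depends only on the summand;
* `exists_one` : conjugates under `S` reach all summands.
-/

set_option autoImplicit false
set_option linter.unusedSectionVars false

namespace Cfsg.Agent.Omega.NO3S.SOne.NatD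

open Subgroup Cfsg Cfsg.Agent.ZN Cfsg.Agent.ZN.ChoiceBase Cfsg.Agent.Omega.MinPar
open Cfsg.Agent.Omega.FFThm (ElemM OffM NoOverM ConclM NatKM ActsSL relIndex_le_iff)
open Cfsg.Agent.Omega.FrameFF (cv)
open Cfsg.Agent.Omega.NatPair (ap ap_mul ap_one ap_inv_ap ap_zero' ap_one' ext2 exists_ap)
open Cfsg.Agent.Omega.NOThreeL.NF (MinOffM)
open Cfsg.Agent.Omega.NOThreeL.NF.NatR (Const ap_up ap_lo)
open Cfsg.Agent.Lib.SL2Mat
open scoped commutatorElement Pointwise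

universe u

variable {G : Type u} [Group G]

/-- The ambient facts for a natural module with a radical. -/
structure AmbD (S P V D : Subgroup G) : Prop where
  SP : S ≤ P
  PV : P ≤ normalizer (V : Set G)
  PD : P ≤ normalizer (D : Set G)
  DV : D ≤ V
  ab : ∀ x ∈ V, ∀ y ∈ V, x * y = y * x
  sq : ∀ x ∈ V, x * x = 1
  uq : ∀ g ∈ P, (∀ v ∈ V, g * v * g⁻¹ * v⁻¹ ∈ D) → (∀ d ∈ D, g * d = d * g) → g ∈ centralizer (V : Set G)

section amb

variable {S P V D : Subgroup G} (hA : AmbD S P V D)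
include hA

theorem AmbD.cm {g v : G} (hg : g ∈ P) (hv : v ∈ V) : g * v * g⁻¹ ∈ V := (mem_normalizer_iff.1 (hA.PV hg) v).1 hv

theorem AmbD.cmD {g v : G} (hg : g ∈ P) (hv : v ∈ D) : g * v * g⁻¹ ∈ D := (mem_normalizer_iff.1 (hA.PD hg) v).1 hv

end amb

variable {F : Type} [Field F] {S P V D : Subgroup G} {k : ℕ}

section basic

variable {M : NatKM F S P V D k}

theorem e_one : M.e 1 = 0 := by
  have h := M.mul 1 (one_mem _) 1 (one_mem _)
  rw [one_mul] at h
  exact left_eq_add.1 h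

theorem e_inv {v : G} (hv : v ∈ V) : M.e v⁻¹ = - M.e v := by
  have h := M.mul v hv v⁻¹ (inv_mem hv)
  rw [mul_inv_cancel, e_one] at h
  exact (neg_eq_of_add_eq_zero_right h.symm).symm

theorem e_eq_iff {v w : G} (hv : v ∈ V) (hw : w ∈ V) : M.e v = M.e w ↔ v * w⁻¹ ∈ D := by
  rw [← M.ker _ (mul_mem hv (inv_mem hw)), M.mul v hv w⁻¹ (inv_mem hw), e_inv hw, ← sub_eq_add_neg, sub_eq_zero]

/-- A vector supported exactly at `i`. -/
theorem exists_pt (M : NatKM F S P V D k) (i : Fin k) (x : Fin 2 → F) :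
    ∃ v ∈ V, M.e v i = x ∧ ∀ j, j ≠ i → M.e v j = 0 := by
  classical
  obtain ⟨v, hv, hev⟩ := M.surj (Pi.single i x)
  exact ⟨v, hv, by rw [hev, Pi.single_eq_same], fun j hj => by rw [hev]; exact Pi.single_eq_of_ne hj _⟩

theorem act_cent {g : G} (hDV : D ≤ V) (hg : g ∈ centralizer (V : Set G)) : ActsSL M.e V D g 1 := by
  refine ⟨fun v hv i => ?_, fun d hd => (mem_centralizer_iff.1 hg d (hDV hd)).symm⟩
  have e1 : g * v * g⁻¹ = v := by
    rw [← mem_centralizer_iff.1 hg v hv, mul_inv_cancel_right]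
  rw [e1, Pi.one_apply, ap_one]

variable (hA : AmbD S P V D)
include hA

theorem act_mul {g h : G} {A B : Fin k → Matrix.SpecialLinearGroup (Fin 2) F} (hh : h ∈ P)
    (h1 : ActsSL M.e V D g A) (h2 : ActsSL M.e V D h B) : ActsSL M.e V D (g * h) (A * B) := by
  refine ⟨fun v hv i => ?_, fun d hd => ?_⟩
  · have e1 : g * h * v * (g * h)⁻¹ = g * (h * v * h⁻¹) * g⁻¹ := by group
    rw [e1, h1.1 _ (hA.cm hh hv), h2.1 v hv, Pi.mul_apply, ap_mul]
  · rw [mul_assoc, h2.2 d hd, ← mul_assoc, h1.2 d hd, mul_assoc]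

theorem act_inv {g : G} {A : Fin k → Matrix.SpecialLinearGroup (Fin 2) F} (hg : g ∈ P)
    (h1 : ActsSL M.e V D g A) : ActsSL M.e V D g⁻¹ A⁻¹ := by
  refine ⟨fun v hv i => ?_, fun d hd => ?_⟩
  · have h2 := h1.1 _ (hA.cm (inv_mem hg) hv) i
    have e1 : g * (g⁻¹ * v * g⁻¹⁻¹) * g⁻¹ = v := by group
    rw [e1] at h2
    rw [h2, Pi.inv_apply, ap_inv_ap]
  · have h2 := h1.2 d hd
    calc g⁻¹ * d = g⁻¹ * (d * g) * g⁻¹ := by group
      _ = d * g⁻¹ := by rw [← h2]; group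

/-- **uniqueness**: the action modulo `D` and on `D` determines the action. -/
theorem cent_of_act {g : G} (hg : g ∈ P) (h : ActsSL M.e V D g 1) : g ∈ centralizer (V : Set G) := by
  refine hA.uq g hg (fun v hv => ?_) h.2
  rw [← e_eq_iff (M := M) (hA.cm hg hv) hv]
  funext i
  rw [h.1 v hv i, Pi.one_apply, ap_one]

theorem cent_of_same {g h : G} {A : Fin k → Matrix.SpecialLinearGroup (Fin 2) F} (hg : g ∈ P) (hh : h ∈ P)
    (h1 : ActsSL M.e V D g A) (h2 : ActsSL M.e V D h A) : h⁻¹ * g ∈ centralizer (V : Set G) := by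
  have h3 := act_mul (M := M) hA hg (act_inv hA hh h2) h1
  rw [inv_mul_cancel] at h3
  exact cent_of_act hA (mul_mem (inv_mem hh) hg) h3

theorem conj_eq {g h : G} {A : Fin k → Matrix.SpecialLinearGroup (Fin 2) F} (hg : g ∈ P) (hh : h ∈ P)
    (h1 : ActsSL M.e V D g A) (h2 : ActsSL M.e V D h A) {v : G} (hv : v ∈ V) :
    g * v * g⁻¹ = h * v * h⁻¹ := by
  have h3 := mem_centralizer_iff.1 (cent_of_same hA hg hh h1 h2) v hv
  have e1 : g = h * (h⁻¹ * g) := by group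
  rw [e1]
  have e2 : h * (h⁻¹ * g) * v * (h * (h⁻¹ * g))⁻¹ = h * (h⁻¹ * g * v * (h⁻¹ * g)⁻¹) * h⁻¹ := by group
  rw [e2, ← h3, mul_inv_cancel_right]

end basic

/-! ### `AmbD.of` -/

/-- `[g, v] ∈ D` for `v ∈ V`, `g` centralises `D`. -/
def K0 (P V D : Subgroup G) (hPV : P ≤ normalizer (V : Set G)) : Subgroup G where
  carrier := {g | g ∈ P ∧ (∀ v ∈ V, g * v * g⁻¹ * v⁻¹ ∈ D) ∧ ∀ d ∈ D, g * d = d * g}
  mul_mem' := by
    rintro g h ⟨hg, hg1, hg2⟩ ⟨hh, hh1, hh2⟩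
    refine ⟨mul_mem hg hh, fun v hv => ?_, fun d hd => ?_⟩
    · have h1 : h * v * h⁻¹ ∈ V := (mem_normalizer_iff.1 (hPV hh) v).1 hv
      have h2 := mul_mem (hg1 _ h1) (hh1 v hv)
      have e : g * (h * v * h⁻¹) * g⁻¹ * (h * v * h⁻¹)⁻¹ * (h * v * h⁻¹ * v⁻¹) =
        g * h * v * (g * h)⁻¹ * v⁻¹ := by group
      rwa [e] at h2
    · rw [mul_assoc, hh2 d hd, ← mul_assoc, hg2 d hd, mul_assoc]
  one_mem' := ⟨one_mem _, fun v _ => by simp, fun d _ => by simp⟩
  inv_mem' := by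
    rintro g ⟨hg, hg1, hg2⟩
    refine ⟨inv_mem hg, fun v hv => ?_, fun d hd => ?_⟩
    · have h1 : g⁻¹ * v * g⁻¹⁻¹ ∈ V := (mem_normalizer_iff.1 (hPV (inv_mem hg)) v).1 hv
      have h2 := inv_mem (hg1 _ h1)
      have e : (g * (g⁻¹ * v * g⁻¹⁻¹) * g⁻¹ * (g⁻¹ * v * g⁻¹⁻¹)⁻¹)⁻¹ = g⁻¹ * v * g⁻¹⁻¹ * v⁻¹ := by group
      rwa [e] at h2
    · have h2 := hg2 d hd
      calc g⁻¹ * d = g⁻¹ * (d * g) * g⁻¹ := by group
        _ = d * g⁻¹ := by rw [← h2]; group

theorem le_normalizer_K0 {P V D : Subgroup G} (hPV : P ≤ normalizer (V : Set G))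
    (hPD : P ≤ normalizer (D : Set G)) :
    P ≤ normalizer (K0 P V D hPV : Set G) := by
  have key : ∀ p ∈ P, ∀ g ∈ K0 P V D hPV, p * g * p⁻¹ ∈ K0 P V D hPV := by
    rintro p hp g ⟨hg, hg1, hg2⟩
    refine ⟨mul_mem (mul_mem hp hg) (inv_mem hp), fun v hv => ?_, fun d hd => ?_⟩
    · have h1 : p⁻¹ * v * p⁻¹⁻¹ ∈ V := (mem_normalizer_iff.1 (hPV (inv_mem hp)) v).1 hv
      have h2 := (mem_normalizer_iff.1 (hPD hp) _).1 (hg1 _ h1)
      have e : p * (g * (p⁻¹ * v * p⁻¹⁻¹) * g⁻¹ * (p⁻¹ * v * p⁻¹⁻¹)⁻¹) * p⁻¹ =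
        p * g * p⁻¹ * v * (p * g * p⁻¹)⁻¹ * v⁻¹ := by group
      rwa [e] at h2
    · have h1 : p⁻¹ * d * p⁻¹⁻¹ ∈ D := (mem_normalizer_iff.1 (hPD (inv_mem hp)) d).1 hd
      have h2 := hg2 _ h1
      calc p * g * p⁻¹ * d = p * (g * (p⁻¹ * d * p⁻¹⁻¹)) * p⁻¹ := by group
        _ = p * (p⁻¹ * d * p⁻¹⁻¹ * g) * p⁻¹ := by rw [h2]
        _ = d * (p * g * p⁻¹) := by group
  intro p hp
  refine mem_normalizer_iff.2 fun g => ⟨key p hp g, fun h => ?_⟩
  have h1 := key p⁻¹ (inv_mem hp) _ h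
  have e : p⁻¹ * (p * g * p⁻¹) * p⁻¹⁻¹ = g := by group
  rwa [e] at h1

theorem P_cv (S P : Subgroup G) : P ≤ normalizer (cv S P : Set G) := by
  have key : ∀ g ∈ P, ∀ x ∈ cv S P, g * x * g⁻¹ ∈ cv S P := by
    intro g hg x hx
    refine mem_inf.mpr ⟨(mem_normalizer_iff.1 (le_normalizer_zl S P hg) x).1 (mem_inf.mp hx).1, ?_⟩
    rw [mem_centralizer_iff]
    intro y hy
    have hy' : g⁻¹ * y * g ∈ MinSimple.VModule.oddGen P := by
      have h1 := (mem_normalizer_iff.1 (MinSimple.VModule.le_normalizer_oddGen P (inv_mem hg)) y).1 hy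
      rwa [inv_inv] at h1
    have h1 := mem_centralizer_iff.mp (mem_inf.mp hx).2 _ hy'
    calc y * (g * x * g⁻¹) = g * ((g⁻¹ * y * g) * x) * g⁻¹ := by group
      _ = g * (x * (g⁻¹ * y * g)) * g⁻¹ := by rw [h1]
      _ = g * x * g⁻¹ * y := by group
  intro g hg
  refine mem_normalizer_iff.2 fun x => ⟨key g hg x, fun h => ?_⟩
  have h1 := key g⁻¹ (inv_mem hg) _ h
  have e : g⁻¹ * (g * x * g⁻¹) * g⁻¹⁻¹ = x := by group
  rwa [e] at h1

/-- **the ambient facts** -/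
theorem AmbD.of [Finite G] (hG : IsCharacteristicTwoType G) {S : Sylow 2 G} {P : Subgroup G}
    (hP : IsParS (S : Subgroup G) P)
    (M : NatKM F (S : Subgroup G) P (zl (S : Subgroup G) P) (cv (S : Subgroup G) P) k) :
    AmbD (S : Subgroup G) P (zl (S : Subgroup G) P) (cv (S : Subgroup G) P) := by
  classical
  have hamb : Half.Amb (S : Subgroup G) P (zl (S : Subgroup G) P) := Half.amb_of_loc hG S hP.isLoc
  have hSyl := MinSimple.Basic.not_dvd_relIndex S hP.le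
  have hPV : P ≤ normalizer (zl (S : Subgroup G) P : Set G) := le_normalizer_zl _ _
  have hPD : P ≤ normalizer (cv (S : Subgroup G) P : Set G) := P_cv _ _
  have hDV : cv (S : Subgroup G) P ≤ zl (S : Subgroup G) P := inf_le_left
  have hsq : ∀ x ∈ zl (S : Subgroup G) P, x * x = 1 := fun x hx => by rw [← pow_two]; exact hamb.sq x hx
  refine ⟨hP.le, hPV, hPD, hDV, hamb.comm, hsq, fun g hg hg1 hg2 => ?_⟩
  set V := zl (S : Subgroup G) P with hV
  set D := cv (S : Subgroup G) P with hD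
  set K := K0 P V D hPV with hK
  have hgK : g ∈ K := ⟨hg, hg1, hg2⟩
  have hKP : K ≤ P := fun x hx => hx.1
  have hKn : P ≤ normalizer (K : Set G) := le_normalizer_K0 hPV hPD
  by_cases hk : k = 0
  · -- no summand: `V = D`
    rw [mem_centralizer_iff]
    intro v hv
    refine (hg2 v ((M.ker v hv).1 ?_)).symm
    funext i
    exact absurd i.2 (by omega)
  have hi0 : 0 < k := Nat.pos_of_ne_zero hk
  have i : Fin k := ⟨0, hi0⟩
  rcases hP.toIsMinPar.sup_eq_or_inf_le (p := 2) S.isPGroup' hSyl hKP hKn with h1 | h1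
  · exfalso
    -- an element of `P` acting as `lo 1` on the summand `i`
    obtain ⟨p, hp, hac, -⟩ := M.lift (Pi.mulSingle i (lo 1))
    have hp' : p ∈ ((K ⊔ (S : Subgroup G) : Subgroup G) : Set G) := by
      rw [h1]; exact hp
    rw [sup_comm, coe_mul_of_left_le_normalizer_right _ _ (hP.le.trans hKn)] at hp'
    obtain ⟨s, hs, x, hx, rfl⟩ := hp'
    obtain ⟨σ, hσ⟩ := M.line s hs
    obtain ⟨v, hv, hvi, hvj⟩ := exists_pt M i ![1, 0]
    have hxv : M.e (x * v * x⁻¹) = M.e v :=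
      (e_eq_iff (M := M) ((mem_normalizer_iff.1 (hPV hx.1) v).1 hv) hv).2 (hx.2.1 v hv)
    have hxvV : x * v * x⁻¹ ∈ V := (mem_normalizer_iff.1 (hPV hx.1) v).1 hv
    have h2 := hac v hv i
    have e1 : s * x * v * (s * x)⁻¹ = s * (x * v * x⁻¹) * s⁻¹ := by group
    dsimp only at h2
    rw [e1, Pi.mulSingle_eq_same, hvi, ap_lo] at h2
    have h3 : M.e (s * (x * v * x⁻¹) * s⁻¹) i 1 = 0 := by
      have h4 := (hσ _ hxvV (σ.symm i)).2 (by
        rw [hxv]
        by_cases h5 : σ.symm i = i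
        · rw [h5, hvi]; rfl
        · rw [hvj _ h5]; rfl)
      rwa [Equiv.apply_symm_apply] at h4
    rw [h2] at h3
    simp at h3
  · -- `S ∩ K ≤ O₂(P) ≤ C(V)`, `x² ∈ C(V)` for `x ∈ K`
    have hsqK : ∀ x ∈ K, x * x ∈ centralizer (V : Set G) := by
      rintro x ⟨hx, hx1, hx2⟩
      rw [mem_centralizer_iff]
      intro v hv
      set d := x * v * x⁻¹ * v⁻¹ with hd
      have hdD : d ∈ D := hx1 v hv
      have h2 : x * v * x⁻¹ = d * v := by rw [hd]; group
      have h3 : x * d * x⁻¹ = d := by rw [hx2 d hdD, mul_inv_cancel_right]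
      have h4 : x * x * v * (x * x)⁻¹ = v := by
        calc x * x * v * (x * x)⁻¹ = x * (x * v * x⁻¹) * x⁻¹ := by group
          _ = x * (d * v) * x⁻¹ := by rw [h2]
          _ = x * d * x⁻¹ * (x * v * x⁻¹) := by group
          _ = v := by rw [h3, h2, ← mul_assoc, hsq d (hDV hdD), one_mul]
      exact (mul_inv_eq_iff_eq_mul.1 h4).symm
    have hcP : ∀ p ∈ P, ∀ x, x ∈ centralizer (V : Set G) → p * x * p⁻¹ ∈ centralizer (V : Set G) := by
      intro p hp x hx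
      rw [mem_centralizer_iff]
      intro v hv
      have h2 : p⁻¹ * v * p⁻¹⁻¹ ∈ V := (mem_normalizer_iff.1 (hPV (inv_mem hp)) v).1 hv
      have h3 := mem_centralizer_iff.1 hx _ h2
      calc v * (p * x * p⁻¹) = p * (p⁻¹ * v * p⁻¹⁻¹ * x) * p⁻¹ := by group
        _ = p * (x * (p⁻¹ * v * p⁻¹⁻¹)) * p⁻¹ := by rw [h3]
        _ = p * x * p⁻¹ * v := by group
    have h2core : ∀ x ∈ K, IsPGroup 2 (zpowers x) → x ∈ centralizer (V : Set G) := by
      intro x hx hx2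
      have hxP : zpowers x ≤ P := by rw [zpowers_le]; exact hKP hx
      obtain ⟨p, hp, hpx⟩ : ∃ p ∈ P, p * x * p⁻¹ ∈ (S : Subgroup G) := by
        have h2 := S.isPGroup'
        obtain ⟨Q, hQ⟩ := (hx2.comap_of_injective P.subtype P.subtype_injective).exists_le_sylow
        have hSP' : IsPGroup 2 ((S : Subgroup G).subgroupOf P) := h2.comap_of_injective _ P.subtype_injective
        obtain ⟨g, hg⟩ := MulAction.exists_smul_eq P Q (hSP'.toSylow hSyl)
        refine ⟨g, g.2, ?_⟩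
        have h3 : (⟨x, hKP hx⟩ : P) ∈ (Q : Subgroup P) := hQ (by
          rw [mem_comap]; exact mem_zpowers x)
        have h4 : g * ⟨x, hKP hx⟩ * g⁻¹ ∈ ((hSP'.toSylow hSyl : Sylow 2 P) : Subgroup P) := by
          rw [← hg, Sylow.coe_subgroup_smul]
          exact ⟨⟨x, hKP hx⟩, h3, rfl⟩
        exact mem_subgroupOf.1 h4
      have h3 : p * x * p⁻¹ ∈ centralizer (V : Set G) := by
        have h4 := h1 ⟨hpx, (mem_normalizer_iff.1 (hKn hp) x).1 hx⟩
        exact MinSimple.VModule.o2_le_centralizer_zl hP.le S.isPGroup' hSyl (hP.isLoc.char2 S hG) h4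
      have h4 := hcP p⁻¹ (inv_mem hp) _ h3
      have e : p⁻¹ * (p * x * p⁻¹) * p⁻¹⁻¹ = x := by group
      rwa [e] at h4
    -- an odd power of `g` is a 2-element
    obtain ⟨n, hn, a, ha⟩ := NOThreeL.Low.exists_odd_pow g
    have h5 := h2core (g ^ n) (pow_mem hgK n) (NOThreeL.Low.isPGroup_zpowers ha)
    obtain ⟨t, rfl⟩ := hn
    have h6 : (g * g) ^ t ∈ centralizer (V : Set G) := pow_mem (hsqK g hgK) t
    have e : g = ((g * g) ^ t)⁻¹ * g ^ (2 * t + 1) := by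
      rw [← pow_two, ← pow_mul, pow_succ]; group
    rw [e]
    exact mul_mem (inv_mem h6) h5

/-! ### Root groups -/

/-- `A` acts as the full root group of the `i`-th summand, trivially on `D`. -/
structure One (M : NatKM F S P V D k) (A : Subgroup G) (i : Fin k) : Prop where
  le : A ≤ S
  acts : ∀ a ∈ A, ∃ c : F, ActsSL M.e V D a (Pi.mulSingle i (up c))
  ex : ∀ c : F, ∃ a ∈ A, ActsSL M.e V D a (Pi.mulSingle i (up c))

section root

variable {M : NatKM F S P V D k} {i : Fin k} {A : Subgroup G}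

theorem e_at {a v : G} {c : F} (h : ActsSL M.e V D a (Pi.mulSingle i (up c))) (hv : v ∈ V) :
    M.e (a * v * a⁻¹) i = ![M.e v i 0 + c * M.e v i 1, M.e v i 1] := by
  rw [h.1 v hv i, Pi.mulSingle_eq_same, ap_up]

theorem e_ne {a v : G} {c : F} (h : ActsSL M.e V D a (Pi.mulSingle i (up c))) (hv : v ∈ V) {j : Fin k}
    (hj : j ≠ i) : M.e (a * v * a⁻¹) j = M.e v j := by
  rw [h.1 v hv j, Pi.mulSingle_eq_of_ne hj, ap_one]

theorem mulSingle_zero : (Pi.mulSingle i (up 0) : Fin k → Matrix.SpecialLinearGroup (Fin 2) F) = 1 := by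
  rw [up_zero, Pi.mulSingle_one]

theorem mulSingle_mul (c d : F) : (Pi.mulSingle i (up c) : Fin k → Matrix.SpecialLinearGroup (Fin 2) F) *
    Pi.mulSingle i (up d) = Pi.mulSingle i (up (c + d)) := by
  rw [← Pi.mulSingle_mul, up_mul]

variable (hA : AmbD S P V D)
include hA

/-- the commutator with an element of a root group -/
theorem e_comm {a v : G} (ha : a ∈ P) {c : F} (h : ActsSL M.e V D a (Pi.mulSingle i (up c))) (hv : v ∈ V) :
    M.e (a * v * a⁻¹ * v⁻¹) i = ![c * M.e v i 1, 0] := by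
  rw [M.mul _ (hA.cm ha hv) _ (inv_mem hv), e_inv hv, Pi.add_apply, Pi.neg_apply, e_at h hv]
  exact ext2 (by simp) (by simp)

theorem e_comm_ne {a v : G} (ha : a ∈ P) {c : F} (h : ActsSL M.e V D a (Pi.mulSingle i (up c))) (hv : v ∈ V)
    {j : Fin k} (hj : j ≠ i) : M.e (a * v * a⁻¹ * v⁻¹) j = 0 := by
  rw [M.mul _ (hA.cm ha hv) _ (inv_mem hv), e_inv hv, Pi.add_apply, Pi.neg_apply, e_ne h hv hj, add_neg_cancel]

theorem cent_of_zero {a : G} (ha : a ∈ P) (h : ActsSL M.e V D a (Pi.mulSingle i (up 0))) :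
    a ∈ centralizer (V : Set G) := by
  rw [mulSingle_zero] at h
  exact cent_of_act hA ha h

/-- the value of the parameter -/
theorem param {a v : G} {c : F} (h : ActsSL M.e V D a (Pi.mulSingle i (up c))) (hv : v ∈ V)
    (hvi : M.e v i = ![0, 1]) : M.e (a * v * a⁻¹) i 0 = c := by
  rw [e_at h hv, hvi]; simp

theorem param_unique {a : G} {c d : F} (h : ActsSL M.e V D a (Pi.mulSingle i (up c)))
    (h' : ActsSL M.e V D a (Pi.mulSingle i (up d))) : c = d := by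
  obtain ⟨v, hv, hvi, -⟩ := exists_pt M i ![0, 1]
  rw [← param hA h hv hvi, param hA h' hv hvi]

omit hA in
theorem One.zero_of_cent (h : One M A i) {v : G} (hv : v ∈ V) (hc : v ∈ centralizer (A : Set G)) :
    M.e v i 1 = 0 := by
  obtain ⟨a, ha, hac⟩ := h.ex 1
  have h1 : a * v * a⁻¹ = v := by
    rw [mem_centralizer_iff.1 hc a ha]; group
  have h2 := e_at hac hv
  rw [h1] at h2
  have h3 := congrFun h2 0
  simp only [Matrix.cons_val_zero, one_mul] at h3
  exact left_eq_add.1 h3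

/-- `A / C_A(V)` has order `|F|`. -/
theorem One.relIndex (h : One M A i) : (centralizer (V : Set G)).relIndex A = Nat.card F := by
  obtain ⟨v, hv, hvi, hvj⟩ := exists_pt M i ![0, 1]
  let φ : A →* Multiplicative F :=
    { toFun := fun a => Multiplicative.ofAdd (M.e ((a : G) * v * (a : G)⁻¹) i 0)
      map_one' := by
        change Multiplicative.ofAdd (M.e ((1 : G) * v * (1 : G)⁻¹) i 0) = 1
        rw [one_mul, inv_one, mul_one, hvi]; rfl
      map_mul' := by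
        rintro ⟨a, ha⟩ ⟨b, hb⟩
        obtain ⟨c, hc⟩ := h.acts a ha
        obtain ⟨d, hd⟩ := h.acts b hb
        have hab := act_mul (M := M) hA (hA.SP (h.le hb)) hc hd
        rw [mulSingle_mul] at hab
        change Multiplicative.ofAdd (M.e ((a * b) * v * (a * b)⁻¹) i 0) =
          Multiplicative.ofAdd (M.e (a * v * a⁻¹) i 0) * Multiplicative.ofAdd (M.e (b * v * b⁻¹) i 0)
        rw [param hA hab hv hvi, param hA hc hv hvi, param hA hd hv hvi, ofAdd_add] }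
  have hker : (centralizer (V : Set G)).subgroupOf A = φ.ker := by
    ext ⟨a, ha⟩
    rw [mem_subgroupOf, MonoidHom.mem_ker]
    obtain ⟨c, hc⟩ := h.acts a ha
    have hφ : φ ⟨a, ha⟩ = Multiplicative.ofAdd c := by
      change Multiplicative.ofAdd (M.e (a * v * a⁻¹) i 0) = _
      rw [param hA hc hv hvi]
    rw [hφ]
    constructor
    · intro hcen
      have h1 : a * v * a⁻¹ = v := by
        have := mem_centralizer_iff.1 hcen v hv
        change v * a = a * v at this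
        rw [← this]; group
      have h2 := param hA hc hv hvi
      rw [h1, hvi] at h2
      rw [← h2]; rfl
    · intro h0
      have h1 : c = 0 := Multiplicative.ofAdd.injective h0
      rw [h1] at hc
      exact cent_of_zero hA (hA.SP (h.le ha)) hc
  unfold Subgroup.relIndex
  rw [hker, index_ker]
  have hr : φ.range = ⊤ := by
    rw [MonoidHom.range_eq_top]
    intro c
    obtain ⟨a, ha, hac⟩ := h.ex (Multiplicative.toAdd c)
    refine ⟨⟨a, ha⟩, ?_⟩
    change Multiplicative.ofAdd (M.e (a * v * a⁻¹) i 0) = _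
    rw [param hA hac hv hvi]; rfl
  rw [hr, Nat.card_congr (topEquiv (G := Multiplicative F)).toEquiv]
  rfl

/-- the vectors with second coordinate `0` at `i` -/
def hy (M : NatKM F S P V D k) (i : Fin k) : Subgroup G where
  carrier := {v | v ∈ V ∧ M.e v i 1 = 0}
  mul_mem' := by
    rintro a b ⟨ha, ha1⟩ ⟨hb, hb1⟩
    exact ⟨mul_mem ha hb, by rw [M.mul a ha b hb, Pi.add_apply, Pi.add_apply, ha1, hb1, add_zero]⟩
  one_mem' := ⟨one_mem _, by rw [e_one]; rfl⟩
  inv_mem' := by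
    rintro a ⟨ha, ha1⟩
    exact ⟨inv_mem ha, by rw [e_inv ha, Pi.neg_apply, Pi.neg_apply, ha1, neg_zero]⟩

omit hA in
theorem hy_relIndex (M : NatKM F S P V D k) (i : Fin k) : (hy M i).relIndex V = Nat.card F := by
  let ψ : V →* Multiplicative F :=
    { toFun := fun v => Multiplicative.ofAdd (M.e (v : G) i 1)
      map_one' := by
        change Multiplicative.ofAdd (M.e (1 : G) i 1) = 1
        rw [e_one]; rfl
      map_mul' := by
        rintro ⟨v, hv⟩ ⟨w, hw⟩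
        change Multiplicative.ofAdd (M.e (v * w) i 1) = _
        rw [M.mul v hv w hw]; rfl }
  have hker : (hy M i).subgroupOf V = ψ.ker := by
    ext ⟨v, hv⟩
    rw [mem_subgroupOf, MonoidHom.mem_ker]
    constructor
    · intro hc
      change Multiplicative.ofAdd (M.e v i 1) = 1
      rw [hc.2]; rfl
    · intro h0
      exact ⟨hv, Multiplicative.ofAdd.injective h0⟩
  unfold Subgroup.relIndex
  rw [hker, index_ker]
  have hr : ψ.range = ⊤ := by
    rw [MonoidHom.range_eq_top]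
    intro c
    obtain ⟨v, hv, hvi, -⟩ := exists_pt M i ![0, Multiplicative.toAdd c]
    refine ⟨⟨v, hv⟩, ?_⟩
    change Multiplicative.ofAdd (M.e v i 1) = _
    rw [hvi]; rfl
  rw [hr, Nat.card_congr (topEquiv (G := Multiplicative F)).toEquiv]
  rfl

theorem One.cent_le_hy (h : One M A i) : V ⊓ centralizer (A : Set G) ≤ hy M i :=
  fun _ hv => ⟨hv.1, h.zero_of_cent hv.1 hv.2⟩

/-- `C_V(A)` = the vectors with second coordinate `0` at `i`, if `A` is an offender -/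
theorem One.inf_eq [Finite G] [Finite F] (h : One M A i) (hoff : OffM V A) :
    V ⊓ centralizer (A : Set G) = hy M i := by
  have h1 : (centralizer (A : Set G)).relIndex V ≤ Nat.card F := by
    rw [← h.relIndex hA]
    exact relIndex_le_iff.1 hoff.le
  have e1 := NOThreeL.Star.rel_mul_card V (centralizer (A : Set G))
  have e2 := NOThreeL.Star.rel_mul_card V (hy M i)
  rw [inf_eq_right.2 (show hy M i ≤ V from fun v hv => hv.1), hy_relIndex] at e2
  refine Subgroup.eq_of_le_of_card_ge (h.cent_le_hy hA) ?_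
  have hF : 0 < Nat.card F := Nat.card_pos
  refine Nat.le_of_mul_le_mul_left (?_ : Nat.card F * _ ≤ Nat.card F * _) hF
  rw [e2, ← e1]
  exact Nat.mul_le_mul_right _ h1

theorem One.cent_iff [Finite G] [Finite F] (h : One M A i) (hoff : OffM V A) {v : G} (hv : v ∈ V) :
    v ∈ centralizer (A : Set G) ↔ M.e v i 1 = 0 := by
  constructor
  · exact h.zero_of_cent hv
  · intro h0
    have h1 : v ∈ V ⊓ centralizer (A : Set G) := by rw [h.inf_eq hA hoff]; exact ⟨hv, h0⟩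
    exact h1.2

theorem One.relIndex' [Finite G] [Finite F] (h : One M A i) (hoff : OffM V A) :
    (centralizer (A : Set G)).relIndex V = Nat.card F := by
  rw [← hy_relIndex M i, ← h.inf_eq hA hoff, inf_comm, inf_relIndex_right]

/-- `C_A(r) = C_A(V)` for `r ∈ V - C(A)` -/
theorem One.cent [Finite G] [Finite F] (h : One M A i) (hoff : OffM V A) {r : G} (hr : r ∈ V)
    (hrA : r ∉ centralizer (A : Set G)) {a : G} (ha : a ∈ A) (har : a * r = r * a) :
    a ∈ centralizer (V : Set G) := by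
  obtain ⟨c, hc⟩ := h.acts a ha
  have h1 := e_comm hA (hA.SP (h.le ha)) hc hr
  rw [har, mul_inv_cancel_right, mul_inv_cancel, e_one] at h1
  have h2 := congrFun h1 0
  have h3 : c * M.e r i 1 = 0 := h2.symm
  rcases mul_eq_zero.1 h3 with h4 | h4
  · rw [h4] at hc
    exact cent_of_zero hA (hA.SP (h.le ha)) hc
  · exact absurd ((h.cent_iff hA hoff hr).2 h4) hrA

omit hA in
theorem mulSingle_inv (c : F) : (Pi.mulSingle i (up c) : Fin k → Matrix.SpecialLinearGroup (Fin 2) F)⁻¹ =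
    Pi.mulSingle i (up (-c)) := by
  rw [← Pi.mulSingle_inv, up_inv]

omit hA in
theorem single_up (i : Fin k) (c : F) : (fun j => up ((Pi.single i c : Fin k → F) j) :
    Fin k → Matrix.SpecialLinearGroup (Fin 2) F) = Pi.mulSingle i (up c) := by
  funext j
  by_cases hj : j = i
  · subst hj; rw [Pi.single_eq_same, Pi.mulSingle_eq_same]
  · rw [Pi.single_eq_of_ne hj, Pi.mulSingle_eq_of_ne hj, up_zero]

/-- the set of summands of an offender is not empty -/
theorem nonempty_of_off {I : Set (Fin k)} (hAS : A ≤ S) (hoff : OffM V A)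
    (h1 : ∀ a ∈ A, ∃ b : Fin k → F, (∀ i, i ∉ I → b i = 0) ∧ ActsSL M.e V D a fun i => up (b i)) :
    I.Nonempty := by
  rw [Set.nonempty_iff_ne_empty]
  rintro rfl
  refine hoff.ne fun a ha => ?_
  obtain ⟨b, hb, hac⟩ := h1 a ha
  have hb0 : (fun j => up (b j) : Fin k → Matrix.SpecialLinearGroup (Fin 2) F) = 1 := by
    funext j
    rw [hb j (Set.notMem_empty j), up_zero, Pi.one_apply]
  rw [hb0] at hac
  exact cent_of_act (M := M) hA (hA.SP (hAS ha)) hac

/-- an offender whose set of summands is `{i}` -/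
theorem One.of_single {I : Set (Fin k)} (hAS : A ≤ S) (hi : i ∈ I) (huniq : ∀ j ∈ I, j = i)
    (h1 : ∀ a ∈ A, ∃ b : Fin k → F, (∀ i, i ∉ I → b i = 0) ∧ ActsSL M.e V D a fun i => up (b i))
    (h2 : ∀ b : Fin k → F, (∀ i, i ∉ I → b i = 0) → ∃ a ∈ A, ActsSL M.e V D a fun i => up (b i)) :
    One M A i := by
  refine ⟨hAS, fun a ha => ?_, fun c => ?_⟩
  · obtain ⟨b, hb, hac⟩ := h1 a ha
    refine ⟨b i, ?_⟩
    have h3 : b = Pi.single i (b i) := by
      funext j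
      by_cases hj : j = i
      · subst hj; rw [Pi.single_eq_same]
      · rw [Pi.single_eq_of_ne hj, hb j fun h4 => hj (huniq j h4)]
    rw [← single_up, ← h3]
    exact hac
  · obtain ⟨a, ha, hac⟩ := h2 (Pi.single i c) (fun l hl => by
      have : l ≠ i := fun h3 => hl (by rw [h3]; exact hi)
      rw [Pi.single_apply, if_neg this])
    refine ⟨a, ha, ?_⟩
    rw [← single_up]
    exact hac

/-- **An offender with constant commutators is a root group.** -/
theorem One.of_const (M : NatKM F S P V D k) (hAS : A ≤ S) (hoff : OffM V A) (hc : Const V A) :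
    ∃ i, One M A i := by
  classical
  obtain ⟨I, h1, h2⟩ := M.offM A hAS hoff
  obtain ⟨i, hi⟩ := nonempty_of_off (M := M) hA hAS hoff h1
  -- the commutator of an element with `v_j`
  have hel : ∀ j ∈ I, ∃ v ∈ V, M.e v j = ![0, 1] ∧ (∀ l, l ≠ j → M.e v l = 0) ∧
      ∃ a ∈ A, M.e (a * v * a⁻¹ * v⁻¹) j = ![1, 0] := by
    intro j hj
    obtain ⟨v, hv, hvj, hvl⟩ := exists_pt M j ![0, 1]
    obtain ⟨a, ha, hac⟩ := h2 (Pi.single j 1) (fun l hl => by
      have : l ≠ j := fun h3 => hl (by rw [h3]; exact hj)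
      rw [Pi.single_apply, if_neg this])
    rw [single_up] at hac
    refine ⟨v, hv, hvj, hvl, a, ha, ?_⟩
    rw [e_comm hA (hA.SP (hAS ha)) hac hv, hvj]
    exact ext2 (by simp) (by simp)
  have huniq : ∀ j ∈ I, j = i := by
    intro j hj
    by_contra hne
    obtain ⟨v, hv, hvi, hvl, a, ha, hav⟩ := hel i hi
    obtain ⟨w, hw, hwj, hwl, b, hb, hbw⟩ := hel j hj
    have hvc : v ∉ centralizer (A : Set G) := fun h3 => by
      have h4 : a * v * a⁻¹ * v⁻¹ = 1 := by rw [mem_centralizer_iff.1 h3 a ha]; group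
      rw [h4, e_one] at hav
      exact one_ne_zero (α := F) (congrFun hav 0).symm
    have hwc : w ∉ centralizer (A : Set G) := fun h3 => by
      have h4 : b * w * b⁻¹ * w⁻¹ = 1 := by rw [mem_centralizer_iff.1 h3 b hb]; group
      rw [h4, e_one] at hbw
      exact one_ne_zero (α := F) (congrFun hbw 0).symm
    obtain ⟨d, hd, h3⟩ := hc v hv hvc w hw hwc a ha
    obtain ⟨β, -, hdac⟩ := h1 d hd
    have hm := hA.cm (hA.SP (hAS hd)) hw
    have hwi : M.e w i = 0 := hwl i (Ne.symm hne)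
    rw [h3, M.mul _ hm _ (inv_mem hw), e_inv hw, Pi.add_apply, Pi.neg_apply, hdac.1 w hw i, hwi, ap_up] at hav
    have h4 := congrFun hav 0
    simp at h4
  exact ⟨i, One.of_single hA hAS hi huniq h1 h2⟩

/-- **A root group which is an offender is a minimal offender.** -/
theorem One.min [Finite G] [Finite F] (h : One M A i) (hoff : OffM V A) : MinOffM V S A := by
  classical
  refine ⟨h.le, hoff, fun B hBA hB => ?_⟩
  have hBS := hBA.trans h.le
  obtain ⟨I, h1, h2⟩ := M.offM B hBS hB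
  obtain ⟨j, hj⟩ := nonempty_of_off (M := M) hA hBS hB h1
  have key : ∀ j ∈ I, j = i := by
    intro j hj
    by_contra hne
    obtain ⟨v, hv, hvj, -⟩ := exists_pt M j ![0, 1]
    obtain ⟨a, ha, hac⟩ := h2 (Pi.single j 1) (fun l hl => by
      have : l ≠ j := fun h3 => hl (by rw [h3]; exact hj)
      rw [Pi.single_apply, if_neg this])
    rw [single_up] at hac
    obtain ⟨c, hc⟩ := h.acts a (hBA ha)
    have h3 := e_at hac hv
    rw [e_ne hc hv hne, hvj] at h3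
    have h4 := congrFun h3 0
    simp at h4
  have hji := key j hj
  subst hji
  have hRB : One M B j := One.of_single hA hBS hj key h1 h2
  rw [h.relIndex hA, hRB.relIndex hA]

/-- `C_V(A)` for an offender: the vectors with second coordinates `0` in `I` -/
theorem cent_off [Finite G] [Finite F] {I : Set (Fin k)} (hAS : A ≤ S) (hoff : OffM V A)
    (h1 : ∀ a ∈ A, ∃ b : Fin k → F, (∀ i, i ∉ I → b i = 0) ∧ ActsSL M.e V D a fun i => up (b i))
    (h2 : ∀ b : Fin k → F, (∀ i, i ∉ I → b i = 0) → ∃ a ∈ A, ActsSL M.e V D a fun i => up (b i))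
    {v : G} (hv : v ∈ V) (hv0 : ∀ i ∈ I, M.e v i 1 = 0) : v ∈ centralizer (A : Set G) := by
  classical
  obtain ⟨u, hu, hue⟩ := M.surj (fun _ => ![0, 1])
  have hval : ∀ a (b : Fin k → F), (ActsSL M.e V D a fun i => up (b i)) → ∀ i,
      M.e (a * u * a⁻¹) i 0 = b i := by
    intro a b hb i
    rw [hb.1 u hu i, hue, ap_up]; simp
  -- the parameters of the elements of `A`
  let φ : A →* Multiplicative (I → F) :=
    { toFun := fun a => Multiplicative.ofAdd fun i : I => M.e ((a : G) * u * (a : G)⁻¹) i 0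
      map_one' := by
        change Multiplicative.ofAdd (fun i : I => M.e ((1 : G) * u * (1 : G)⁻¹) i 0) = 1
        rw [one_mul, inv_one, mul_one, hue]; rfl
      map_mul' := by
        rintro ⟨a, ha⟩ ⟨b, hb⟩
        obtain ⟨c, -, hc⟩ := h1 a ha
        obtain ⟨d, -, hd⟩ := h1 b hb
        have hab := act_mul (M := M) hA (hA.SP (hAS hb)) hc hd
        have e1 : ((fun i => up (c i)) * fun i => up (d i) : Fin k → Matrix.SpecialLinearGroup (Fin 2) F) =
            fun i => up (c i + d i) := by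
          funext i
          rw [Pi.mul_apply, up_mul]
        rw [e1] at hab
        change Multiplicative.ofAdd (fun i : I => M.e ((a * b) * u * (a * b)⁻¹) i 0) =
          Multiplicative.ofAdd (fun i : I => M.e (a * u * a⁻¹) i 0) *
            Multiplicative.ofAdd (fun i : I => M.e (b * u * b⁻¹) i 0)
        rw [← ofAdd_add]
        congr 1
        funext i
        rw [Pi.add_apply, hval _ (fun i => c i + d i) hab, hval a c hc, hval b d hd] }
  have hker : (centralizer (V : Set G)).subgroupOf A = φ.ker := by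
    ext ⟨a, ha⟩
    rw [mem_subgroupOf, MonoidHom.mem_ker]
    obtain ⟨c, hc0, hc⟩ := h1 a ha
    constructor
    · intro hcen
      change Multiplicative.ofAdd (fun i : I => M.e (a * u * a⁻¹) i 0) = 1
      have h3 : a * u * a⁻¹ = u := by
        have := mem_centralizer_iff.1 hcen u hu
        change u * a = a * u at this
        rw [← this]; group
      rw [h3, hue]; rfl
    · intro h0
      have h3 : ∀ i, c i = 0 := by
        intro i
        by_cases hi : i ∈ I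
        · have h4 := congrFun (Multiplicative.ofAdd.injective h0 :
            (fun i : I => M.e (a * u * a⁻¹) i 0) = 0) ⟨i, hi⟩
          rw [← hval a c hc i]
          exact h4
        · exact hc0 i hi
      have h5 : (fun j => up (c j) : Fin k → Matrix.SpecialLinearGroup (Fin 2) F) = 1 := by
        funext j
        rw [h3 j, up_zero, Pi.one_apply]
      rw [h5] at hc
      exact cent_of_act (M := M) hA (hA.SP (hAS ha)) hc
  have hcA : (centralizer (V : Set G)).relIndex A ≤ Nat.card (I → F) := by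
    unfold Subgroup.relIndex
    rw [hker, index_ker]
    exact Subgroup.card_le_card_group φ.range
  -- the second coordinates
  let ψ : V →* Multiplicative (I → F) :=
    { toFun := fun v => Multiplicative.ofAdd fun i : I => M.e (v : G) i 1
      map_one' := by
        change Multiplicative.ofAdd (fun i : I => M.e (1 : G) i 1) = 1
        rw [e_one]; rfl
      map_mul' := by
        rintro ⟨v, hv⟩ ⟨w, hw⟩
        change Multiplicative.ofAdd (fun i : I => M.e (v * w) i 1) = _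
        rw [M.mul v hv w hw]; rfl }
  have hr : ψ.range = ⊤ := by
    rw [MonoidHom.range_eq_top]
    intro c
    obtain ⟨w, hw, hwe⟩ := M.surj fun i => if hi : i ∈ I then ![0, Multiplicative.toAdd c ⟨i, hi⟩] else 0
    refine ⟨⟨w, hw⟩, ?_⟩
    change Multiplicative.ofAdd (fun i : I => M.e w i 1) = _
    have h3 : (fun i : I => M.e w i 1) = Multiplicative.toAdd c := by
      funext i
      rw [hwe]
      simp
    rw [h3]; rfl
  have hci : ψ.ker.index = Nat.card (I → F) := by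
    rw [index_ker, hr, Nat.card_congr (topEquiv (G := Multiplicative (I → F))).toEquiv]
    rfl
  -- `C_V(A) ≤ ker ψ`
  have hle : (centralizer (A : Set G)).subgroupOf V ≤ ψ.ker := by
    rintro ⟨w, hw⟩ hwc
    rw [mem_subgroupOf] at hwc
    rw [MonoidHom.mem_ker]
    change Multiplicative.ofAdd (fun i : I => M.e w i 1) = 1
    have h3 : (fun i : I => M.e w i 1) = 0 := by
      funext ⟨i, hi⟩
      obtain ⟨a, ha, hac⟩ := h2 (Pi.single i 1) (fun l hl => by
        have : l ≠ i := fun h3 => hl (by rw [h3]; exact hi)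
        rw [Pi.single_apply, if_neg this])
      rw [single_up] at hac
      have h4 : a * w * a⁻¹ = w := by
        have h5 : a * w = w * a := mem_centralizer_iff.1 hwc a ha
        rw [h5]; group
      have h5 := e_at hac hw
      rw [h4] at h5
      have h6 := congrFun h5 0
      simp only [Matrix.cons_val_zero, one_mul] at h6
      exact left_eq_add.1 h6
    rw [h3]; rfl
  have hidx : ((centralizer (A : Set G)).subgroupOf V).index ≤ ψ.ker.index := by
    rw [hci]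
    exact (relIndex_le_iff.1 hoff.le).trans hcA
  have heq : (centralizer (A : Set G)).subgroupOf V = ψ.ker := by
    have h3 := Subgroup.relIndex_mul_index hle
    have h4 : 0 < ψ.ker.index := Nat.pos_of_ne_zero index_ne_zero_of_finite
    have h5 : ((centralizer (A : Set G)).subgroupOf V).relIndex ψ.ker = 1 := by
      have h6 : ((centralizer (A : Set G)).subgroupOf V).relIndex ψ.ker * ψ.ker.index ≤ 1 * ψ.ker.index := by
        rw [h3, one_mul]; exact hidx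
      have h7 := Nat.le_of_mul_le_mul_right h6 h4
      have h8 : ((centralizer (A : Set G)).subgroupOf V).relIndex ψ.ker ≠ 0 := by
        intro h9
        rw [h9, zero_mul] at h3
        exact index_ne_zero_of_finite h3.symm
      omega
    exact le_antisymm hle (relIndex_eq_one.1 h5)
  have hv' : (⟨v, hv⟩ : V) ∈ ψ.ker := by
    rw [MonoidHom.mem_ker]
    change Multiplicative.ofAdd (fun i : I => M.e v i 1) = 1
    have h3 : (fun i : I => M.e v i 1) = 0 := by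
      funext ⟨i, hi⟩
      exact hv0 i hi
    rw [h3]; rfl
  rw [← heq] at hv'
  exact mem_subgroupOf.1 hv'

/-- the elements of an offender which act on one summand only centralise the vectors with second coordinate `0` there -/
theorem cent_single [Finite G] [Finite F] {I : Set (Fin k)} (hAS : A ≤ S) (hoff : OffM V A)
    (h1 : ∀ a ∈ A, ∃ b : Fin k → F, (∀ i, i ∉ I → b i = 0) ∧ ActsSL M.e V D a fun i => up (b i))
    (h2 : ∀ b : Fin k → F, (∀ i, i ∉ I → b i = 0) → ∃ a ∈ A, ActsSL M.e V D a fun i => up (b i))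
    {a : G} (ha : a ∈ A) {c : F} (hac : ActsSL M.e V D a (Pi.mulSingle i (up c))) {v : G} (hv : v ∈ V)
    (hv0 : M.e v i 1 = 0) : a * v * a⁻¹ = v := by
  classical
  have hex : ∀ j, ∃ B : Matrix.SpecialLinearGroup (Fin 2) F, (j = i → B = 1) ∧ ap B (M.e v j) 1 = 0 := by
    intro j
    by_cases hj : j = i
    · subst hj
      exact ⟨1, fun _ => rfl, by rw [ap_one]; exact hv0⟩
    · by_cases h0 : M.e v j = 0
      · refine ⟨1, fun h3 => absurd h3 hj, ?_⟩
        rw [ap_one, h0]; rfl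
      · obtain ⟨B, hB⟩ := exists_ap (x := M.e v j) (y := ![1, 0]) h0 (by
          intro h; exact one_ne_zero (congrFun h 0))
        exact ⟨B, fun h3 => absurd h3 hj, by rw [hB]; rfl⟩
  choose B hB1 hB2 using hex
  obtain ⟨g, hg, hgB⟩ := M.lift B
  have haP := hA.SP (hAS ha)
  have h3 : g * v * g⁻¹ ∈ centralizer (A : Set G) :=
    cent_off (M := M) hA hAS hoff h1 h2 (hA.cm hg hv) fun j _ => by rw [hgB.1 v hv j]; exact hB2 j
  have h4 := act_mul (M := M) hA (inv_mem hg) (act_mul hA haP hgB hac) (act_inv hA hg hgB)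
  have h5 : B * Pi.mulSingle i (up c) * B⁻¹ = Pi.mulSingle i (up c) := by
    funext j
    rw [Pi.mul_apply, Pi.mul_apply, Pi.inv_apply]
    by_cases hj : j = i
    · rw [hB1 j hj, one_mul, inv_one, mul_one]
    · rw [Pi.mulSingle_eq_of_ne hj, mul_one, mul_inv_cancel]
  rw [h5] at h4
  have h6 := conj_eq hA (mul_mem (mul_mem hg haP) (inv_mem hg)) haP h4 hac (hA.cm hg hv)
  have h7 : a * (g * v * g⁻¹) * a⁻¹ = g * v * g⁻¹ := by
    rw [mem_centralizer_iff.1 h3 a ha]; group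
  rw [h7] at h6
  have e1 : g * a * g⁻¹ * (g * v * g⁻¹) * (g * a * g⁻¹)⁻¹ = g * (a * v * a⁻¹) * g⁻¹ := by group
  rw [e1] at h6
  exact mul_left_cancel (mul_right_cancel h6)

/-- **A minimal offender is a root group.** -/
theorem One.of_min [Finite G] [Finite F] (M : NatKM F S P V D k) (h : MinOffM V S A) : ∃ i, One M A i := by
  classical
  obtain ⟨I, h1, h2⟩ := M.offM A h.le h.off
  obtain ⟨i, hi⟩ := nonempty_of_off (M := M) hA h.le h.off h1
  let B : Subgroup G :=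
    { carrier := {a | a ∈ A ∧ ∃ c : F, ActsSL M.e V D a (Pi.mulSingle i (up c))}
      mul_mem' := by
        rintro a b ⟨ha, c, hc⟩ ⟨hb, d, hd⟩
        refine ⟨mul_mem ha hb, c + d, ?_⟩
        rw [← mulSingle_mul]
        exact act_mul hA (hA.SP (h.le hb)) hc hd
      one_mem' := ⟨one_mem _, 0, by rw [mulSingle_zero]; exact act_cent hA.DV (one_mem _)⟩
      inv_mem' := by
        rintro a ⟨ha, c, hc⟩
        refine ⟨inv_mem ha, -c, ?_⟩
        rw [← mulSingle_inv]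
        exact act_inv hA (hA.SP (h.le ha)) hc }
  have hBA : B ≤ A := fun a ha => ha.1
  have hB : One M B i := by
    refine ⟨hBA.trans h.le, fun a ha => ha.2, fun c => ?_⟩
    have hs : ∀ j, j ∉ I → (Pi.single i c : Fin k → F) j = 0 := by
      intro j hj
      have h3 : j ≠ i := fun h3 => hj (by rw [h3]; exact hi)
      rw [Pi.single_apply, if_neg h3]
    obtain ⟨a, ha, hac⟩ := h2 (Pi.single i c) hs
    rw [single_up] at hac
    exact ⟨a, ⟨ha, c, hac⟩, hac⟩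
  have hBc : V ⊓ centralizer (B : Set G) = hy M i := by
    refine le_antisymm (hB.cent_le_hy hA) fun v hv => ⟨hv.1, mem_centralizer_iff.2 ?_⟩
    rintro a ⟨ha, c, hac⟩
    exact mul_inv_eq_iff_eq_mul.1 (cent_single (M := M) hA h.le h.off h1 h2 ha hac hv.1 hv.2)
  have hBoff : OffM V B := by
    refine ⟨⟨fun a ha => h.off.sq a (hBA ha), fun a ha b hb => h.off.comm a (hBA ha) b (hBA hb)⟩, ?_, ?_⟩
    · intro h0
      obtain ⟨v, hv, hvi, -⟩ := exists_pt M i ![0, 1]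
      have h3 := hB.zero_of_cent hv (le_centralizer_iff.1 h0 hv)
      rw [hvi] at h3
      exact one_ne_zero (α := F) h3
    · refine relIndex_le_iff.2 ?_
      rw [hB.relIndex hA, ← hy_relIndex M i, ← hBc, inf_comm, inf_relIndex_right]
  have hm := h.min B hBA hBoff
  have hAB : A ⊓ centralizer (V : Set G) = B ⊓ centralizer (V : Set G) := by
    refine le_antisymm (fun a ha => ⟨⟨ha.1, 0, ?_⟩, ha.2⟩) (inf_le_inf_right _ hBA)
    rw [mulSingle_zero]; exact act_cent hA.DV ha.2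
  have e1 := NOThreeL.Star.rel_mul_card A (centralizer (V : Set G))
  have e2 := NOThreeL.Star.rel_mul_card B (centralizer (V : Set G))
  rw [← hAB] at e2
  have h3 : Nat.card A ≤ Nat.card B := by
    rw [← e1, ← e2]
    exact Nat.mul_le_mul_right _ hm
  have h4 : B = A := Subgroup.eq_of_le_of_card_ge hBA h3
  exact ⟨i, h4 ▸ hB⟩

/-! ### same summand -/

theorem One.exists_same {A' : Subgroup G} (h : One M A i) (h' : One M A' i) {a : G} (ha : a ∈ A) :
    ∃ b ∈ A', b⁻¹ * a ∈ centralizer (V : Set G) := by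
  obtain ⟨c, hc⟩ := h.acts a ha
  obtain ⟨b, hb, hbc⟩ := h'.ex c
  exact ⟨b, hb, cent_of_same hA (hA.SP (h.le ha)) (hA.SP (h'.le hb)) hc hbc⟩

theorem One.comm_le {A' : Subgroup G} (h : One M A i) (h' : One M A' i) : ⁅V, A⁆ ≤ ⁅V, A'⁆ := by
  refine commutator_le.2 fun v hv a ha => ?_
  obtain ⟨b, hb, hba⟩ := h.exists_same hA h' ha
  have h3 := mem_centralizer_iff.1 hba v hv
  have e : ⁅v, a⁆ = ⁅v, b⁆ := by
    rw [commutatorElement_def, commutatorElement_def]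
    have e1 : a = b * (b⁻¹ * a) := by group
    calc v * a * v⁻¹ * a⁻¹ = v * (b * (b⁻¹ * a)) * v⁻¹ * a⁻¹ := by rw [← e1]
      _ = v * b * (b⁻¹ * a * v⁻¹) * a⁻¹ := by group
      _ = v * b * (v⁻¹ * (b⁻¹ * a)) * a⁻¹ := by
        have h4 : b⁻¹ * a * v⁻¹ = v⁻¹ * (b⁻¹ * a) := by
          rw [mul_inv_eq_iff_eq_mul, mul_assoc v⁻¹, ← h3, inv_mul_cancel_left]
        rw [h4]
      _ = v * b * v⁻¹ * b⁻¹ := by group
  rw [e]
  exact commutator_mem_commutator hv hb

/-- **`[V, A]` depends only on the summand.** -/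
theorem One.comm_same {A' : Subgroup G} (h : One M A i) (h' : One M A' i) : ⁅V, A⁆ = ⁅V, A'⁆ :=
  le_antisymm (h.comm_le hA h') (h'.comm_le hA h)

theorem One.sup_le {A' : Subgroup G} (h : One M A i) (h' : One M A' i) :
    A ≤ A' ⊔ (S ⊓ centralizer (V : Set G)) := by
  intro a ha
  obtain ⟨b, hb, hba⟩ := h.exists_same hA h' ha
  have e1 : a = b * (b⁻¹ * a) := by group
  rw [e1]
  exact mul_mem ((le_sup_left : A' ≤ _) hb)
    ((le_sup_right : S ⊓ centralizer (V : Set G) ≤ _) (mem_inf.2 ⟨mul_mem (inv_mem (h'.le hb)) (h.le ha), hba⟩))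

/-- **`A C_S(V)` depends only on the summand.** -/
theorem One.sup_same {A' : Subgroup G} (h : One M A i) (h' : One M A' i) :
    A ⊔ (S ⊓ centralizer (V : Set G)) = A' ⊔ (S ⊓ centralizer (V : Set G)) :=
  le_antisymm (_root_.sup_le (h.sup_le hA h') le_sup_right) (_root_.sup_le (h'.sup_le hA h) le_sup_right)

/-! ### all summands -/

/-- **conjugates under `S` are root groups of all summands** -/
theorem exists_one [Finite G] [Finite F] (M : NatKM F S P V D k) (h : MinOffM V S A) (j : Fin k) :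
    ∃ t ∈ S, One M (MulAut.conj t • A) j := by
  obtain ⟨i, hi⟩ := One.of_min hA M h
  obtain ⟨t, ht, htr⟩ := M.trans i j
  have h1 : MinOffM V S (cj t A) := NOThreeL.NF.NatR.minOffM_cj (hA.SP.trans hA.PV) h ht
  obtain ⟨j', hj'⟩ := One.of_min hA M h1
  have htP := hA.SP ht
  refine ⟨t, ht, ?_⟩
  have hjj : j = j' := by
    by_contra hne
    obtain ⟨v, hv, hvi, -⟩ := exists_pt M i ![0, 1]
    obtain ⟨a, ha, hac⟩ := hi.ex 1
    have haP := hA.SP (hi.le ha)
    have h2 := e_comm hA haP hac hv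
    have hw : a * v * a⁻¹ * v⁻¹ ∈ V := mul_mem (hA.cm haP hv) (inv_mem hv)
    have h3 : M.e (a * v * a⁻¹ * v⁻¹) i ≠ 0 := by
      rw [h2, hvi]
      intro h4
      have h5 := congrFun h4 0
      simp at h5
    have h4 : M.e (t * (a * v * a⁻¹ * v⁻¹) * t⁻¹) j ≠ 0 := fun h5 => h3 ((htr _ hw).1 h5)
    obtain ⟨c, hc⟩ := hj'.acts (t * a * t⁻¹) (mem_cj.2 (by
      have e : t⁻¹ * (t * a * t⁻¹) * t = a := by group
      rw [e]; exact ha))
    have h5 := e_comm_ne hA (mul_mem (mul_mem htP haP) (inv_mem htP)) hc (hA.cm htP hv) hne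
    have e : t * a * t⁻¹ * (t * v * t⁻¹) * (t * a * t⁻¹)⁻¹ * (t * v * t⁻¹)⁻¹ = t * (a * v * a⁻¹ * v⁻¹) * t⁻¹ := by
      group
    rw [e] at h5
    exact h4 h5
  rw [hjj]
  exact hj'

/-! ### constant commutators -/

/-- with constant commutators `[V, A] = {[r, b] | b ∈ A}` for every `r ∈ V - C(A)` -/
theorem mem_comm [Finite G] [Finite F] (h : One M A i) (hoff : OffM V A) (hc : Const V A) {r : G} (hr : r ∈ V)
    (hrA : r ∉ centralizer (A : Set G)) {x : G} (hx : x ∈ (⁅V, A⁆ : Subgroup G)) :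
    ∃ b ∈ A, x = b * r * b⁻¹ * r⁻¹ := by
  have hcm : ∀ b ∈ A, ∀ v ∈ V, b * v * b⁻¹ * v⁻¹ ∈ V ⊓ centralizer (A : Set G) := by
    intro b hb v hv
    obtain ⟨c, hbc⟩ := h.acts b hb
    rw [h.inf_eq hA hoff]
    refine ⟨mul_mem (hA.cm (hA.SP (h.le hb)) hv) (inv_mem hv), ?_⟩
    rw [e_comm hA (hA.SP (h.le hb)) hbc hv]
    rfl
  let R : Subgroup G :=
    { carrier := {x | ∃ b ∈ A, x = b * r * b⁻¹ * r⁻¹}
      mul_mem' := by
        rintro _ _ ⟨b, hb, rfl⟩ ⟨b', hb', rfl⟩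
        refine ⟨b * b', mul_mem hb hb', ?_⟩
        have h1 := hcm b' hb' r hr
        have h2 : b * (b' * r * b'⁻¹ * r⁻¹) * b⁻¹ = b' * r * b'⁻¹ * r⁻¹ := by
          rw [mem_centralizer_iff.1 h1.2 b hb, mul_inv_cancel_right]
        have h3 := hA.ab _ (hcm b hb r hr).1 _ h1.1
        calc b * r * b⁻¹ * r⁻¹ * (b' * r * b'⁻¹ * r⁻¹) = b' * r * b'⁻¹ * r⁻¹ * (b * r * b⁻¹ * r⁻¹) := h3
          _ = b * (b' * r * b'⁻¹ * r⁻¹) * b⁻¹ * (b * r * b⁻¹ * r⁻¹) := by rw [h2]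
          _ = b * b' * r * (b * b')⁻¹ * r⁻¹ := by group
      one_mem' := ⟨1, one_mem _, by group⟩
      inv_mem' := by
        rintro _ ⟨b, hb, rfl⟩
        refine ⟨b⁻¹, inv_mem hb, ?_⟩
        have h1 := hcm b⁻¹ (inv_mem hb) r hr
        have h2 : b * (b⁻¹ * r * b⁻¹⁻¹ * r⁻¹) * b⁻¹ = b⁻¹ * r * b⁻¹⁻¹ * r⁻¹ := by
          rw [mem_centralizer_iff.1 h1.2 b hb, mul_inv_cancel_right]
        rw [← h2]
        group }
  have hle : (⁅V, A⁆ : Subgroup G) ≤ R := by
    refine commutator_le.2 fun v hv a ha => ?_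
    have h1 : ⁅v, a⁆ = (a * v * a⁻¹ * v⁻¹)⁻¹ := by rw [commutatorElement_def]; group
    rw [h1]
    refine inv_mem ?_
    by_cases hvA : v ∈ centralizer (A : Set G)
    · have h2 : a * v * a⁻¹ * v⁻¹ = 1 := by rw [mem_centralizer_iff.1 hvA a ha]; group
      rw [h2]; exact one_mem _
    · obtain ⟨b, hb, h2⟩ := hc v hv hvA r hr hrA a ha
      exact ⟨b, hb, h2⟩
  exact hle hx

theorem exists_not_cent (hoff : OffM V A) : ∃ r ∈ V, r ∉ centralizer (A : Set G) := by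
  by_contra hcon
  push Not at hcon
  exact hoff.ne (le_centralizer_iff.1 hcon)

/-- **constant commutators: `[V, A] ∩ D = 1`** -/
theorem comm_inf [Finite G] [Finite F] (h : One M A i) (hoff : OffM V A) (hc : Const V A) :
    (⁅V, A⁆ : Subgroup G) ⊓ D = ⊥ := by
  obtain ⟨r, hr, hrA⟩ := exists_not_cent hA hoff
  refine eq_bot_iff.2 fun x hx => mem_bot.2 ?_
  obtain ⟨b, hb, rfl⟩ := mem_comm (M := M) hA h hoff hc hr hrA hx.1
  obtain ⟨c, hbc⟩ := h.acts b hb
  have hbP := hA.SP (h.le hb)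
  have h1 := e_comm hA hbP hbc hr
  rw [(M.ker _ (mul_mem (hA.cm hbP hr) (inv_mem hr))).2 hx.2] at h1
  have h2 : c * M.e r i 1 = 0 := (congrFun h1 0).symm
  rcases mul_eq_zero.1 h2 with h3 | h3
  · rw [h3] at hbc
    have h4 := mem_centralizer_iff.1 (cent_of_zero (M := M) hA hbP hbc) r hr
    rw [← h4]; group
  · exact absurd ((h.cent_iff hA hoff hr).2 h3) hrA

/-- the coordinates of `[V, A]` -/
theorem comm_e (h : One M A i) {x : G} (hx : x ∈ (⁅V, A⁆ : Subgroup G)) :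
    x ∈ V ∧ M.e x i 1 = 0 ∧ ∀ j, j ≠ i → M.e x j = 0 := by
  let R : Subgroup G :=
    { carrier := {x | x ∈ V ∧ M.e x i 1 = 0 ∧ ∀ j, j ≠ i → M.e x j = 0}
      mul_mem' := by
        rintro a b ⟨ha, ha1, ha2⟩ ⟨hb, hb1, hb2⟩
        refine ⟨mul_mem ha hb, ?_, fun j hj => ?_⟩
        · rw [M.mul a ha b hb, Pi.add_apply, Pi.add_apply, ha1, hb1, add_zero]
        · rw [M.mul a ha b hb, Pi.add_apply, ha2 j hj, hb2 j hj, add_zero]
      one_mem' := ⟨one_mem _, by rw [e_one]; rfl, fun j _ => by rw [e_one]; rfl⟩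
      inv_mem' := by
        rintro a ⟨ha, ha1, ha2⟩
        refine ⟨inv_mem ha, ?_, fun j hj => ?_⟩
        · rw [e_inv ha, Pi.neg_apply, Pi.neg_apply, ha1, neg_zero]
        · rw [e_inv ha, Pi.neg_apply, ha2 j hj, neg_zero] }
  have hle : (⁅V, A⁆ : Subgroup G) ≤ R := by
    refine commutator_le.2 fun v hv a ha => ?_
    have h1 : ⁅v, a⁆ = (a * v * a⁻¹ * v⁻¹)⁻¹ := by rw [commutatorElement_def]; group
    rw [h1]
    refine inv_mem ?_
    obtain ⟨c, hac⟩ := h.acts a ha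
    have haP := hA.SP (h.le ha)
    refine ⟨mul_mem (hA.cm haP hv) (inv_mem hv), ?_, fun j hj => e_comm_ne hA haP hac hv hj⟩
    rw [e_comm hA haP hac hv]
    rfl
  exact hle hx

end root

end Cfsg.Agent.Omega.NO3S.SOne.NatD

end

section


/-!
# GammaFF, (S1): the fields `const`, `idx`, `idx'`, `cent`, `cls` of `NT` for a natural module with radical

`M : NatKM F S P₁ (zl S P₁) (cv S P₁) k`, `P₁ ∈ P*(S)`; `nt_of` : `NT S P₁ |F|` from `4 ≤ |F|`, `NoOverM`, `gen`, `dis`.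
-/

set_option autoImplicit false
set_option linter.unusedSectionVars false

namespace Cfsg.Agent.Omega.NO3S.SOne.NTNat

open Subgroup Cfsg Cfsg.Agent.ZN Cfsg.Agent.Omega.MinPar
open Cfsg.Agent.Omega.FFThm (ElemM OffM NoOverM NatKM)
open Cfsg.Agent.Omega.FrameFF (cv)
open Cfsg.Agent.Omega.NOThreeL.NF (MinOffM)
open Cfsg.Agent.Omega.NOThreeL.NF.NatR (Const)
open Cfsg.Agent.Omega.NO3S.SOne.NatD
open scoped Pointwise

universe u

variable {G : Type u} [Group G] [Finite G] {F : Type} [Field F] [Finite F] {S : Sylow 2 G} {P₁ : Subgroup G} {k : ℕ}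

/-- **cls**: the root groups of `S` on `zl S P₁` are conjugate in `S`, modulo `O₂(P₁)` -/
theorem cls (hG : IsCharacteristicTwoType G) (hP : IsParS (S : Subgroup G) P₁)
    (M : NatKM F (S : Subgroup G) P₁ (zl (S : Subgroup G) P₁) (cv (S : Subgroup G) P₁) k) {A A' : Subgroup G}
    (h : MinOffM (zl (S : Subgroup G) P₁) (S : Subgroup G) A)
    (h' : MinOffM (zl (S : Subgroup G) P₁) (S : Subgroup G) A') :
    ∃ s ∈ (S : Subgroup G), A' ⊔ o2 P₁ = MulAut.conj s • (A ⊔ o2 P₁) := by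
  have hA := AmbD.of hG hP M
  obtain ⟨j, hj⟩ := One.of_min hA M h'
  obtain ⟨t, ht, htj⟩ := exists_one hA M h j
  have ho : (S : Subgroup G) ⊓ centralizer (zl (S : Subgroup G) P₁ : Set G) = o2 P₁ := hP.inf_centralizer S hG
  refine ⟨t, ht, ?_⟩
  have h1 := hj.sup_same hA htj
  rw [ho] at h1
  rw [h1, smul_sup]
  congr 1
  have h2 : t ∈ normalizer (o2 P₁ : Set G) := MinSimple.VModule.le_normalizer_o2 P₁ (hP.le ht)
  exact (NOThreeL.Pair.conj_eq_of_mem h2).symm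

/-- **`NT`** from `gen` and `dis` -/
theorem nt_of (hG : IsCharacteristicTwoType G) (hP : IsParS (S : Subgroup G) P₁)
    (M : NatKM F (S : Subgroup G) P₁ (zl (S : Subgroup G) P₁) (cv (S : Subgroup G) P₁) k) (h4 : 4 ≤ Nat.card F)
    (no : NoOverM (zl (S : Subgroup G) P₁) P₁)
    (gen : ∀ A, MinOffM (zl (S : Subgroup G) P₁) (S : Subgroup G) A → Const (zl (S : Subgroup G) P₁) A →
      ∃ p, Gen (S : Subgroup G) P₁ A p)
    (dis : ∀ A, MinOffM (zl (S : Subgroup G) P₁) (S : Subgroup G) A → Const (zl (S : Subgroup G) P₁) A →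
      RR (S : Subgroup G) P₁ A ⊓ cv (S : Subgroup G) P₁ = ⊥) : NT (S : Subgroup G) P₁ (Nat.card F) := by
  have hA := AmbD.of hG hP M
  refine
    { four := h4
      no := no
      const := fun A hAS hoff hc => ?_
      idx := fun A h => ?_
      idx' := fun A h => ?_
      cent := fun A h r hr hrA a ha har => ?_
      cls := fun A A' h h' => cls hG hP M h h'
      gen := gen
      dis := dis }
  · obtain ⟨i, hi⟩ := One.of_const hA M hAS hoff hc
    exact hi.min hA hoff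
  · obtain ⟨i, hi⟩ := One.of_min hA M h
    exact hi.relIndex hA
  · obtain ⟨i, hi⟩ := One.of_min hA M h
    exact hi.relIndex' hA h.off
  · obtain ⟨i, hi⟩ := One.of_min hA M h
    exact hi.cent hA h.off hr hrA ha har

end Cfsg.Agent.Omega.NO3S.SOne.NTNat

end

section


/-!
# GammaFF: a generic element of an active minimal parabolic

`P ∈ P*(S)`, `C_Z(P) = 1`, `W ≤ S` a minimal offender on `V_P` (one root group of one block, or one transposition).

* `Gnr S P W p` : `p ∈ P`, `P = ⟨S, W^(p⁻¹)⟩`, `R₀^p ∩ [V_P, W] = 1` with `R₀ = C_{V_P}(⟨W^S⟩)`;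
* `exists_gnr` : such a `p` exists (natural: the Weyl element of the block of `W`; symmetric: `(b 0)` for `W = (a b)`).
-/

set_option autoImplicit false

namespace Cfsg.Agent.Omega.NO3S.Pas

open Subgroup Cfsg Cfsg.Agent.ZN Cfsg.Agent.Omega.MinPar
open Cfsg.Agent.ZN.ChoiceBase (cj mem_cj)
open Cfsg.Agent.Omega.FFThm (NatKM SymKM SymK)
open Cfsg.Agent.Omega.FrameFF (cv)
open Cfsg.Agent.Omega.NOThreeL.NF (MinOffM)
open scoped Pointwise

universe u

variable {G : Type u} [Group G]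

/-- **A generic element**: `P = ⟨S, W^(p⁻¹)⟩`, `R₀^p ∩ [V_P, W] = 1`. -/
structure Gnr (S P W : Subgroup G) (p : G) : Prop where
  mem : p ∈ P
  gen : P ≤ S ⊔ MulAut.conj p⁻¹ • W
  dis : ∀ x ∈ zl S P, (∀ s ∈ S, MulAut.conj s • W ≤ centralizer ({x} : Set G)) → p * x * p⁻¹ ∈ ⁅zl S P, W⁆ → x = 1

section nat

open NOThreeL.NF.NatR
open Cfsg.Agent.Omega.NatPair (ap ap_mul ap_one ap_inv_ap ap_zero' ap_one' ext2)
open Cfsg.Agent.Lib.SL2Mat

theorem gnr_nat [Finite G] {S P W : Subgroup G} (hP : IsParS S P) {F : Type} [Field F] [CharP F 2] {k : ℕ}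
    (M : NatKM F S P (zl S P) ⊥ k) (hW : MinOffM (zl S P) S W) : ∃ p, Gnr S P W p := by
  classical
  have hPW : P ≤ normalizer (zl S P : Set G) := le_normalizer_zl S P
  have hSP := hP.le
  obtain ⟨i, hr⟩ := Rt.of (M := M) hPW hSP hW
  obtain ⟨g, hg, hgac⟩ := lift_ac (M := M) (Pi.mulSingle i (wm 1 one_ne_zero))
  have hWP : W ≤ P := hW.le.trans hSP
  refine ⟨g⁻¹, inv_mem hg, ?_, ?_⟩
  · rw [inv_inv]
    obtain ⟨a, ha, hac⟩ := hr.ex (-1)
    have haP := hWP ha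
    have h1 := Ac.mul hPW (inv_mem hg) (Ac.mul hPW haP hgac hac) (hgac.inv hPW hg)
    have e1 : (Pi.mulSingle i (wm 1 one_ne_zero) : Fin k → Matrix.SpecialLinearGroup (Fin 2) F) *
        Pi.mulSingle i (up (-1)) * (Pi.mulSingle i (wm 1 one_ne_zero))⁻¹ = Pi.mulSingle i (lo 1) := by
      rw [← Pi.mulSingle_mul, ← Pi.mulSingle_inv, ← Pi.mulSingle_mul]
      congr 1
      rw [wm_up, mul_inv_cancel_right]
      congr 1
      ring
    rw [e1] at h1
    refine NOThreeL.Low.le_of_lo M hP le_sup_left (sup_le hSP ?_)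
      ((le_sup_right : MulAut.conj g • W ≤ _) (NOne.Frame.conj_mem ha)) h1
    rintro _ ⟨x, hx, rfl⟩
    exact mul_mem (mul_mem hg (hWP hx)) (inv_mem hg)
  · intro x hx hc hpx
    rw [hr.comm_eq hPW hSP] at hpx
    have h1 : ∀ j, M.e x j 1 = 0 := by
      intro j
      obtain ⟨t, ht, hrt⟩ := exists_rt (M := M) hPW hSP hW hr j
      refine hrt.zero_of_cent hx ?_
      rw [mem_centralizer_iff]
      intro y hy
      have h2 : y ∈ centralizer ({x} : Set G) := hc t ht hy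
      exact mem_centralizer_singleton_iff.1 h2
    have hac' := hgac.inv hPW hg
    have h2 : ∀ j, M.e (g⁻¹ * x * g⁻¹⁻¹) j = ap ((Pi.mulSingle i (wm 1 one_ne_zero) :
        Fin k → Matrix.SpecialLinearGroup (Fin 2) F)⁻¹ j) (M.e x j) := hac' x hx
    refine e_inj (M := M) hx (one_mem _) ?_
    rw [e_one]
    funext j
    by_cases hj : j = i
    · subst hj
      have h3 := hpx.2.1 j
      rw [h2 j] at h3
      have h4 : ap (wm (1 : F) one_ne_zero) (ap ((Pi.mulSingle j (wm 1 one_ne_zero) :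
        Fin k → Matrix.SpecialLinearGroup (Fin 2) F)⁻¹ j) (M.e x j)) = M.e x j := by
        rw [Pi.inv_apply, Pi.mulSingle_eq_same, ← ap_mul, mul_inv_cancel, ap_one]
      refine ext2 ?_ (h1 j)
      rw [← h4, ap_zero', h3, wm_00]
      simp
    · have h3 := hpx.2.2 j (by simpa using hj)
      rw [h2 j, Pi.inv_apply, Pi.mulSingle_eq_of_ne hj, inv_one, ap_one] at h3
      rw [h3]
      rfl

end nat

section sym

open Cfsg.Agent.Omega.Half (Amb)
open Cfsg.Agent.Omega.Half.SymA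
open Cfsg.Agent.Omega.NOThreeL.NF.SymRP
open scoped Classical

theorem gnr_sym [Finite G] (hG : IsCharacteristicTwoType G) {S : Sylow 2 G} {P W : Subgroup G}
    (hP : IsParS (S : Subgroup G) P) {k m : ℕ} (hm : 1 ≤ m)
    (M : SymKM (S : Subgroup G) P (zl (S : Subgroup G) P) ⊥ k m)
    (hW : MinOffM (zl (S : Subgroup G) P) (S : Subgroup G) W) : ∃ p, Gnr (S : Subgroup G) P W p := by
  have hA : Amb (S : Subgroup G) P (zl (S : Subgroup G) P) := Half.amb_of_loc hG S hP.isLoc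
  obtain ⟨⟨a, b, h⟩, -⟩ := exists_ad M hA hm hW
  have hWP : W ≤ P := hW.le.trans hP.le
  have ha := h.sw.nz hA hm
  have hb := (h.sw.symm).nz hA hm
  obtain ⟨g, hg, hgac⟩ := exists_swap (M := M.toSymK) (p := b) (q := (b.1, 0)) rfl
  have hab : a.1 = b.1 := h.sw.2.1
  have ha0 : a ≠ (b.1, 0) := fun h1 => ha (by rw [h1])
  have e1 : Equiv.swap b ((b.1, 0) : Pt k m) a = a := Equiv.swap_apply_of_ne_of_ne h.sw.1 ha0
  refine ⟨g⁻¹, inv_mem hg, ?_, ?_⟩
  · rw [inv_inv]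
    obtain ⟨w, hw, hwac⟩ := h.ex
    have h1 := hgac.conj hA hg hwac (hWP hw)
    have h2 : Equiv.swap b ((b.1, 0) : Pt k m) * Equiv.swap a b * (Equiv.swap b ((b.1, 0) : Pt k m))⁻¹ =
        Equiv.swap (Equiv.swap b ((b.1, 0) : Pt k m) a) (Equiv.swap b ((b.1, 0) : Pt k m) b) :=
      (Equiv.swap_apply_apply _ _ _).symm
    rw [h2, e1, Equiv.swap_apply_left, Equiv.swap_comm, ← hab] at h1
    refine NOThreeL.Low.le_of_swap M.toSymK hA hm (fun p q hp hq => trans_pts S hA hm hp hq) hP le_sup_left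
      (sup_le hP.le ?_) ((le_sup_right : MulAut.conj g • W ≤ _) (NOne.Frame.conj_mem hw)) ha h1
    rintro _ ⟨x, hx, rfl⟩
    exact mul_mem (mul_mem hg (hWP hx)) (inv_mem hg)
  · intro x hx hc hpx
    obtain ⟨r, hr⟩ := exists_isC (M := M.toSymK) hab
    have hrr : r * r = 1 := by rw [← pow_two]; exact hA.sq r hr.1
    rw [h.comm_eq hA hm hr, NOThreeL.FourLine.mem_zpowers_iff hrr] at hpx
    rw [inv_inv] at hpx
    rcases hpx with hpx | hpx
    · have e : x = g * (g⁻¹ * x * g) * g⁻¹ := by group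
      rw [e, hpx, mul_one, mul_inv_cancel]
    · exfalso
      obtain ⟨w, hw, hwac⟩ := h.ex
      have h2 : w ∈ centralizer ({x} : Set G) := hc 1 (one_mem _) (by rwa [map_one, one_smul])
      have h3 : w * x = x * w := mem_centralizer_singleton_iff.1 h2
      have h4 : E M.toSymK x a = E M.toSymK x b := eq_of_comm hwac hx (by rw [h3, mul_inv_cancel_right])
      have h5 := hgac (g⁻¹ * x * g) (by rw [hpx]; exact hr.1)
      have e : g * (g⁻¹ * x * g) * g⁻¹ = x := by group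
      rw [e, hpx] at h5
      have h6 := h5 a
      rw [e1, hr.left h.sw.1] at h6
      have h7 := h5 ((b.1, 0) : Pt k m)
      rw [Equiv.swap_apply_right, hr.zero ha0.symm (fun h8 => hb (by rw [← h8]))] at h7
      rw [h6, h7] at h4
      exact one_ne_zero h4

end sym

/-- **A generic element exists.** -/
theorem exists_gnr [Finite G] (hFF : FFThm.StmtM.{u}) (hG : IsCharacteristicTwoType G) {S : Sylow 2 G}
    {P W : Subgroup G} (hP : IsParS (S : Subgroup G) P) (hD : cv (S : Subgroup G) P = ⊥)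
    (hW : MinOffM (zl (S : Subgroup G) P) (S : Subgroup G) W) : ∃ p, Gnr (S : Subgroup G) P W p := by
  obtain ⟨-, hcon⟩ := hFF G (S : Subgroup G) P (MinSimple.EmptyTI.syl_of_le hP.le)
    hP.toIsMinPar (hP.isLoc.char2 S hG) ⟨W, hW.le.trans hP.le, hW.off⟩
  rcases hcon with ⟨F, _, _, _, k, -, ⟨M⟩⟩ | ⟨k, m, -, hm, ⟨M⟩⟩
  · rw [hD] at M
    exact gnr_nat hP M hW
  · rw [hD] at M
    exact gnr_sym hG hP (by omega) M hW

end Cfsg.Agent.Omega.NO3S.Pas

end
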