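import Cfsg.Agent.Mrg.Omega.NO3S.ThmB.Inst
import Cfsg.Agent.Mrg.Omega.Half.Basic
import Cfsg.Agent.Mrg.Omega.NO3S.KeyRad.Count
import Cfsg.Agent.Mrg.Omega.NO3S.KeyRad.Blk
import Cfsg.Agent.Mrg.Omega.NO3S.KeyRad.Star
import Cfsg.Agent.Mrg.Omega.NO3S.Pas.Inst
import Cfsg.Agent.Mrg.Omega.Spread.ElatOf
import Cfsg.Agent.Mrg.Omega.Node.NO3L
import Cfsg.Agent.Mrg.Omega.NOThreeL.RTools.Two
import Cfsg.Agent.Mrg.Omega.NOne.LemmaT
import Cfsg.Agent.Lib.SylowNormalInf
import Cfsg.Agent.Mrg.Omega.NO3S.Act.Dich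
import Cfsg.Agent.Mrg.Omega.NO3S.BetaFF.SupNat

-- merged: Cfsg.Agent.Mrg.Omega.NO3S.KeyRad.Sym
section

/-!
# Even-subset lines with a radical: `U ≤ E` (#21048; THEOREM LOW (T2) for `M : SymKM S P U D k m`)

* `Tr M i x y t` : `t ∈ P` acts as the transposition `(x y)` of the `i`-th summand and centralises `D`;
* `comm_tr` : `t` centralises all `v ∈ U` with `e v i x = e v i y`;
* `Wt M i x y w` : `w = [t, u]` with `Tr M i x y t`, `e w = {x, y}`; unique; `P` permutes these elements;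
* `exists_wt` : if `zc S ≤ E`, `U ≰ E`, then there is `w ∉ E` with `Wt M i 0 y w`;
* `le_of_qb` : `QB S U B E`, `zc S ≤ E` ⟹ `U ≤ E`.
-/

set_option autoImplicit false
set_option linter.unusedSectionVars false

namespace Cfsg.Agent.Omega.NO3S.KeyRad.Sym

open Subgroup Cfsg Cfsg.Agent.ZN Cfsg.Agent.ZN.ChoiceBase
open Cfsg.Agent.Omega.FFThm
open Cfsg.Agent.Omega.NO3S.ThmB
open Cfsg.Agent.Omega.NOThreeL.Low.Nat (QB)

universe u

variable {G : Type u} [Group G] {S P U D : Subgroup G} {k m : ℕ}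

/-- a transposition -/
def Tr (M : SymKM S P U D k m) (i : Fin k) (x y : Fin (2 ^ m + 1)) (t : G) : Prop := t ∈ P ∧ Ac M t (pr i x y)

/-- the commutator with a transposition -/
def Wt (M : SymKM S P U D k m) (i : Fin k) (x y : Fin (2 ^ m + 1)) (w : G) : Prop :=
  M.e w = dl i x + dl i y ∧ ∃ t, Tr M i x y t ∧ ∃ u ∈ U, w = t * u * t⁻¹ * u⁻¹

theorem sg_swap_comm {k n : ℕ} {i : Fin k} {x y a b : Fin n} {l : Fin k} (hxy : l = i → a ≠ x ∧ a ≠ y ∧ b ≠ x ∧ b ≠ y) :
    pr i x y * pr l a b = pr l a b * pr i x y := by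
  funext j
  rw [Pi.mul_apply, Pi.mul_apply, pr, pr]
  by_cases hli : l = i
  · subst hli
    obtain ⟨h1, h2, h3, h4⟩ := hxy rfl
    by_cases hj : j = l
    · subst hj
      rw [sg_self, sg_self]
      ext1 z
      rw [Equiv.Perm.mul_apply, Equiv.Perm.mul_apply]
      by_cases hzx : z = x
      · subst hzx
        rw [Equiv.swap_apply_left, Equiv.swap_apply_of_ne_of_ne h1.symm h3.symm, Equiv.swap_apply_left,
          Equiv.swap_apply_of_ne_of_ne h2.symm h4.symm]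
      · by_cases hzy : z = y
        · subst hzy
          rw [Equiv.swap_apply_right, Equiv.swap_apply_of_ne_of_ne h2.symm h4.symm, Equiv.swap_apply_right,
            Equiv.swap_apply_of_ne_of_ne h1.symm h3.symm]
        · rw [Equiv.swap_apply_of_ne_of_ne hzx hzy]
          by_cases hza : z = a
          · subst hza
            rw [Equiv.swap_apply_left, Equiv.swap_apply_of_ne_of_ne h3 h4]
          · by_cases hzb : z = b
            · subst hzb
              rw [Equiv.swap_apply_right, Equiv.swap_apply_of_ne_of_ne h1 h2]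
            · rw [Equiv.swap_apply_of_ne_of_ne hza hzb, Equiv.swap_apply_of_ne_of_ne hzx hzy]
    · rw [sg_ne hj, sg_ne hj]
  · by_cases hj : j = i
    · subst hj
      rw [sg_self, sg_ne (Ne.symm hli), mul_one, one_mul]
    · rw [sg_ne hj, one_mul, mul_one]

theorem pr_sq {k n : ℕ} (i : Fin k) (x y : Fin n) : pr i x y * pr i x y = 1 := by
  rw [pr, ← sg_mul, Equiv.swap_mul_self, sg_one]

theorem pr_symm {k n : ℕ} (i : Fin k) (x y : Fin n) : pr i x y = pr i y x := by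
  rw [pr, pr, Equiv.swap_comm]

variable {M : SymKM S P U D k m} (h : Sb M)
include h

/-- `t²` centralises `U` -/
theorem tr_sq {i : Fin k} {x y : Fin (2 ^ m + 1)} {t : G} (ht : Tr M i x y t) {v : G} (hv : v ∈ U) :
    t * (t * v * t⁻¹) * t⁻¹ = v := by
  have h1 := h.ac_mul ht.1 ht.2 ht.2
  rw [pr_sq] at h1
  have h2 := h.comm_of_one (mul_mem ht.1 ht.1) h1 hv
  calc t * (t * v * t⁻¹) * t⁻¹ = t * t * v * (t * t)⁻¹ := by group
    _ = v := by rw [h2, mul_inv_cancel_right]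

/-- `t` centralises `[t, u]` -/
theorem tr_comm_self {i : Fin k} {x y : Fin (2 ^ m + 1)} {t : G} (ht : Tr M i x y t) {u : G} (hu : u ∈ U) :
    t * (t * u * t⁻¹ * u⁻¹) = t * u * t⁻¹ * u⁻¹ * t := by
  have h1 := tr_sq h ht hu
  have h2 := h.memV ht.1 hu
  refine mul_inv_eq_iff_eq_mul.1 ?_
  calc t * (t * u * t⁻¹ * u⁻¹) * t⁻¹ = t * (t * u * t⁻¹) * t⁻¹ * (t * u * t⁻¹)⁻¹ := by group
    _ = u * (t * u * t⁻¹)⁻¹ := by rw [h1]
    _ = u⁻¹ * (t * u * t⁻¹) := by rw [h.inv_eq h2, h.inv_eq hu]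
    _ = _ := h.cm (inv_mem hu) h2

/-- `t` fixes modulo `D` a pair of points which it fixes -/
theorem e_tr_pair {i : Fin k} {x y : Fin (2 ^ m + 1)} {t : G} (ht : Tr M i x y t) {l : Fin k}
    {a b : Fin (2 ^ m + 1)} (hab : l = i → a ≠ x ∧ a ≠ y ∧ b ≠ x ∧ b ≠ y) {v : G} (hv : v ∈ U)
    (he : M.e v = dl l a + dl l b) : M.e (t * v * t⁻¹) = M.e v := by
  rw [Sb.e_pair ht.2.1 hv he, he]
  by_cases hli : l = i
  · obtain ⟨h1, h2, h3, h4⟩ := hab hli
    subst hli
    rw [pr, sg_self, Equiv.swap_apply_of_ne_of_ne h1 h2, Equiv.swap_apply_of_ne_of_ne h3 h4]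
  · rw [pr, sg_ne hli]
    rfl

/-- pairs fixed by `t` are images of elements of `C_U(t)` -/
theorem exists_pair_comm {i : Fin k} {x y : Fin (2 ^ m + 1)} {t : G} (ht : Tr M i x y t) {l : Fin k}
    {a b : Fin (2 ^ m + 1)} (hab : l = i → a ≠ x ∧ a ≠ y ∧ b ≠ x ∧ b ≠ y) :
    ∃ v ∈ U, M.e v = dl l a + dl l b ∧ t * v = v * t := by
  by_cases hne : a = b
  · refine ⟨1, one_mem _, ?_, by rw [mul_one, one_mul]⟩
    rw [Sb.e_one (M := M), hne, add_self2]
  obtain ⟨c, hcx, hcy, hca, hcb⟩ : ∃ c, c ≠ x ∧ c ≠ y ∧ c ≠ a ∧ c ≠ b := by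
    obtain ⟨p, q, hpq, h1, h2, h3, h4, h5, h6⟩ := h.exists_ne x y a
    by_cases hpb : p = b
    · exact ⟨q, h4, h5, h6, fun hh => hpq (by rw [hpb, hh])⟩
    · exact ⟨p, h1, h2, h3, hpb⟩
  obtain ⟨u, hu, hue⟩ := Sb.exists_pair M l a c
  obtain ⟨s, hs, hs1, hs2⟩ := M.lift (pr l a b)
  have hsA : Ac M s (pr l a b) := ⟨hs1, hs2⟩
  have h1 := h.cc ht.1 hs ht.2 hsA (sg_swap_comm hab) hu
    (e_tr_pair h ht (fun hl => ⟨(hab hl).1, (hab hl).2.1, hcx, hcy⟩) hu hue)
  refine ⟨s * u * s⁻¹ * u⁻¹, mul_mem (h.memV hs hu) (inv_mem hu), ?_, h1⟩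
  rw [h.e_div (h.memV hs hu) hu, Sb.e_pair hs1 hu hue, hue, pr, sg_self, Equiv.swap_apply_left,
    Equiv.swap_apply_of_ne_of_ne hca hcb]
  have e1 : dl l b + dl l c + (dl l a + dl l c) = dl l a + dl l b + (dl l c + dl l c) := by abel
  rw [e1, add_self2, add_zero]

/-- the pair `{x, y}` itself -/
theorem exists_self_comm {i : Fin k} {x y : Fin (2 ^ m + 1)} {t : G} (ht : Tr M i x y t) :
    ∃ v ∈ U, M.e v = dl i x + dl i y ∧ t * v = v * t := by
  obtain ⟨p, q, hpq, h1, h2, -⟩ := h.exists_ne x y x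
  obtain ⟨u, hu, hue⟩ := Sb.exists_pair M i x p
  refine ⟨t * u * t⁻¹ * u⁻¹, mul_mem (h.memV ht.1 hu) (inv_mem hu), ?_, tr_comm_self h ht hu⟩
  rw [h.e_div (h.memV ht.1 hu) hu, Sb.e_pair ht.2.1 hu hue, hue, pr, sg_self, Equiv.swap_apply_left,
    Equiv.swap_apply_of_ne_of_ne h1 h2]
  have e1 : dl i y + dl i p + (dl i x + dl i p) = dl i x + dl i y + (dl i p + dl i p) := by abel
  rw [e1, add_self2, add_zero]

/-- the images in `U / D` of the elements of `C_U(t)` -/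
def fx (t : G) (M : SymKM S P U D k m) : AddSubmonoid (Fin k → Fin (2 ^ m + 1) → ZMod 2) where
  carrier := {w | ∃ v ∈ U, M.e v = w ∧ t * v = v * t}
  zero_mem' := ⟨1, one_mem _, Sb.e_one, by rw [mul_one, one_mul]⟩
  add_mem' := by
    rintro _ _ ⟨v, hv, rfl, h1⟩ ⟨w, hw, rfl, h2⟩
    exact ⟨v * w, mul_mem hv hw, M.mul v hv w hw, (show Commute t v from h1).mul_right h2⟩

/-- **`t` centralises `{v : e v i x = e v i y}`** -/
theorem comm_tr {i : Fin k} {x y : Fin (2 ^ m + 1)} {t : G} (ht : Tr M i x y t) {v : G} (hv : v ∈ U)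
    (hxy : M.e v i x = M.e v i y) : t * v = v * t := by
  classical
  by_cases hne : x = y
  · have h1 : pr i x y = 1 := by rw [hne, pr, Equiv.swap_self]; exact sg_one i
    have h2 := ht.2
    rw [h1] at h2
    exact h.comm_of_one ht.1 h2 hv
  obtain ⟨z0, -, -, hz1, hz2, -⟩ := h.exists_ne x y x
  have hz : ∀ a : ZMod 2, a = 0 ∨ a = 1 := by decide
  -- the generators
  have g1 : ∀ (l : Fin k) (a b : Fin (2 ^ m + 1)), (l = i → a ≠ x ∧ a ≠ y ∧ b ≠ x ∧ b ≠ y) →
      dl l a + dl l b ∈ fx t M := fun l a b hab => exists_pair_comm h ht hab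
  have g2 : dl i x + dl i y ∈ fx t M := exists_self_comm h ht
  -- the decomposition
  let bs : Fin k → Fin (2 ^ m + 1) := fun _ => z0
  have dec : M.e v = (∑ l, ∑ a, if (l = i ∧ (a = x ∨ a = y)) ∨ M.e v l a = 0 then 0 else dl l a + dl l z0) +
      if M.e v i x = 0 then 0 else dl i x + dl i y := by
    funext l z
    have hrow : ∀ l' : Fin k, l' ≠ l → (∑ a, if (l' = i ∧ (a = x ∨ a = y)) ∨ M.e v l' a = 0 then (0 : Fin k → Fin (2 ^ m + 1) → ZMod 2)
        else dl l' a + dl l' z0) l z = 0 := by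
      intro l' hl'
      rw [Finset.sum_apply, Finset.sum_apply]
      refine Finset.sum_eq_zero fun a _ => ?_
      split_ifs
      · rfl
      · rw [Pi.add_apply, dl_ne' (Ne.symm hl'), dl_ne' (Ne.symm hl'), add_zero]; rfl
    have hev := M.even v hv l
    rw [Pi.add_apply, Pi.add_apply, Finset.sum_apply, Finset.sum_apply,
      Finset.sum_eq_single l (fun l' _ hl' => hrow l' hl') (fun hh => absurd (Finset.mem_univ l) hh),
      Finset.sum_apply, Finset.sum_apply]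
    by_cases hli : l = i
    · subst hli
      have hs : ∀ a, (if (l = l ∧ (a = x ∨ a = y)) ∨ M.e v l a = 0 then (0 : Fin k → Fin (2 ^ m + 1) → ZMod 2)
          else dl l a + dl l z0) l z = (if a = x ∨ a = y then 0 else M.e v l a) * ((if z = a then 1 else 0) +
            if z = z0 then 1 else 0) := by
        intro a
        by_cases ha : a = x ∨ a = y
        · rw [if_pos (Or.inl ⟨rfl, ha⟩), if_pos ha, zero_mul]; rfl
        · rcases hz (M.e v l a) with h0 | h0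
          · rw [if_pos (Or.inr h0), if_neg ha, h0, zero_mul]; rfl
          · rw [if_neg (by rw [h0]; rintro (⟨-, h5⟩ | h5); exacts [ha h5, one_ne_zero h5]), if_neg ha, h0, one_mul,
              Pi.add_apply, Pi.add_apply]
            simp [dl]
      rw [Finset.sum_congr rfl fun a _ => hs a]
      have hE : ∑ a, (if a = x ∨ a = y then 0 else M.e v l a) = 0 := by
        have h1 : ∑ a, M.e v l a = ∑ a, (if a = x ∨ a = y then 0 else M.e v l a) +
            ∑ a, (if a = x ∨ a = y then M.e v l a else 0) := by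
          rw [← Finset.sum_add_distrib]
          refine Finset.sum_congr rfl fun a _ => ?_
          split_ifs
          · rw [zero_add]
          · rw [add_zero]
        have h2 : ∑ a, (if a = x ∨ a = y then M.e v l a else 0) = 0 := by
          rw [← Finset.sum_filter]
          have h3 : (Finset.univ.filter fun a : Fin (2 ^ m + 1) => a = x ∨ a = y) = {x, y} := by
            ext a
            simp
          rw [h3, Finset.sum_pair hne, hxy]
          exact CharTwo.add_self_eq_zero _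
        rw [h1, h2, add_zero] at hev
        exact hev
      simp only [mul_add, Finset.sum_add_distrib, ← Finset.sum_mul, hE, zero_mul, add_zero]
      simp only [mul_ite, mul_one, mul_zero]
      rw [Finset.sum_ite_eq Finset.univ z, if_pos (Finset.mem_univ z)]
      by_cases hzx : z = x
      · subst hzx
        rw [if_pos (Or.inl rfl), zero_add]
        rcases hz (M.e v l z) with h0 | h0
        · rw [if_pos h0, h0]; rfl
        · rw [if_neg (by rw [h0]; exact one_ne_zero), h0, Pi.add_apply, Pi.add_apply, dl_self, dl_ne l hne, add_zero]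
      · by_cases hzy : z = y
        · subst hzy
          rw [if_pos (Or.inr rfl), zero_add, ← hxy]
          rcases hz (M.e v l x) with h0 | h0
          · rw [if_pos h0, h0]; rfl
          · rw [if_neg (by rw [h0]; exact one_ne_zero), h0, Pi.add_apply, Pi.add_apply, dl_self,
              dl_ne l (Ne.symm hne), zero_add]
        · rw [if_neg (by rintro (h5 | h5); exacts [hzx h5, hzy h5])]
          split_ifs
          · rw [Pi.zero_apply, Pi.zero_apply, add_zero]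
          · rw [Pi.add_apply, Pi.add_apply, dl_ne l hzx, dl_ne l hzy, add_zero, add_zero]
    · have hs : ∀ a, (if (l = i ∧ (a = x ∨ a = y)) ∨ M.e v l a = 0 then (0 : Fin k → Fin (2 ^ m + 1) → ZMod 2)
          else dl l a + dl l z0) l z = M.e v l a * ((if z = a then 1 else 0) + if z = z0 then 1 else 0) := by
        intro a
        rcases hz (M.e v l a) with h0 | h0
        · rw [if_pos (Or.inr h0), h0, zero_mul]; rfl
        · rw [if_neg (by rw [h0]; rintro (⟨h5, -⟩ | h5); exacts [hli h5, one_ne_zero h5]), h0, one_mul,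
            Pi.add_apply, Pi.add_apply]
          simp [dl]
      rw [Finset.sum_congr rfl fun a _ => hs a]
      simp only [mul_add, Finset.sum_add_distrib, ← Finset.sum_mul, hev, zero_mul, add_zero]
      simp only [mul_ite, mul_one, mul_zero]
      rw [Finset.sum_ite_eq Finset.univ z, if_pos (Finset.mem_univ z)]
      split_ifs
      · rw [Pi.zero_apply, Pi.zero_apply, add_zero]
      · rw [Pi.add_apply, dl_ne' hli, dl_ne' hli, add_zero, Pi.zero_apply, add_zero]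
  have hmem : M.e v ∈ fx t M := by
    rw [dec]
    refine add_mem (sum_mem fun l _ => sum_mem fun a _ => ?_) ?_
    · split_ifs with hc
      · exact zero_mem _
      · refine g1 l a z0 fun hl => ⟨fun h5 => hc (Or.inl ⟨hl, Or.inl h5⟩), fun h5 => hc (Or.inl ⟨hl, Or.inr h5⟩), hz1, hz2⟩
    · split_ifs
      · exact zero_mem _
      · exact g2
  obtain ⟨v', hv', hvv, hc⟩ := hmem
  have h1 : v * v'⁻¹ ∈ D := (h.mem_D hv hv').2 hvv.symm
  have h2 : v = v * v'⁻¹ * v' := by group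
  rw [h2]
  exact (show Commute t (v * v'⁻¹) from ht.2.2 _ h1).mul_right hc

/-- `[t, u]` is `1` or a `Wt` -/
theorem comm_or {i : Fin k} {x y : Fin (2 ^ m + 1)} {t : G} (ht : Tr M i x y t) {u : G} (hu : u ∈ U) :
    t * u * t⁻¹ * u⁻¹ = 1 ∨ Wt M i x y (t * u * t⁻¹ * u⁻¹) := by
  by_cases hxy : M.e u i x = M.e u i y
  · left
    rw [comm_tr h ht hu hxy]
    group
  · right
    refine ⟨?_, t, ht, u, hu, rfl⟩
    rw [h.e_div (h.memV ht.1 hu) hu]
    funext l z
    rw [Pi.add_apply, Pi.add_apply, Sb.ac_e ht.2.1 hu l z]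
    by_cases hli : l = i
    · subst hli
      rw [pr, sg_self, Equiv.swap_inv, Pi.add_apply, Pi.add_apply]
      have key : ∀ a b : ZMod 2, a ≠ b → a + b = 1 := by decide
      have hne : x ≠ y := fun h1 => hxy (by rw [h1])
      by_cases hzx : z = x
      · subst hzx
        rw [Equiv.swap_apply_left, dl_self, dl_ne l hne, add_zero]
        exact key _ _ (Ne.symm hxy)
      · by_cases hzy : z = y
        · subst hzy
          rw [Equiv.swap_apply_right, dl_self, dl_ne l (Ne.symm hne), zero_add]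
          exact key _ _ hxy
        · rw [Equiv.swap_apply_of_ne_of_ne hzx hzy, dl_ne l hzx, dl_ne l hzy, add_zero]
          exact CharTwo.add_self_eq_zero _
    · rw [pr, sg_ne hli, inv_one, Equiv.Perm.one_apply, Pi.add_apply, dl_ne' hli, dl_ne' hli]
      exact (CharTwo.add_self_eq_zero _).trans (add_zero _).symm

theorem Wt.mem {i : Fin k} {x y : Fin (2 ^ m + 1)} {w : G} (hw : Wt M i x y w) : w ∈ U := by
  obtain ⟨-, t, ht, u, hu, rfl⟩ := hw
  exact mul_mem (h.memV ht.1 hu) (inv_mem hu)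

/-- **uniqueness** -/
theorem Wt.eq {i : Fin k} {x y : Fin (2 ^ m + 1)} (hxy : x ≠ y) {w w' : G} (hw : Wt M i x y w)
    (hw' : Wt M i x y w') : w = w' := by
  obtain ⟨he, t, ht, u, hu, rfl⟩ := hw
  obtain ⟨he', t', ht', u', hu', rfl⟩ := hw'
  have hne : dl i x + dl i y ≠ (0 : Fin k → Fin (2 ^ m + 1) → ZMod 2) := by
    intro h1
    have h2 := congrFun (congrFun h1 i) x
    rw [Pi.add_apply, Pi.add_apply, dl_self, dl_ne i hxy, add_zero] at h2
    exact one_ne_zero h2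
  have hval : ∀ t u : G, Tr M i x y t → u ∈ U → M.e (t * u * t⁻¹ * u⁻¹) = dl i x + dl i y →
      M.e u i x ≠ M.e u i y := by
    intro t u ht hu he h1
    rw [comm_tr h ht hu h1] at he
    have e1 : u * t * t⁻¹ * u⁻¹ = 1 := by group
    rw [e1, Sb.e_one (M := M)] at he
    exact hne he.symm
  have h1 := hval t u ht hu he
  have h2 := hval t' u' ht' hu' he'
  have h3 : t' * u' * t'⁻¹ = t * u' * t⁻¹ := h.same ht'.1 ht.1 ht'.2 ht.2 hu'
  rw [h3]
  have key : ∀ a b c d : ZMod 2, a ≠ b → c ≠ d → a + c = b + d := by decide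
  have h4 : M.e (u * u'⁻¹) i x = M.e (u * u'⁻¹) i y := by
    rw [h.e_div hu hu']
    exact key _ _ _ _ h1 h2
  have h5 := comm_tr h ht (mul_mem hu (inv_mem hu')) h4
  have m1 := h.memV ht.1 hu'
  calc t * u * t⁻¹ * u⁻¹ = (t * (u * u'⁻¹)) * u' * t⁻¹ * u⁻¹ := by group
    _ = (u * u'⁻¹) * (t * u' * t⁻¹) * u⁻¹ := by rw [h5]; group
    _ = (t * u' * t⁻¹) * (u * u'⁻¹) * u⁻¹ := by rw [h.cm (mul_mem hu (inv_mem hu')) m1]
    _ = t * u' * t⁻¹ * (u * (u'⁻¹ * u⁻¹)) := by group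
    _ = t * u' * t⁻¹ * (u * (u⁻¹ * u'⁻¹)) := by rw [h.cm (inv_mem hu') (inv_mem hu)]
    _ = _ := by group

/-- the conjugate of a transposition -/
theorem Tr.conj {i : Fin k} {x y : Fin (2 ^ m + 1)} {g t : G} (ht : Tr M i x y t) (hg : g ∈ P)
    {σ : Equiv.Perm (Fin k)} {τ : Fin k → Equiv.Perm (Fin (2 ^ m + 1))} (hστ : ActsSym M.e U g σ τ) :
    Tr M (σ i) (τ i x) (τ i y) (g * t * g⁻¹) := by
  refine ⟨mul_mem (mul_mem hg ht.1) (inv_mem hg), fun v hv l z => ?_, fun d hd => ?_⟩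
  · obtain ⟨j, rfl⟩ := σ.surjective l
    obtain ⟨z', rfl⟩ := (τ j).surjective z
    have hu : g⁻¹ * v * g ∈ U := by
      have := h.memV (inv_mem hg) hv
      rwa [inv_inv] at this
    have e1 : g * t * g⁻¹ * v * (g * t * g⁻¹)⁻¹ = g * (t * (g⁻¹ * v * g) * t⁻¹) * g⁻¹ := by group
    have e2 : g * (g⁻¹ * v * g) * g⁻¹ = v := by group
    have h1 := hστ _ hu j z'
    rw [e2] at h1
    rw [e1, Equiv.Perm.one_apply, h1]
    have h2 : pr (σ i) (τ i x) (τ i y) (σ j) (τ j z') = τ j (pr i x y j z') := by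
      by_cases hji : j = i
      · subst hji
        rw [pr, pr, sg_self, sg_self]
        rw [Equiv.swap_apply_apply, Equiv.Perm.mul_apply, Equiv.Perm.mul_apply, ← Equiv.Perm.mul_apply (τ j)⁻¹, inv_mul_cancel, Equiv.Perm.one_apply]
      · rw [pr, pr, sg_ne hji, sg_ne (fun h3 => hji (σ.injective h3))]
        rfl
    rw [h2, hστ _ (h.memV ht.1 hu) j _]
    exact ht.2.1 _ hu j z'
  · have hd' : g⁻¹ * d * g ∈ D := by
      have := conj_mem h.DP' (inv_mem hg) hd
      rwa [inv_inv] at this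
    have h5 := ht.2.2 _ hd'
    calc g * t * g⁻¹ * d = g * (t * (g⁻¹ * d * g)) * g⁻¹ := by group
      _ = g * (g⁻¹ * d * g * t) * g⁻¹ := by rw [h5]
      _ = d * (g * t * g⁻¹) := by group

/-- the conjugate of a pair -/
theorem e_pair' {g : G} {σ : Equiv.Perm (Fin k)} {τ : Fin k → Equiv.Perm (Fin (2 ^ m + 1))}
    (hστ : ActsSym M.e U g σ τ) {v : G} (hv : v ∈ U) {i : Fin k} {a b : Fin (2 ^ m + 1)}
    (he : M.e v = dl i a + dl i b) : M.e (g * v * g⁻¹) = dl (σ i) (τ i a) + dl (σ i) (τ i b) := by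
  funext l z
  obtain ⟨j, rfl⟩ := σ.surjective l
  obtain ⟨z', rfl⟩ := (τ j).surjective z
  rw [hστ v hv j z', he, Pi.add_apply, Pi.add_apply, Pi.add_apply, Pi.add_apply]
  by_cases hj : j = i
  · subst hj
    simp [dl]
  · have hj' : σ j ≠ σ i := fun h1 => hj (σ.injective h1)
    rw [dl_ne' hj, dl_ne' hj, dl_ne' hj', dl_ne' hj']
    rfl

theorem Wt.conj {i : Fin k} {x y : Fin (2 ^ m + 1)} {g w : G} (hw : Wt M i x y w) (hg : g ∈ P)
    {σ : Equiv.Perm (Fin k)} {τ : Fin k → Equiv.Perm (Fin (2 ^ m + 1))} (hστ : ActsSym M.e U g σ τ) :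
    Wt M (σ i) (τ i x) (τ i y) (g * w * g⁻¹) := by
  refine ⟨e_pair' h hστ (Wt.mem h hw) hw.1, ?_⟩
  obtain ⟨-, t, ht, u, hu, rfl⟩ := hw
  exact ⟨_, Tr.conj h ht hg hστ, _, h.memV hg hu, by group⟩

/-- the subgroup generated by all `Wt` -/
def wc (M : SymKM S P U D k m) : Subgroup G := closure {w | ∃ i x y, x ≠ y ∧ Wt M i x y w}

theorem wc_le : wc M ≤ U := by
  rw [wc, closure_le]
  rintro w ⟨i, x, y, -, hw⟩
  exact Wt.mem h hw

theorem conj_wc {g w : G} (hg : g ∈ P) (hw : w ∈ wc M) : g * w * g⁻¹ ∈ wc M := by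
  obtain ⟨σ, τ, hστ⟩ := M.perm g hg
  have hle : wc M ≤ (wc M).comap (MulAut.conj g).toMonoidHom := by
    rw [wc, closure_le]
    rintro w ⟨i, x, y, hxy, hw⟩
    exact subset_closure ⟨σ i, τ i x, τ i y, fun h1 => hxy ((τ i).injective h1), Wt.conj h hw hg hστ⟩
  exact hle hw

/-- `[h, u] ∈ wc` for all lifts `h` -/
theorem lift_comm {τ : Fin k → Equiv.Perm (Fin (2 ^ m + 1))} {g : G} (hg : g ∈ P) (hA : Ac M g τ) {u : G}
    (hu : u ∈ U) : g * u * g⁻¹ * u⁻¹ ∈ wc M := by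
  classical
  -- the good families
  let Q : (Fin k → Equiv.Perm (Fin (2 ^ m + 1))) → Prop := fun τ => ∀ g ∈ P, Ac M g τ → ∀ u ∈ U, g * u * g⁻¹ * u⁻¹ ∈ wc M
  have q1 : Q 1 := by
    intro g hg hA u hu
    rw [h.comm_of_one hg hA hu, mul_inv_cancel_right, mul_inv_cancel]
    exact one_mem _
  have qmul : ∀ τ τ', Q τ → Q τ' → Q (τ * τ') := by
    intro τ τ' h1 h2 g hg hA u hu
    obtain ⟨s, hs, hs1, hs2⟩ := M.lift τ
    have hsA : Ac M s τ := ⟨hs1, hs2⟩
    have h3 := h.ac_mul hg (h.ac_inv hs hsA) hA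
    rw [inv_mul_cancel_left] at h3
    have hsg : s⁻¹ * g ∈ P := mul_mem (inv_mem hs) hg
    have h4 := h2 _ hsg h3 u hu
    have h5 := h1 s hs hsA u hu
    have e : g * u * g⁻¹ * u⁻¹ = s * (s⁻¹ * g * u * (s⁻¹ * g)⁻¹ * u⁻¹) * s⁻¹ * (s * u * s⁻¹ * u⁻¹) := by group
    rw [e]
    exact mul_mem (conj_wc h hs h4) h5
  have qsw : ∀ i x y, x ≠ y → Q (sg i (Equiv.swap x y)) := by
    intro i x y hxy g hg hA u hu
    rcases comm_or h (i := i) (x := x) (y := y) ⟨hg, hA⟩ hu with h1 | h1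
    · rw [h1]
      exact one_mem _
    · exact subset_closure ⟨i, x, y, hxy, h1⟩
  have qsg : ∀ i (π : Equiv.Perm (Fin (2 ^ m + 1))), Q (sg i π) := by
    intro i π
    induction π using Equiv.Perm.swap_induction_on with
    | one => rw [sg_one]; exact q1
    | swap_mul f x y hxy ih => rw [sg_mul]; exact qmul _ _ (qsw i x y hxy) ih
  have key : ∀ s : Finset (Fin k), ∀ τ : Fin k → Equiv.Perm (Fin (2 ^ m + 1)), (∀ l, l ∉ s → τ l = 1) → Q τ := by
    intro s
    induction s using Finset.induction_on with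
    | empty =>
      intro τ hτ
      have : τ = 1 := funext fun l => hτ l (Finset.notMem_empty l)
      rw [this]
      exact q1
    | insert a s has ih =>
      intro τ hτ
      have h1 : τ = sg a (τ a) * ((sg a (τ a))⁻¹ * τ) := by rw [mul_inv_cancel_left]
      rw [h1]
      refine qmul _ _ (qsg a (τ a)) (ih _ fun l hl => ?_)
      rw [Pi.mul_apply, Pi.inv_apply]
      by_cases hla : l = a
      · rw [hla, sg_self, inv_mul_cancel]
      · rw [sg_ne hla, hτ l (fun h3 => (Finset.mem_insert.1 h3).elim hla hl), inv_one, one_mul]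
  exact key Finset.univ τ (fun l hl => absurd (Finset.mem_univ l) hl) g hg hA u hu

/-- `U = ⟨Wt⟩ Ω₁(Z(S))`, in the form needed -/
theorem exists_wt {Z E : Subgroup G} (hZU : Z ≤ U) (hZS : ∀ z ∈ Z, ∀ s ∈ S, s * z = z * s)
    (hgen : ∀ K : Subgroup G, Z ≤ K → P ≤ normalizer (K : Set G) → U ≤ K) (hZE : Z ≤ E) (hUE : ¬ U ≤ E) :
    ∃ i y w, y ≠ 0 ∧ Wt M i 0 y w ∧ w ∉ E := by
  classical
  by_contra hall
  push Not at hall
  have h0 : ∀ i y w, y ≠ 0 → Wt M i 0 y w → w ∈ E := hall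
  -- all `Wt` are in `E`
  have h1 : wc M ≤ E := by
    rw [wc, closure_le]
    rintro w ⟨i, x, y, hxy, hw⟩
    by_cases hx : x = 0
    · subst hx
      exact h0 i y w (Ne.symm hxy) hw
    by_cases hy : y = 0
    · subst hy
      refine h0 i x w hx ⟨hw.1.trans (add_comm _ _), ?_⟩
      obtain ⟨-, t, ht, u, hu, rfl⟩ := hw
      exact ⟨t, ⟨ht.1, by rw [pr_symm]; exact ht.2⟩, u, hu, rfl⟩
    -- `w_{xy} = w_{0x} w_{0y}`
    obtain ⟨t, ht, ht1, ht2⟩ := M.lift (pr i 0 x)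
    have htT : Tr M i 0 x t := ⟨ht, ht1, ht2⟩
    obtain ⟨s, hs, hs1, hs2⟩ := M.lift (pr i 0 y)
    obtain ⟨p, q, -, hp1, hp2, -⟩ := h.exists_ne 0 y x
    obtain ⟨u, hu, hue⟩ := Sb.exists_pair M i 0 p
    have hsT : Tr M i 0 y s := ⟨hs, hs1, hs2⟩
    have hw0 : Wt M i 0 y (s * u * s⁻¹ * u⁻¹) := by
      refine ⟨?_, s, hsT, u, hu, rfl⟩
      rw [h.e_div (h.memV hs hu) hu, Sb.e_pair hs1 hu hue, hue, pr, sg_self, Equiv.swap_apply_left,
        Equiv.swap_apply_of_ne_of_ne hp1 hp2]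
      have e1 : dl i y + dl i p + (dl i 0 + dl i p) = dl i 0 + dl i y + (dl i p + dl i p) := by abel
      rw [e1, add_self2, add_zero]
    set w0 := s * u * s⁻¹ * u⁻¹ with hw0d
    have hwU := Wt.mem h hw0
    have h2 := Wt.conj h hw0 ht (σ := 1) ht1
    rw [Equiv.Perm.one_apply, pr, sg_self, Equiv.swap_apply_left, Equiv.swap_apply_of_ne_of_ne hy (Ne.symm hxy)] at h2
    have h3 : w = t * w0 * t⁻¹ := Wt.eq h hxy hw h2
    have h4 : Wt M i 0 x (t * w0 * t⁻¹ * w0⁻¹) := by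
      refine ⟨?_, t, htT, w0, hwU, rfl⟩
      rw [h.e_div (h.memV ht hwU) hwU, h2.1, hw0.1]
      have e1 : dl i x + dl i y + (dl i 0 + dl i y) = dl i 0 + dl i x + (dl i y + dl i y) := by abel
      rw [e1, add_self2, add_zero]
    have h5 : w = t * w0 * t⁻¹ * w0⁻¹ * w0 := by rw [inv_mul_cancel_right, h3]
    rw [SetLike.mem_coe, h5]
    exact mul_mem (h0 i x _ hx h4) (h0 i y _ hy hw0)
  refine hUE ((hgen (wc M ⊔ Z) le_sup_right ?_).trans (sup_le h1 hZE))
  set Y : Subgroup G := wc M ⊔ Z with hY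
  have crit : ∀ g ∈ P, (∀ z ∈ Z, g * z * g⁻¹ ∈ Y) → (∀ z ∈ Z, g⁻¹ * z * g ∈ Y) → g ∈ normalizer (Y : Set G) := by
    have one : ∀ g ∈ P, (∀ z ∈ Z, g * z * g⁻¹ ∈ Y) → ∀ y ∈ Y, g * y * g⁻¹ ∈ Y := by
      intro g hg hz
      have hle : Y ≤ Y.comap (MulAut.conj g).toMonoidHom :=
        sup_le (fun y hy => (le_sup_left : _ ≤ Y) (conj_wc h hg hy)) fun z hz' => hz z hz'
      exact fun y hy => hle hy
    intro g hg h1 h2
    refine mem_normalizer_iff.2 fun y => ⟨one g hg h1 y, fun hy => ?_⟩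
    have h3 := one g⁻¹ (inv_mem hg) (fun z hz => by rw [inv_inv]; exact h2 z hz) _ hy
    have e : g⁻¹ * (g * y * g⁻¹) * g⁻¹⁻¹ = y := by group
    rwa [e] at h3
  refine M.gen _ ?_ ?_
  · intro s hs
    refine crit s (h.SP' hs) (fun z hz => ?_) fun z hz => ?_
    · rw [hZS z hz s hs, mul_inv_cancel_right]
      exact (le_sup_right : _ ≤ Y) hz
    · have h1 := hZS z hz s⁻¹ (inv_mem hs)
      rw [h1, inv_mul_cancel_right]
      exact (le_sup_right : _ ≤ Y) hz
  · intro g hg τ hτ hd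
    have hA : Ac M g τ := ⟨hτ, hd⟩
    have one : ∀ g ∈ P, ∀ τ, Ac M g τ → ∀ z ∈ Z, g * z * g⁻¹ ∈ Y := by
      intro g hg τ hA z hz
      have h1 := lift_comm h hg hA (hZU hz)
      have e : g * z * g⁻¹ = g * z * g⁻¹ * z⁻¹ * z := by group
      rw [e]
      exact mul_mem ((le_sup_left : _ ≤ Y) h1) ((le_sup_right : _ ≤ Y) hz)
    refine crit g hg (one g hg τ hA) fun z hz => ?_
    have h1 := one g⁻¹ (inv_mem hg) _ (h.ac_inv hg hA) z hz
    rwa [inv_inv] at h1

/-- a coordinate `z ≠ 0` of a pair `{0, y}` -/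
theorem pt {i l : Fin k} {y z : Fin (2 ^ m + 1)} (hz : z ≠ 0) (h1 : (dl i 0 + dl i y : Fin k → Fin (2 ^ m + 1) → ZMod 2) l z = 1) : l = i ∧ z = y := by
  rw [Pi.add_apply, Pi.add_apply, dl_ne i hz, zero_add] at h1
  by_contra hc
  unfold dl at h1
  rw [if_neg hc] at h1
  exact zero_ne_one h1

theorem pt' (i l : Fin k) (y z : Fin (2 ^ m + 1)) (hz : z ≠ 0) :
    (dl i 0 + dl i y : Fin k → Fin (2 ^ m + 1) → ZMod 2) l z = 0 ∨ (dl i 0 + dl i y : Fin k → Fin (2 ^ m + 1) → ZMod 2) l z = 1 := by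
  rw [Pi.add_apply, Pi.add_apply, dl_ne i hz, zero_add]
  unfold dl
  split_ifs
  · exact Or.inr rfl
  · exact Or.inl rfl

/-- **(T2)** with a radical -/
theorem le_of_qb {B Z E : Subgroup G} (q : QB S U B E) (hZU : Z ≤ U) (hZS : ∀ z ∈ Z, ∀ s ∈ S, s * z = z * s)
    (hgen : ∀ K : Subgroup G, Z ≤ K → P ≤ normalizer (K : Set G) → U ≤ K) (hZE : Z ≤ E) : U ≤ E := by
  by_contra hUE
  obtain ⟨i, y, w, hy, hw, hwE⟩ := exists_wt h hZU hZS hgen hZE hUE
  have hwU := Wt.mem h hw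
  refine q.t1 w hwU hwE fun b hb c hc hbw hcw => ?_
  have hBP : ∀ b ∈ B, b ∈ P := fun b hb => h.SP' (q.BS hb)
  -- the images
  have im : ∀ b ∈ B, ∀ i y w, y ≠ 0 → Wt M i 0 y w → ∃ j y', y' ≠ 0 ∧ Wt M j 0 y' (b * w * b⁻¹) := by
    intro b hb i y w hy hw
    obtain ⟨σ, τ, hστ⟩ := M.perm b (hBP b hb)
    have h0 := M.fix0 b (q.BS hb) σ τ hστ
    have h1 := Wt.conj h hw (hBP b hb) hστ
    rw [h0 i] at h1
    exact ⟨σ i, τ i y, fun hz => hy ((τ i).injective (hz.trans (h0 i).symm)), h1⟩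
  obtain ⟨j, y', hy', hj⟩ := im b hb i y w hy hw
  obtain ⟨l, z, hz, hl⟩ := im c hc i y w hy hw
  obtain ⟨l', z', hz', hl'⟩ := im c hc j y' _ hy' hj
  have hbU := h.memV (hBP b hb) hwU
  have hcU := h.memV (hBP c hc) hwU
  have hcbU := h.memV (hBP c hc) hbU
  have h1 := q.quad w hwU b hb c hc
  rw [h.inv_eq hwU] at h1
  have h2 : c * (b * w * b⁻¹) * c⁻¹ * (c * w * c⁻¹) = b * w * b⁻¹ * w := by
    calc c * (b * w * b⁻¹) * c⁻¹ * (c * w * c⁻¹) = c * (b * w * b⁻¹ * w) * c⁻¹ := by group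
      _ = b * w * b⁻¹ * w := by rw [h1, mul_inv_cancel_right]
  have h3 := congrArg M.e h2
  rw [M.mul _ hcbU _ hcU, M.mul _ hbU _ hwU, hl.1, hl'.1, hw.1, hj.1] at h3
  have h4 : (dl l' 0 + dl l' z' : Fin k → Fin (2 ^ m + 1) → ZMod 2) l z + (dl l 0 + dl l z : Fin k → Fin (2 ^ m + 1) → ZMod 2) l z =
      (dl j 0 + dl j y' : Fin k → Fin (2 ^ m + 1) → ZMod 2) l z + (dl i 0 + dl i y : Fin k → Fin (2 ^ m + 1) → ZMod 2) l z := congrFun (congrFun h3 l) z
  have hne1 : (dl i 0 + dl i y : Fin k → Fin (2 ^ m + 1) → ZMod 2) l z = 0 := by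
    rcases pt' h i l y z hz with h5 | h5
    · exact h5
    · obtain ⟨e1, e2⟩ := pt h hz h5
      subst e1
      subst e2
      exact absurd (Wt.eq h (Ne.symm hz) hl hw) hcw
  have hne2 : (dl l' 0 + dl l' z' : Fin k → Fin (2 ^ m + 1) → ZMod 2) l z = 0 := by
    rcases pt' h l' l z' z hz with h5 | h5
    · exact h5
    · obtain ⟨e1, e2⟩ := pt h hz h5
      subst e1
      subst e2
      have h6 := Wt.eq h (Ne.symm hz) hl hl'
      refine absurd ?_ hbw
      have h7 : w = b * w * b⁻¹ := mul_left_cancel (mul_right_cancel h6)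
      exact h7.symm
  have hself : (dl l 0 + dl l z : Fin k → Fin (2 ^ m + 1) → ZMod 2) l z = 1 := by
    rw [Pi.add_apply, Pi.add_apply, dl_ne l hz, dl_self, zero_add]
  rw [hself, hne1, hne2, add_zero, zero_add] at h4
  obtain ⟨e1, e2⟩ := pt h hz h4.symm
  subst e1
  subst e2
  exact Wt.eq h (Ne.symm hz) hj hl

end Cfsg.Agent.Omega.NO3S.KeyRad.Sym

end

-- merged: Cfsg.Agent.Mrg.Omega.NO3S.KeyRad.Main
section

/-!
# The KEY for bad lines with a radical (#21048 (K0), (K1))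

`BH V F B` : `F ≤ B ≤ W`, `B` abelian, normalised by `C_G(F)`, `I = V ∩ B`, `i = |I : F|`, `a = |V : E|`; `B ≤ S`;
`U = V_P ≤ V` a bad line (`U ≰ E`), `ConclM S P` (natural^k or `S_n^k` modulo ANY radical `C_V(O²(P))`).

* `star_blk` : `R^ ≤ [M, g] [M, g']`, `M = [U, L_j]`;
* `main` : `i < a²`, or `i ≤ a`, or `i = 4`, `a = 2`, `P` natural over a field with `≥ 4` elements (`NatBig`);
* `key` : `[r, W] = [E, b]` for all `r ∈ I - F`, `b ∈ B - N`; or the third case.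
-/

set_option autoImplicit false
set_option linter.unusedSectionVars false

namespace Cfsg.Agent.Omega.NO3S.KeyRad

open Subgroup Cfsg Cfsg.Agent.ZN Cfsg.Agent.ZN.ChoiceBase Cfsg.Agent.Omega.MinPar
open Cfsg.Agent.Omega.NOne.Flat (Hyp EE WW NN BadX Cos card_mul_relIndex')
open Cfsg.Agent.Omega.NOne.NearFF (c)
open Cfsg.Agent.Omega.FFThm Cfsg.Agent.Omega.NatPair Cfsg.Agent.Lib.SL2Mat
open Cfsg.Agent.Omega.NO3S.ThmB
open Cfsg.Agent.Omega.NOThreeL.Low.Nat (QB)
open Cfsg.Agent.Omega.NOThreeL.Low.Key (BH)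
open Cfsg.Agent.Omega.FrameFF (cv)

universe u

section star

variable {G : Type u} [Group G] [Finite G] {F : Type} [Field F] [Finite F] [CharP F 2] {S P U D : Subgroup G} {k : ℕ}
  {M : NatKM F S P U D k} (h : Nb M)
include h

/-- **(★)** -/
theorem star_blk (hF : 2 < Nat.card F) {j : Fin k} {b b' : F} (hb : b ≠ 0) (hb' : b' ≠ 0) (hne : b ≠ b')
    {g g' : G} (hg : g ∈ P) (hgA : ActsSL M.e U D g (sg j (up b))) (hg' : g' ∈ P)
    (hgA' : ActsSL M.e U D g' (sg j (up b'))) {r : G} (hr : r ∈ blk M j) (hr1 : M.e r j 1 = 0) :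
    ∃ m ∈ blk M j, ∃ m' ∈ blk M j, r = g * m * g⁻¹ * m⁻¹ * (g' * m' * g'⁻¹ * m'⁻¹) := by
  classical
  have hXU := blk_le h j
  let _ : CommGroup (blk M j) :=
    { (inferInstance : Group (blk M j)) with mul_comm := fun a b => Subtype.ext (h.cm (hXU a.2) (hXU b.2)) }
  choose lf hlfP hlfA using fun A : Matrix.SpecialLinearGroup (Fin 2) F => M.lift (sg j A)
  have hcX : ∀ A, ∀ m ∈ blk M j, lf A * m * (lf A)⁻¹ ∈ blk M j := by
    intro A m hm
    have e : lf A * m * (lf A)⁻¹ = lf A * m * (lf A)⁻¹ * m⁻¹ * m := by group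
    rw [e]
    exact mul_mem (mem_blk (hlfP A) (hlfA A) (hXU hm)) hm
  let ρ0 : Matrix.SpecialLinearGroup (Fin 2) F → (blk M j →* blk M j) := fun A =>
    { toFun := fun m => ⟨lf A * m * (lf A)⁻¹, hcX A m m.2⟩
      map_one' := Subtype.ext (by simp)
      map_mul' := fun x y => Subtype.ext (by
        change lf A * ((x : G) * y) * (lf A)⁻¹ = lf A * x * (lf A)⁻¹ * (lf A * y * (lf A)⁻¹)
        group) }
  let ρ : Matrix.SpecialLinearGroup (Fin 2) F → (Additive (blk M j) →+ Additive (blk M j)) := fun A =>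
    MonoidHom.toAdditive (ρ0 A)
  have hρv : ∀ A (m : Additive (blk M j)), ((Additive.toMul (ρ A m) : blk M j) : G) =
      lf A * ((Additive.toMul m : blk M j) : G) * (lf A)⁻¹ := fun A m => rfl
  have hext : ∀ {x y : Additive (blk M j)},
      ((Additive.toMul x : blk M j) : G) = ((Additive.toMul y : blk M j) : G) → x = y := by
    intro x y hxy
    exact Additive.toMul.injective (Subtype.ext hxy)
  have hsub : ∀ x y : Additive (blk M j), ((Additive.toMul (x - y) : blk M j) : G) =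
      ((Additive.toMul x : blk M j) : G) * ((Additive.toMul y : blk M j) : G)⁻¹ := by
    intro x y
    change ((Additive.toMul x : blk M j) : G) / ((Additive.toMul y : blk M j) : G) = _
    exact div_eq_mul_inv _ _
  let π : Additive (blk M j) →+ (Fin 2 → F) :=
    { toFun := fun m => M.e ((Additive.toMul m : blk M j) : G) j
      map_zero' := by
        change M.e 1 j = 0
        rw [Nb.e_one (M := M)]
        rfl
      map_add' := fun x y => by
        change M.e ((Additive.toMul x : blk M j) * (Additive.toMul y : blk M j) : G) j = _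
        rw [M.mul _ (hXU (Additive.toMul x).2) _ (hXU (Additive.toMul y).2), Pi.add_apply] }
  have hπv : ∀ m : Additive (blk M j), π m = M.e ((Additive.toMul m : blk M j) : G) j := fun m => rfl
  obtain ⟨m, m', hmm⟩ := star hF (M := Additive (blk M j)) (fun m => hext (by
      change ((Additive.toMul m : blk M j) : G) * ((Additive.toMul m : blk M j) : G) = 1
      exact h.sq (hXU (Additive.toMul m).2))) ρ (fun A B m => hext (by
      rw [hρv, hρv, hρv]
      have h1 := h.acts_mul (hlfP B) (hlfA A) (hlfA B)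
      rw [← sg_mul] at h1
      rw [h.same (hlfP (A * B)) (mul_mem (hlfP A) (hlfP B)) (hlfA (A * B)) h1 (hXU (Additive.toMul m).2)]
      group)) (fun m => hext (by
      rw [hρv]
      have h1 := hlfA 1
      rw [sg_one] at h1
      rw [h.comm_of_one (hlfP 1) h1 (hXU (Additive.toMul m).2), mul_inv_cancel_right])) π (fun A m => by
      rw [hπv, hρv, (hlfA A).1 _ (hXU (Additive.toMul m).2), sg_self, hπv]) (fun A m hm => hext (by
      rw [hρv]
      have h1 : ((Additive.toMul m : blk M j) : G) ∈ D := by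
        rw [← M.ker _ (hXU (Additive.toMul m).2)]
        funext l
        by_cases hl : l = j
        · rw [hl, ← hπv, hm]; rfl
        · exact e_blk h hl (Additive.toMul m).2
      rw [(hlfA A).2 _ h1, mul_inv_cancel_right])) (fun x => by
      obtain ⟨w, hw, hwx⟩ := exists_blk_e h j x
      exact ⟨Additive.ofMul ⟨w, hw⟩, hwx⟩) (fun N hN => by
      -- `M = [M, L]`
      let N' : Subgroup G := (AddSubgroup.toSubgroup' N).map (blk M j).subtype
      have h1 : blk M j ≤ N' := by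
        conv_lhs => rw [blk]
        rw [closure_le]
        rintro _ ⟨c, hc, A, hA, v, hv, rfl⟩
        obtain ⟨w, hw, hww⟩ := exists_blk_comm h hc hA hv
        rw [hww, h.same hc (hlfP A) hA (hlfA A) (hXU hw)]
        let x : Additive (blk M j) := Additive.ofMul ⟨w, hw⟩
        have h3 : ((Additive.toMul (ρ A x - x) : blk M j) : G) = lf A * w * (lf A)⁻¹ * w⁻¹ := hsub _ _
        exact ⟨Additive.toMul (ρ A x - x), hN A x, h3⟩
      rw [eq_top_iff]
      intro x _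
      obtain ⟨y, hy, hyx⟩ := h1 (Additive.toMul x).2
      have h2 : y = Additive.toMul x := Subtype.ext hyx
      rw [h2] at hy
      exact hy) hb hb' hne (r := Additive.ofMul ⟨r, hr⟩) hr1
  refine ⟨_, (Additive.toMul m).2, _, (Additive.toMul m').2, ?_⟩
  have h1 := congrArg (fun z => ((Additive.toMul z : blk M j) : G)) hmm
  have h2 : r = lf (up b) * ((Additive.toMul m : blk M j) : G) * (lf (up b))⁻¹ *
      ((Additive.toMul m : blk M j) : G)⁻¹ * (lf (up b') * ((Additive.toMul m' : blk M j) : G) * (lf (up b'))⁻¹ *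
      ((Additive.toMul m' : blk M j) : G)⁻¹) := by
    refine h1.trans ?_
    change ((Additive.toMul (ρ (up b) m - m) : blk M j) : G) *
      ((Additive.toMul (ρ (up b') m' - m') : blk M j) : G) = _
    rw [hsub, hsub, hρv, hρv]
  rw [h.same hg (hlfP _) hgA (hlfA _) (hXU (Additive.toMul m).2),
    h.same hg' (hlfP _) hgA' (hlfA _) (hXU (Additive.toMul m').2)]
  exact h2

end star

section bh

variable {G : Type u} [Group G] [Finite G] {S P V F B : Subgroup G}
  (bh : BH V F B)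
include bh

theorem two_le : 2 ≤ (EE V F).relIndex V := by
  have ha0 : (EE V F).relIndex V ≠ 0 := index_ne_zero_of_finite
  have ha1 : (EE V F).relIndex V ≠ 1 := by
    obtain ⟨w, hw, hwE⟩ := bh.toHyp.exists_not_mem
    exact fun h1 => hwE (relIndex_eq_one.1 h1 hw)
  omega

/-- an element of `V` centralised by `B` is in `E` -/
theorem mem_E_of_comm (hI : ¬ V ⊓ B ≤ F) {z : G} (hz : z ∈ V) (hzB : ∀ b ∈ B, b * z = z * b) : z ∈ EE V F := by
  by_contra hzE
  refine hI fun y hy => ?_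
  obtain ⟨b, hb, hby⟩ := bh.surj hz hzE hy
  have h1 : c z b = 1 := by
    rw [c, ← hzB b hb]
    group
  rwa [h1, inv_one, one_mul] at hby

/-- the input of P7 -/
theorem qb' {U : Subgroup G} (hsq : ∀ b ∈ B, b ^ 2 = 1) (hBS : B ≤ S) (hUV : U ≤ V) (h2 : 2 < F.relIndex (V ⊓ B)) :
    QB S U B (EE V F) where
  BS := hBS
  ab := fun _ hb _ hc => bh.B_comm hb hc
  sq := fun b hb => by rw [← pow_two]; exact hsq b hb
  quad := fun v hv b hb c' hc => by
    have h1 := bh.quad (hUV hv) hb hc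
    have h2 : b * v * b⁻¹ * v⁻¹ = (c v b)⁻¹ := by rw [c]; group
    rw [h2]
    calc c' * (c v b)⁻¹ = (c v b)⁻¹ * (c v b * c') * (c v b)⁻¹ := by group
      _ = (c v b)⁻¹ * (c' * c v b) * (c v b)⁻¹ := by rw [h1]
      _ = (c v b)⁻¹ * c' := by group
  t1 := fun w hw hwE hall => absurd h2 (not_lt.2 (bh.relIndex_le_two (hUV hw) hwE hall))

/-- natural lines -/
theorem nat_main {U D : Subgroup G} {K : Type} [Field K] [Finite K] [CharP K 2] {k : ℕ} {M : NatKM K S P U D k}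
    (h : Nb M) (q : QB S U B (EE V F)) (hUV : U ≤ V) {j : Fin k} (hj : ¬ blk M j ≤ EE V F) :
    2 < Nat.card K ∧ (F.relIndex (V ⊓ B) < (EE V F).relIndex V ^ 2 ∨ F.relIndex (V ⊓ B) ≤ (EE V F).relIndex V ∨
      (F.relIndex (V ⊓ B) = 4 ∧ (EE V F).relIndex V = 2)) := by
  obtain ⟨w, hw, hwE⟩ := SetLike.not_le_iff_exists.1 hj
  have hXU := blk_le h j
  have hBP : ∀ b ∈ B, b ∈ P := fun b hb => BP h q hb
  -- every `b ∈ B` acts as `up β`
  have hlift : ∀ b ∈ B, ∃ β : K, ∃ g ∈ P, ActsSL M.e U D g (sg j (up β)) ∧ ∀ m ∈ blk M j, b * m * b⁻¹ = g * m * g⁻¹ := by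
    intro b hb
    obtain ⟨β, hβ⟩ := exists_up h q hj hb
    obtain ⟨g, hg, hgA⟩ := M.lift (sg j (up β))
    refine ⟨β, g, hg, hgA, fun m hm => eq_lift h q (hBP b hb) hg hβ (fun v hv => ?_) hm⟩
    rw [hgA.1 v hv j, sg_self]
  choose! β g hg hgA hβ using hlift
  -- `β b = β b'` implies the same action on the block
  have hsame : ∀ b ∈ B, ∀ b' ∈ B, β b = β b' → ∀ m ∈ blk M j, b * m * b⁻¹ = b' * m * b'⁻¹ := by
    intro b hb b' hb' hbb m hm
    rw [hβ b hb m hm, hβ b' hb' m hm]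
    have h1 := hgA b hb
    rw [hbb] at h1
    exact h.same (hg b hb) (hg b' hb') h1 (hgA b' hb') (hXU hm)
  have hone : ∀ b ∈ B, β b = 0 → ∀ m ∈ blk M j, b * m * b⁻¹ = m := by
    intro b hb hb0 m hm
    rw [hβ b hb m hm]
    have h1 := hgA b hb
    rw [hb0, up_zero, sg_one] at h1
    rw [h.comm_of_one (hg b hb) h1 (hXU hm), mul_inv_cancel_right]
  by_cases hK : 2 < Nat.card K
  · refine ⟨hK, tricho bh fun b hb b' hb' hbN hbN' hd r hr => ?_⟩
    have hb0 : β b ≠ 0 := by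
      intro h0
      refine hbN (bh.mem_NN_of_c (hUV (hXU hw)) hwE hb ?_)
      have h1 : c w b = w * (b * w * b⁻¹)⁻¹ := by rw [c]; group
      rw [h1, hone b hb h0 w hw, mul_inv_cancel]
      exact one_mem _
    have hb0' : β b' ≠ 0 := by
      intro h0
      refine hbN' (bh.mem_NN_of_c (hUV (hXU hw)) hwE hb' ?_)
      have h1 : c w b' = w * (b' * w * b'⁻¹)⁻¹ := by rw [c]; group
      rw [h1, hone b' hb' h0 w hw, mul_inv_cancel]
      exact one_mem _
    have hne : β b ≠ β b' := by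
      intro h0
      refine hd (bh.mem_NN_of_c (hUV (hXU hw)) hwE (mul_mem (inv_mem hb) hb') ?_)
      have h1 : c w (b⁻¹ * b') = w * (b⁻¹ * (b' * w * b'⁻¹) * b)⁻¹ := by rw [c]; group
      rw [h1, ← hsame b hb b' hb' h0 w hw]
      have h2 : w * (b⁻¹ * (b * w * b⁻¹) * b)⁻¹ = 1 := by group
      rw [h2]
      exact one_mem _
    obtain ⟨b₁, hb₁, hr₁⟩ := bh.surj (hUV (hXU hw)) hwE hr
    -- `[w, b₁]` is in `R^`
    have e1 : c w b₁ = g b₁ * w * (g b₁)⁻¹ * w⁻¹ := by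
      rw [← hβ b₁ hb₁ w hw]
      have h1 : c w b₁ = (b₁ * w * b₁⁻¹ * w⁻¹)⁻¹ := by rw [c]; group
      rw [h1]
      exact h.inv_eq (mul_mem (h.memV (hBP b₁ hb₁) (hXU hw)) (inv_mem (hXU hw)))
    have hmem : c w b₁ ∈ blk M j := by
      rw [e1]
      exact mem_blk (hg b₁ hb₁) (hgA b₁ hb₁) (hXU hw)
    have hco : M.e (c w b₁) j 1 = 0 := by
      rw [e1, h.e_div (h.memV (hg b₁ hb₁) (hXU hw)) (hXU hw), Pi.add_apply, Pi.add_apply,
        (hgA b₁ hb₁).1 _ (hXU hw) j, sg_self, ap_up_1]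
      exact CharTwo.add_self_eq_zero _
    obtain ⟨m, hm, m', hm', hmm⟩ := star_blk h hK hb0 hb0' hne (hg b hb) (hgA b hb) (hg b' hb') (hgA b' hb') hmem hco
    have ec : ∀ b ∈ B, ∀ m ∈ blk M j, c m b = g b * m * (g b)⁻¹ * m⁻¹ := by
      intro b hb m hm
      rw [← hβ b hb m hm]
      have h1 : c m b = (b * m * b⁻¹ * m⁻¹)⁻¹ := by rw [c]; group
      rw [h1]
      exact h.inv_eq (mul_mem (h.memV (hBP b hb) (hXU hm)) (inv_mem (hXU hm)))
    refine ⟨m, hUV (hXU hm), m', hUV (hXU hm'), ?_⟩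
    rw [ec b hb m hm, ec b' hb' m' hm', ← hmm]
    exact hr₁
  · -- `|K| = 2`
    exfalso
    have hK2 : ∀ x : K, x ≠ 0 → x = 1 := by
      intro x hx
      by_contra hx1
      apply hK
      classical
      have := Fintype.ofFinite K
      rw [Nat.card_eq_fintype_card]
      have h1 : ({0, 1, x} : Finset K).card ≤ Fintype.card K := Finset.card_le_univ _
      have h2 : ({0, 1, x} : Finset K).card = 3 := by
        rw [Finset.card_eq_three]
        exact ⟨0, 1, x, zero_ne_one, Ne.symm hx, Ne.symm hx1, rfl⟩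
      omega
    refine q.t1 w (hXU hw) hwE fun b hb b' hb' hm hm' => ?_
    have hb0 : β b ≠ 0 := fun h0 => hm (hone b hb h0 w hw)
    have hb0' : β b' ≠ 0 := fun h0 => hm' (hone b' hb' h0 w hw)
    exact hsame b hb b' hb' ((hK2 _ hb0).trans (hK2 _ hb0').symm) w hw

end bh

section final

variable {G : Type u} [Group G] [Finite G] {S : Sylow 2 G} {P V F B : Subgroup G}

/-- natural over a field with more than two elements -/
def NatBig (S P : Subgroup G) : Prop :=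
  ∃ (K : Type) (_ : Field K) (_ : Finite K) (_ : CharP K 2) (k : ℕ),
    0 < k ∧ 2 < Nat.card K ∧ Nonempty (NatKM K S P (zl S P) (cv S P) k)

/-- **(K1)** `i < a²`, or `i ≤ a`, or `i = 4`, `a = 2`. -/
theorem main (hc : IsCharacteristicTwoType G) (hP : IsParS (S : Subgroup G) P) (hT : ConclM (S : Subgroup G) P)
    (bh : BH V F B) (hsq : ∀ b ∈ B, b ^ 2 = 1) (hBS : B ≤ (S : Subgroup G)) (hUV : zl (S : Subgroup G) P ≤ V)
    (hUE : ¬ zl (S : Subgroup G) P ≤ EE V F) :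
    F.relIndex (V ⊓ B) < (EE V F).relIndex V ^ 2 ∨ F.relIndex (V ⊓ B) ≤ (EE V F).relIndex V ∨
      (F.relIndex (V ⊓ B) = 4 ∧ (EE V F).relIndex V = 2 ∧ NatBig (S : Subgroup G) P) := by
  by_cases h2 : 2 < F.relIndex (V ⊓ B)
  swap
  · right; left
    have := two_le bh
    omega
  have hI : ¬ V ⊓ B ≤ F := fun h => by
    rw [relIndex_eq_one.2 h] at h2
    omega
  have hQ := qb' (S := (S : Subgroup G)) bh hsq hBS hUV h2
  have hZU : zc (S : Subgroup G) ≤ zl (S : Subgroup G) P := MinSimple.VModule.zc_le_zl _ _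
  have hZS : ∀ z ∈ zc (S : Subgroup G), ∀ s ∈ (S : Subgroup G), s * z = z * s := fun z hz s hs =>
    (MinSimple.VModule.mem_zc.1 hz).2.1 s hs
  have hZE : zc (S : Subgroup G) ≤ EE V F := fun z hz =>
    mem_E_of_comm bh hI (hUV (hZU hz)) fun b hb => hZS z hz b (hBS hb)
  have hgen : ∀ K : Subgroup G, zc (S : Subgroup G) ≤ K → P ≤ normalizer (K : Set G) → zl (S : Subgroup G) P ≤ K :=
    fun K h1 h3 => MinSimple.VModule.zl_le h1 h3
  rcases hT with ⟨K, fK, fiK, cK, k, hk, ⟨N⟩⟩ | ⟨k, m, hk, hm, ⟨M⟩⟩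
  · have hn := ThmB.Inst.nb hc hP N
    obtain ⟨j, hj⟩ := exists_blk hn hZU hZS hgen hZE hUE
    obtain ⟨hK, h1 | h1 | h1⟩ := nat_main bh hn hQ hUV hj
    · exact Or.inl h1
    · exact Or.inr (Or.inl h1)
    · exact Or.inr (Or.inr ⟨h1.1, h1.2, K, fK, fiK, cK, k, hk, hK, ⟨N⟩⟩)
  · exact absurd (Sym.le_of_qb (ThmB.Inst.sb hc hP hm M) hQ hZU hZS hgen hZE) hUE

/-- **KEY for bad lines with a radical**: `[r, W] = [E, b]` for all `r ∈ I - F`, `b ∈ B - N`; or `i = 4`, `a = 2`. -/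
theorem key (hc : IsCharacteristicTwoType G) (hP : IsParS (S : Subgroup G) P) (hT : ConclM (S : Subgroup G) P)
    (bh : BH V F B) (hsq : ∀ b ∈ B, b ^ 2 = 1) (hBS : B ≤ (S : Subgroup G)) (hUV : zl (S : Subgroup G) P ≤ V)
    (hUE : ¬ zl (S : Subgroup G) P ≤ EE V F) :
    (∀ r ∈ V ⊓ B, r ∉ F → ∀ b ∈ B, b ∉ NN V F → ∀ y, (∃ s ∈ NOne.Flat.WW V F, c r s = y) ↔ ∃ e ∈ EE V F, c e b = y) ∨
      (F.relIndex (V ⊓ B) = 4 ∧ (EE V F).relIndex V = 2 ∧ NatBig (S : Subgroup G) P) := by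
  rcases main hc hP hT bh hsq hBS hUV hUE with h1 | h1 | h1
  · exact Or.inl fun r hr hrF b hb hbN y => bh.root' h1 hr hrF hb hbN y
  · exact Or.inl fun r hr hrF b hb hbN y => bh.root h1 hr hrF hb hbN y
  · exact Or.inr h1

end final

end Cfsg.Agent.Omega.NO3S.KeyRad

end

-- merged: Cfsg.Agent.Mrg.Omega.NO3S.SOne.KA
section

/-!
# GammaFF, (S1) (#21629): the KEY groups

* `SO.L_le_V`, `SO.YV`, `SO.SY` : trivialities;
* `offM_of_le` : `W` offends on every `L ≤ E` which it moves; `const_of_key` : with constant commutators, `L ≤ I`;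
* `SO.comm_eq` : `⁅L, W⁆ = ⁅L₁, W⁆` for `L ≤ I` moved by `W`;
* `SO.ka` : `W^y ≤ S`, `y ∈ Y = ⟨P, P₁⟩`, `W^y ≰ O₂(P₁)` ⟹ `KA S P₁ (W^y)`.
-/

set_option autoImplicit false
set_option linter.unusedSectionVars false

namespace Cfsg.Agent.Omega.NO3S.SOne

open Subgroup Cfsg Cfsg.Agent.ZN Cfsg.Agent.Omega.MinPar
open Cfsg.Agent.Omega.NOne.Flat (EE NN conj_eq_of_norm conj_centralizer)
open Cfsg.Agent.Omega.NOne.NearFF (c c_def)
open Cfsg.Agent.Omega.NoFF.Basic (conj_conj mem_conj conj_le_iff conj_le_centralizer comm_symm)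
open Cfsg.Agent.Omega.NOThreeL.Low.Key (BH)
open Cfsg.Agent.Omega.FFThm (ElemM OffM NoOverM relIndex_le_iff)
open Cfsg.Agent.Omega.NOThreeL.NF (MinOffM)
open Cfsg.Agent.Omega.NOThreeL.NF.NatR (Const)
open Cfsg.Agent.Omega.NO3S.Pas (Key)
open scoped Pointwise

universe u

variable {G : Type u} [Group G]

theorem conj_inv_smul (g : G) (A : Subgroup G) : MulAut.conj g⁻¹ • (MulAut.conj g • A) = A := by
  rw [conj_conj, inv_mul_cancel, map_one, one_smul]

theorem conj_smul_inv (g : G) (A : Subgroup G) : MulAut.conj g • (MulAut.conj g⁻¹ • A) = A := by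
  rw [conj_conj, mul_inv_cancel, map_one, one_smul]

theorem le_conj_iff {g : G} {A B : Subgroup G} : A ≤ MulAut.conj g • B ↔ MulAut.conj g⁻¹ • A ≤ B := by
  rw [← conj_le_iff (g := g⁻¹), conj_inv_smul]

theorem conj_le_iff' {g : G} {A B : Subgroup G} : MulAut.conj g • A ≤ B ↔ A ≤ MulAut.conj g⁻¹ • B := by
  rw [le_conj_iff, inv_inv]

/-- `[x, A] = [y, A]`, conjugated -/
theorem const_conj {L A : Subgroup G} (h : Const L A) (g : G) : Const (MulAut.conj g • L) (MulAut.conj g • A) := by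
  have key : ∀ x : G, x ∉ centralizer ((MulAut.conj g • A : Subgroup G) : Set G) → g⁻¹ * x * g ∉ centralizer (A : Set G) := by
    intro x hx h1
    apply hx
    rw [← conj_centralizer, mem_conj]
    exact h1
  intro x hx hxc y hy hyc a ha
  obtain ⟨b, hb, e⟩ := h (g⁻¹ * x * g) (mem_conj.1 hx) (key x hxc) (g⁻¹ * y * g) (mem_conj.1 hy) (key y hyc)
    (g⁻¹ * a * g) (mem_conj.1 ha)
  refine ⟨g * b * g⁻¹, NOne.Frame.conj_mem hb, ?_⟩
  have e1 : a * x * a⁻¹ * x⁻¹ =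
      g * (g⁻¹ * a * g * (g⁻¹ * x * g) * (g⁻¹ * a * g)⁻¹ * (g⁻¹ * x * g)⁻¹) * g⁻¹ := by group
  rw [e1, e]
  group

theorem offM_conj {L A : Subgroup G} (h : OffM L A) (g : G) : OffM (MulAut.conj g • L) (MulAut.conj g • A) :=
  NO3b.Bang.OffM_cj h g

variable [Finite G] {S : Sylow 2 G} {V F B P P₁ : Subgroup G}

/-- `W` offends on every `L ≤ E` which it moves. -/
theorem offM_of_le (h : NOne.Flat.Hyp V F) {L : Subgroup G} (hL : L ≤ EE V F) (hm : ¬ NOne.Flat.WW V F ≤ centralizer (L : Set G)) :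
    OffM L (NOne.Flat.WW V F) where
  sq a ha := centralizer_le (hL.trans inf_le_left) (h.elemM_W.sq a ha)
  comm a ha b hb := centralizer_le (hL.trans inf_le_left) (h.elemM_W.comm a ha b hb)
  ne := hm
  le := relIndex_le_iff.2 (h.off_of_le_all hL)

theorem cent_of_F {x : G} (hx : x ∈ F) : x ∈ centralizer (NOne.Flat.WW V F : Set G) := by
  rw [mem_centralizer_iff]
  intro w hw
  exact (NOne.Flat.Hyp.F_comm hx (NOne.Flat.Hyp.W_le_X hw)).symm

/-- constant commutators -/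
theorem const_of_key (h : BH V F B) (hk : Key V F B) {L : Subgroup G} (hL : L ≤ V ⊓ B) : Const L (NOne.Flat.WW V F) := by
  intro x hx hxc y hy hyc a ha
  have hxF : x ∉ F := fun h1 => hxc (cent_of_F h1)
  have hyF : y ∉ F := fun h1 => hyc (cent_of_F h1)
  obtain ⟨b, hb, hbN⟩ := h.exists_not_mem_NN fun h1 => hxF (h1 (hL hx))
  obtain ⟨t, ht, e⟩ := (hk y (hL hy) hyF b hb hbN _).2 ((hk x (hL hx) hxF b hb hbN _).1 ⟨a, ha, rfl⟩)
  refine ⟨t, ht, ?_⟩
  rw [c_def, c_def] at e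
  have e1 : a * x * a⁻¹ * x⁻¹ = (x * a * x⁻¹ * a⁻¹)⁻¹ := by group
  have e2 : t * y * t⁻¹ * y⁻¹ = (y * t * y⁻¹ * t⁻¹)⁻¹ := by group
  rw [e1, e2, e]

namespace SO

variable (so : SO S V F B P P₁)
include so

theorem YV : P ⊔ P₁ ≤ normalizer (V : Set G) := sup_le so.PV so.P₁V

theorem SP : (S : Subgroup G) ≤ P := so.hP.le

theorem SP₁ : (S : Subgroup G) ≤ P₁ := so.hP₁.le

theorem SY : (S : Subgroup G) ≤ P ⊔ P₁ := so.SP.trans le_sup_left

theorem PL : P₁ ≤ normalizer (zl (S : Subgroup G) P₁ : Set G) := MinSimple.VModule.le_normalizer_zl _ _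

theorem conj_V {y : G} (hy : y ∈ P ⊔ P₁) : MulAut.conj y • V = V := conj_eq_of_norm (so.YV hy)

theorem conj_L {p : G} (hp : p ∈ P₁) : MulAut.conj p • zl (S : Subgroup G) P₁ = zl (S : Subgroup G) P₁ :=
  conj_eq_of_norm (so.PL hp)

theorem L_le_V : zl (S : Subgroup G) P₁ ≤ V := MinSimple.VModule.zl_le so.ZV so.P₁V

theorem line_le_V {y : G} (hy : y ∈ P ⊔ P₁) : MulAut.conj y • zl (S : Subgroup G) P₁ ≤ V := by
  rw [← so.conj_V hy]
  exact conj_le_iff.2 so.L_le_V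

theorem line_le_I {y : G} (hy : y ∈ P ⊔ P₁) (hW : NOne.Flat.WW V F ≤ MulAut.conj y • (S : Subgroup G)) :
    MulAut.conj y • zl (S : Subgroup G) P₁ ≤ V ⊓ B := le_inf (so.line_le_V hy) (so.line0 y hy hW)

theorem L_le_I : zl (S : Subgroup G) P₁ ≤ V ⊓ B := by
  have h1 := so.line_le_I (one_mem (P ⊔ P₁)) (by rw [map_one, one_smul]; exact so.WS)
  rwa [map_one, one_smul] at h1

theorem o2_eq : (S : Subgroup G) ⊓ centralizer (zl (S : Subgroup G) P₁ : Set G) = o2 P₁ := so.hP₁.inf_centralizer S so.hc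

theorem mov : ¬ NOne.Flat.WW V F ≤ centralizer (zl (S : Subgroup G) P₁ : Set G) := fun h => so.act (by
  rw [← so.o2_eq]; exact le_inf so.WS h)

/-- `⁅L, W⁆ = ⁅L₁, W⁆` for `L ≤ I` moved by `W`. -/
theorem comm_eq (hk : Key V F B) {L L' : Subgroup G} (hL : L ≤ V ⊓ B) (hL' : L' ≤ V ⊓ B)
    (hm : ¬ NOne.Flat.WW V F ≤ centralizer (L : Set G)) (hm' : ¬ NOne.Flat.WW V F ≤ centralizer (L' : Set G)) :
    ⁅L, NOne.Flat.WW V F⁆ = ⁅L', NOne.Flat.WW V F⁆ := by
  apply le_antisymm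
  · rw [commutator_le]
    intro x hx w hw
    rw [commutatorElement_def, ← c_def]
    exact hk.mem so.toBH hL' hm' (hL hx) hw
  · rw [commutator_le]
    intro x hx w hw
    rw [commutatorElement_def, ← c_def]
    exact hk.mem so.toBH hL hm (hL' hx) hw

/-- **`W^y` acts on `L₁` with constant commutators.** -/
theorem ka (hk : Key V F B) {y : G} (hy : y ∈ P ⊔ P₁) (hS : MulAut.conj y • NOne.Flat.WW V F ≤ (S : Subgroup G))
    (hm : ¬ MulAut.conj y • NOne.Flat.WW V F ≤ o2 P₁) : KA (S : Subgroup G) P₁ (MulAut.conj y • NOne.Flat.WW V F) := by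
  have hmc : ¬ MulAut.conj y • NOne.Flat.WW V F ≤ centralizer (zl (S : Subgroup G) P₁ : Set G) := fun h => hm (by
    rw [← so.o2_eq]; exact le_inf hS h)
  have hy' := inv_mem hy
  have hI := so.line_le_I hy' (by rw [le_conj_iff, inv_inv]; exact hS)
  have hE : MulAut.conj y⁻¹ • zl (S : Subgroup G) P₁ ≤ EE V F := hI.trans so.toBH.I_le_E
  have hmv : ¬ NOne.Flat.WW V F ≤ centralizer ((MulAut.conj y⁻¹ • zl (S : Subgroup G) P₁ : Subgroup G) : Set G) := by
    intro h1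
    apply hmc
    have h2 := conj_le_centralizer (g := y) h1
    rwa [conj_smul_inv] at h2
  have h1 := offM_conj (offM_of_le so.toHyp hE hmv) y
  have h2 := const_conj (const_of_key so.toBH hk hI) y
  rw [conj_smul_inv] at h1 h2
  exact ⟨hS, h1, h2⟩

theorem ka_one (hk : Key V F B) : KA (S : Subgroup G) P₁ (NOne.Flat.WW V F) := by
  have h1 := so.ka hk (one_mem (P ⊔ P₁)) (by rw [map_one, one_smul]; exact so.WS) (by
    rw [map_one, one_smul]; exact so.act)
  rwa [map_one, one_smul] at h1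

end SO

/-- The KEY groups are the root groups. -/
theorem NT.min {T H : Subgroup G} {q : ℕ} (nt : NT T H q) {A : Subgroup G} (h : KA T H A) : MinOffM (zl T H) T A :=
  nt.const A h.le h.off h.const

end Cfsg.Agent.Omega.NO3S.SOne

end

-- merged: Cfsg.Agent.Mrg.Omega.NO3S.SOne.PairBad
section

/-!
# GammaFF, (S1) (#20829 (a)): a bad line on a chamber `T` with `Z(T) ∩ F ≠ 1` gives an (A)-pair

`V`, `F` as in THEOREM FLAT (`Flat.Hyp V F`), `E = EE V F = V ∩ O₂(C_G(F))`, `T = S^g` a Sylow 2-subgroup, `R ∈ P*(S)`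
with `V_R^g ≤ V`, `V_R^g ≰ E`, and `1 ≠ u ∈ Z(T) ∩ F`.  Then `[V_R, U_H] ≠ 1` for the long group `H = C_G(u^{g⁻¹})`.
-/

set_option autoImplicit false

namespace Cfsg.Agent.Omega.NO3S.SOne

open Subgroup Cfsg Cfsg.Agent.ZN Cfsg.Agent.Omega.MinPar Cfsg.Agent.Omega.Frame
open Cfsg.Agent.Omega.FrameNOFF Cfsg.Agent.Omega.Node.NO3L Cfsg.Agent.Omega.NOThreeL.Basic
open Cfsg.Agent.Omega.NoFF.Basic (conj_conj mem_conj conj_le_iff)
open Cfsg.Agent.Omega.NOne.Flat (EE WW Bad o2_conj conj_centralizer)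
open Cfsg.Agent.MinSimple.VModule (zl_le le_normalizer_zl zc_le_zl zc_le o2_isPGroup le_normalizer_o2 le_o2 o2_le)
open scoped Pointwise

universe u

variable {G : Type u} [Group G] [Finite G]

/-- `O₂(H) ∩ X ≤ O₂(X)` for `X ≤ H`. -/
theorem inf_o2_le {H X : Subgroup G} (h : X ≤ H) : o2 H ⊓ X ≤ o2 X := by
  refine MinSimple.VModule.le_o2 inf_le_right ((o2_isPGroup H).to_le inf_le_left) ?_
  refine (le_inf (h.trans (MinSimple.VModule.le_normalizer_o2 H)) le_normalizer).trans ?_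
  exact inf_normalizer_le_normalizer_inf

/-- **#20829 (a)**. -/
theorem pairA_of_bad {S : Sylow 2 G} (D : DataLow (S : Subgroup G)) {V F : Subgroup G} (hVF : V ≤ centralizer (F : Set G))
    {R : Subgroup G} (hR : IsParS (S : Subgroup G) R) {g : G}
    (hle : MulAut.conj g • zl (S : Subgroup G) R ≤ V) (hbad : ¬ MulAut.conj g • zl (S : Subgroup G) R ≤ EE V F)
    {z : G} (hz : z ∈ zc (S : Subgroup G)) (hz1 : z ≠ 1) (hzF : g * z * g⁻¹ ∈ F) :
    PairA (S : Subgroup G) R (centralizer ({z} : Set G)) := by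
  refine ⟨hR, NOThreeL.RTools.isLong S hz hz1, fun hcom => hbad ?_⟩
  have h1 : zl (S : Subgroup G) R ≤ o2 (centralizer ({z} : Set G)) :=
    le_o2_of_comm (D.low R hR) (NOThreeL.RTools.isLong S hz hz1) hcom
  have h2 : MulAut.conj g • zl (S : Subgroup G) R ≤ o2 (MulAut.conj g • centralizer ({z} : Set G)) := by
    rw [← o2_conj]
    exact conj_le_iff.2 h1
  have h3 : centralizer (F : Set G) ≤ MulAut.conj g • centralizer ({z} : Set G) := by
    intro x hx
    rw [mem_conj, mem_centralizer_iff]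
    intro y hy
    rw [Set.mem_singleton_iff.1 hy]
    have h4 := mem_centralizer_iff.1 hx _ hzF
    have h5 : g⁻¹ * (g * z * g⁻¹ * x) * g = g⁻¹ * (x * (g * z * g⁻¹)) * g := by rw [h4]
    simpa [mul_assoc] using h5
  exact le_inf hle ((le_inf h2 (hle.trans hVF)).trans (inf_o2_le h3))

end Cfsg.Agent.Omega.NO3S.SOne

end

-- merged: Cfsg.Agent.Mrg.Omega.NO3S.SOne.KeyLe.Pass
section

/-!
# GammaFF, (S1): the KEY with radicals, part 1: the passive type

`KF S P R V F` : `P`, `R ∈ P*(S)`, `⟨P, R⟩ ≤ N_G(V)`, `F` maximal bad, `W = W_F ≤ S`, `P` passive, `R` active.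

**`KF.false_of`** : for `g ∈ R`, `p ∈ P`, `W' = W^(g⁻¹)`, `F' = F^(g⁻¹)`, `E' = E_(F')` the following is impossible:

* `[V_P^x, W] ≤ V_R` for `x ∈ R`;
* every element of `W'` acts on `V_R` as an element of `S ∩ ⟨W^R⟩`;
* `C_Z(R) ≠ 1`, and `V_R^p ≰ E'`.
-/

set_option autoImplicit false
set_option linter.unusedSectionVars false

namespace Cfsg.Agent.Omega.NO3S.SOne.KeyLe

open Subgroup Cfsg Cfsg.Agent.ZN Cfsg.Agent.Omega.MinPar
open Cfsg.Agent.Omega.NOne.Flat (EE NN conj_eq_of_norm conj_centralizer WW_conj EE_conj o2_conj)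
open Cfsg.Agent.Omega.NOne.NearFF (c c_def)
open Cfsg.Agent.Omega.NoFF.Basic (conj_conj mem_conj conj_le_iff conj_le_centralizer comm_symm V_le Z_le_V conj_V_mul)
open Cfsg.Agent.Omega.NOThreeL.Low.Key (BH)
open scoped Pointwise

universe u

variable {G : Type u} [Group G]

/-- **The frame.** -/
structure KF [Finite G] (S : Sylow 2 G) (P R V F : Subgroup G) : Prop where
  hc : IsCharacteristicTwoType G
  hyp : NOne.Flat.Hyp V F
  hP : IsParS (S : Subgroup G) P
  hR : IsParS (S : Subgroup G) R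
  PV : P ≤ normalizer (V : Set G)
  RV : R ≤ normalizer (V : Set G)
  ZV : zc (S : Subgroup G) ≤ V
  WS : NOne.Flat.WW V F ≤ (S : Subgroup G)
  /-- passivity of `P` -/
  pas : ∀ y ∈ P ⊔ R, MulAut.conj y • NOne.Flat.WW V F ≤ (S : Subgroup G) → MulAut.conj y • NOne.Flat.WW V F ≤ o2 P
  act : ¬ NOne.Flat.WW V F ≤ o2 R

/-- `⟨W^R⟩` -/
abbrev L0 (V F R : Subgroup G) : Subgroup G := NoFF.Basic.V (NOne.Flat.WW V F) R

/-- `N ≤ S K` for a normal subgroup `N` of `R ≥ S`, if `K ≤ N` is normal in `N` and contains all squares of `N`. -/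
theorem le_sup_of_sq [Finite G] (S : Sylow 2 G) {R N K : Subgroup G} (hSR : (S : Subgroup G) ≤ R) (hNR : N ≤ R)
    (hN : R ≤ normalizer (N : Set G)) (hK : N ≤ normalizer (K : Set G)) (hsq : ∀ n ∈ N, n ^ 2 ∈ K) :
    N ≤ (S : Subgroup G) ⊔ K := by
  have : Fact (Nat.Prime 2) := ⟨Nat.prime_two⟩
  have h1 : ¬ 2 ∣ (S : Subgroup G).relIndex N := by
    have : (N.subgroupOf R).Normal := normal_subgroupOf_of_le_normalizer hN
    have h2 := Lib.SylowNormalInf.not_dvd_relIndex (S.subtype hSR) (N.subgroupOf R)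
    rwa [Sylow.coe_subtype, relIndex_subgroupOf hNR] at h2
  have h2 : ((S : Subgroup G) ⊔ K).relIndex N ∣ (S : Subgroup G).relIndex N := relIndex_dvd_of_le_left N le_sup_left
  have h3 : ((S : Subgroup G) ⊔ K).relIndex N ∣ K.relIndex N := relIndex_dvd_of_le_left N le_sup_right
  have hn : (K.subgroupOf N).Normal := normal_subgroupOf_of_le_normalizer hK
  have h4 : IsPGroup 2 (N ⧸ K.subgroupOf N) := by
    intro x
    refine Quotient.inductionOn' x fun n => ⟨1, ?_⟩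
    rw [pow_one]
    change ((QuotientGroup.mk n : N ⧸ K.subgroupOf N)) ^ 2 = 1
    rw [← QuotientGroup.mk_pow, QuotientGroup.eq_one_iff, mem_subgroupOf]
    exact hsq n n.2
  obtain ⟨m, hm⟩ := h4.exists_card_eq
  rw [show K.relIndex N = 2 ^ m by rw [relIndex, index_eq_card, hm]] at h3
  obtain ⟨j, -, hj⟩ := (Nat.dvd_prime_pow Nat.prime_two).1 h3
  have h5 : j = 0 := by
    by_contra hj0
    apply h1
    refine dvd_trans ?_ h2
    rw [hj]
    exact dvd_pow_self 2 hj0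
  rw [h5, pow_zero] at hj
  exact relIndex_eq_one.1 hj

theorem le_normalizer_inf {X A B : Subgroup G} (hA : X ≤ normalizer (A : Set G)) (hB : X ≤ normalizer (B : Set G)) :
    X ≤ normalizer ((A ⊓ B : Subgroup G) : Set G) :=
  (le_inf hA hB).trans inf_normalizer_le_normalizer_inf

theorem le_normalizer_cent {X A : Subgroup G} (hA : X ≤ normalizer (A : Set G)) :
    X ≤ normalizer (centralizer (A : Set G) : Set G) := by
  have h1 : ∀ x ∈ X, ∀ y ∈ centralizer (A : Set G), x * y * x⁻¹ ∈ centralizer (A : Set G) := by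
    intro x hx y hy
    rw [mem_centralizer_iff]
    intro a ha
    have h2 := (mem_normalizer_iff.1 (hA (inv_mem hx)) a).1 ha
    rw [inv_inv] at h2
    have h3 := mem_centralizer_iff.1 hy _ h2
    calc a * (x * y * x⁻¹) = x * (x⁻¹ * a * x * y) * x⁻¹ := by group
      _ = x * (y * (x⁻¹ * a * x)) * x⁻¹ := by rw [h3]
      _ = x * y * x⁻¹ * a := by group
  intro x hx
  refine mem_normalizer_iff.2 fun y => ⟨h1 x hx y, fun hy => ?_⟩
  have h2 := h1 x⁻¹ (inv_mem hx) _ hy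
  have e : x⁻¹ * (x * y * x⁻¹) * x⁻¹⁻¹ = y := by group
  rwa [e] at h2

namespace KF

variable [Finite G] {S : Sylow 2 G} {P R V F : Subgroup G} (h : KF S P R V F)
include h

theorem SP : (S : Subgroup G) ≤ P := h.hP.le

theorem SR : (S : Subgroup G) ≤ R := h.hR.le

theorem o2P_eq : (S : Subgroup G) ⊓ centralizer (zl (S : Subgroup G) P : Set G) = o2 P := h.hP.inf_centralizer S h.hc

theorem o2R_eq : (S : Subgroup G) ⊓ centralizer (zl (S : Subgroup G) R : Set G) = o2 R := h.hR.inf_centralizer S h.hc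

theorem WR : NOne.Flat.WW V F ≤ R := h.WS.trans h.SR

theorem W_le_L0 : NOne.Flat.WW V F ≤ L0 V F R := by
  have h1 := Z_le_V (Z := NOne.Flat.WW V F) (one_mem R)
  rwa [map_one, one_smul] at h1

theorem L0_le : L0 V F R ≤ R := by
  refine V_le fun r hr => ?_
  have h1 := conj_le_iff (g := r).2 h.WR
  rwa [NoFF.Basic.conj_self hr] at h1

omit h in
theorem L0_norm : R ≤ normalizer (L0 V F R : Set G) := by
  intro r hr
  have h1 := conj_V_mul (Z := NOne.Flat.WW V F) (g := 1) hr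
  rw [one_mul, map_one, one_smul] at h1
  have h2 : ∀ n, n ∈ L0 V F R → r * n * r⁻¹ ∈ L0 V F R := by
    intro n hn
    rw [L0, ← h1, mem_conj]
    have e : r⁻¹ * (r * n * r⁻¹) * r = n := by group
    rwa [e]
  have h3 := conj_V_mul (Z := NOne.Flat.WW V F) (g := 1) (inv_mem hr)
  rw [one_mul, map_one, one_smul] at h3
  refine mem_normalizer_iff.2 fun n => ⟨h2 n, fun hn => ?_⟩
  rw [L0, ← h3, mem_conj, inv_inv]
  exact hn

/-- `R = ⟨W^R⟩ S` -/
theorem L0_sup : L0 V F R ⊔ (S : Subgroup G) = R := by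
  rcases h.hR.sup_eq_or_inf_le S h.L0_le L0_norm with h1 | h1
  · exact h1
  · exact absurd ((le_inf h.WS h.W_le_L0).trans h1) h.act

theorem L_le_V : zl (S : Subgroup G) R ≤ V := MinSimple.VModule.zl_le h.ZV h.RV

theorem VP_le_V : zl (S : Subgroup G) P ≤ V := MinSimple.VModule.zl_le h.ZV h.PV

theorem RL {r v : G} (hr : r ∈ R) (hv : v ∈ zl (S : Subgroup G) R) : r * v * r⁻¹ ∈ zl (S : Subgroup G) R :=
  (mem_normalizer_iff.1 (MinSimple.VModule.le_normalizer_zl _ _ hr) v).1 hv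

theorem RL' {r v : G} (hr : r ∈ R) (hv : v ∈ zl (S : Subgroup G) R) : r⁻¹ * v * r ∈ zl (S : Subgroup G) R := by
  have := h.RL (inv_mem hr) hv
  rwa [inv_inv] at this

/-- **(a)** `[V_P, ⟨W^R⟩] ≤ V_R` -/
theorem comm_L0 (hI : ∀ x ∈ R, ∀ v ∈ MulAut.conj x • zl (S : Subgroup G) P, ∀ w ∈ NOne.Flat.WW V F,
    c v w ∈ zl (S : Subgroup G) R) {x v : G} (hx : x ∈ L0 V F R) (hv : v ∈ zl (S : Subgroup G) P) :
    x * v * x⁻¹ * v⁻¹ ∈ zl (S : Subgroup G) R := by
  let A : Subgroup G :=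
    { carrier := {x | x ∈ R ∧ ∀ v ∈ zl (S : Subgroup G) P, x * v * x⁻¹ * v⁻¹ ∈ zl (S : Subgroup G) R}
      one_mem' := ⟨one_mem _, fun v _ => by
        have e : (1 : G) * v * 1⁻¹ * v⁻¹ = 1 := by group
        rw [e]; exact one_mem _⟩
      mul_mem' := by
        rintro a b ⟨ha, ha'⟩ ⟨hb, hb'⟩
        refine ⟨mul_mem ha hb, fun v hv => ?_⟩
        have e : a * b * v * (a * b)⁻¹ * v⁻¹ = a * (b * v * b⁻¹ * v⁻¹) * a⁻¹ * (a * v * a⁻¹ * v⁻¹) := by group
        rw [e]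
        exact mul_mem (h.RL ha (hb' v hv)) (ha' v hv)
      inv_mem' := by
        rintro a ⟨ha, ha'⟩
        refine ⟨inv_mem ha, fun v hv => ?_⟩
        have e : a⁻¹ * v * a⁻¹⁻¹ * v⁻¹ = a⁻¹ * (a * v * a⁻¹ * v⁻¹)⁻¹ * a := by group
        rw [e]
        exact h.RL' ha (inv_mem (ha' v hv)) }
  have h1 : L0 V F R ≤ A := by
    refine V_le fun r hr => ?_
    intro y hy
    rw [mem_conj] at hy
    refine ⟨mul_mem_cancel_left (inv_mem hr) |>.1 ?_, fun v hv => ?_⟩
    · have h2 := mul_mem (h.WR hy) (inv_mem hr)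
      have e : r⁻¹ * y * r * r⁻¹ = r⁻¹ * y := by group
      rwa [e] at h2
    · have h2 : r⁻¹ * v * r ∈ MulAut.conj r⁻¹ • zl (S : Subgroup G) P := by
        rw [mem_conj]
        have e : r⁻¹⁻¹ * (r⁻¹ * v * r) * r⁻¹ = v := by group
        rwa [e]
      have h3 := inv_mem (hI r⁻¹ (inv_mem hr) _ h2 _ hy)
      have h4 := h.RL hr h3
      have e : r * (c (r⁻¹ * v * r) (r⁻¹ * y * r))⁻¹ * r⁻¹ = y * v * y⁻¹ * v⁻¹ := by rw [c_def]; group
      rwa [e] at h4
  exact (h1 hx).2 v hv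

/-- **Part 1.** -/
theorem cent_VP (hI : ∀ x ∈ R, ∀ v ∈ MulAut.conj x • zl (S : Subgroup G) P, ∀ w ∈ NOne.Flat.WW V F,
    c v w ∈ zl (S : Subgroup G) R) {g : G} (hg : g ∈ R)
    (hw : ∀ w ∈ MulAut.conj g⁻¹ • NOne.Flat.WW V F, ∃ s ∈ (S : Subgroup G), s ∈ L0 V F R ∧
      s⁻¹ * w ∈ centralizer (zl (S : Subgroup G) R : Set G)) :
    MulAut.conj g⁻¹ • NOne.Flat.WW V F ≤ centralizer (zl (S : Subgroup G) P : Set G) := by
  set L := zl (S : Subgroup G) R with hL
  set VP := zl (S : Subgroup G) P with hVP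
  set W' := MulAut.conj g⁻¹ • NOne.Flat.WW V F with hW'
  have hW'L : W' ≤ L0 V F R := Z_le_V (inv_mem hg)
  set N := L0 V F R ⊓ centralizer (L : Set G) with hN
  set K := N ⊓ centralizer (VP : Set G) with hK
  have hLsq : ∀ l ∈ L, l * l = 1 := fun l hl => h.hyp.sq' (h.L_le_V hl)
  have hNR : N ≤ R := inf_le_left.trans h.L0_le
  have hRN : R ≤ normalizer (N : Set G) :=
    le_normalizer_inf L0_norm (le_normalizer_cent (MinSimple.VModule.le_normalizer_zl _ _))
  -- `[v, n] ∈ L`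
  have hvn : ∀ n ∈ N, ∀ v ∈ VP, ∃ l ∈ L, n * v * n⁻¹ = l * v := by
    intro n hn v hv
    exact ⟨_, h.comm_L0 hI hn.1 hv, by group⟩
  have hnl : ∀ n ∈ N, ∀ l ∈ L, n * l * n⁻¹ = l := by
    intro n hn l hl
    rw [← mem_centralizer_iff.1 hn.2 l hl, mul_inv_cancel_right]
  have hNK : N ≤ normalizer (K : Set G) := by
    have h1 : ∀ n ∈ N, ∀ k ∈ K, n * k * n⁻¹ ∈ K := by
      intro n hn k hk
      refine mem_inf.2 ⟨mul_mem (mul_mem hn (mem_inf.1 hk).1) (inv_mem hn), mem_centralizer_iff.2 fun v hv => ?_⟩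
      obtain ⟨l, hl, e⟩ := hvn n⁻¹ (inv_mem hn) v hv
      rw [inv_inv] at e
      have e1 : k * (n⁻¹ * v * n) = n⁻¹ * v * n * k := by
        rw [e]
        have h2 := mem_centralizer_iff.1 hk.2 v hv
        have h3 := mem_centralizer_iff.1 hk.1.2 l hl
        calc k * (l * v) = k * l * v := by group
          _ = l * k * v := by rw [h3]
          _ = l * (k * v) := by group
          _ = l * (v * k) := by rw [h2]
          _ = l * v * k := by group
      calc v * (n * k * n⁻¹) = n * (n⁻¹ * v * n * k) * n⁻¹ := by group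
        _ = n * (k * (n⁻¹ * v * n)) * n⁻¹ := by rw [e1]
        _ = n * k * n⁻¹ * v := by group
    intro n hn
    refine mem_normalizer_iff.2 fun k => ⟨h1 n hn k, fun hk => ?_⟩
    have h2 := h1 n⁻¹ (inv_mem hn) _ hk
    have e : n⁻¹ * (n * k * n⁻¹) * n⁻¹⁻¹ = k := by group
    rwa [e] at h2
  have hsq : ∀ n ∈ N, n ^ 2 ∈ K := by
    intro n hn
    refine ⟨pow_mem hn 2, mem_centralizer_iff.2 fun v hv => ?_⟩
    obtain ⟨l, hl, e⟩ := hvn n hn v hv
    have e1 : n ^ 2 * v * (n ^ 2)⁻¹ = v := by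
      calc n ^ 2 * v * (n ^ 2)⁻¹ = n * (n * v * n⁻¹) * n⁻¹ := by rw [pow_two]; group
        _ = n * (l * v) * n⁻¹ := by rw [e]
        _ = n * l * n⁻¹ * (n * v * n⁻¹) := by group
        _ = l * (l * v) := by rw [hnl n hn l hl, e]
        _ = v := by rw [← mul_assoc, hLsq l hl, one_mul]
    exact (mul_inv_eq_iff_eq_mul.1 e1).symm
  have hNS := le_sup_of_sq S h.SR hNR hRN (K := K) hNK hsq
  -- `S` normalises `K`
  have hSK : (S : Subgroup G) ≤ normalizer (K : Set G) :=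
    le_normalizer_inf (h.SR.trans hRN)
      (le_normalizer_cent (h.SP.trans (MinSimple.VModule.le_normalizer_zl _ _)))
  have hW'SK : W' ≤ (S : Subgroup G) ⊔ K := by
    intro w hw1
    obtain ⟨s, hs, hsL, hsw⟩ := hw w hw1
    have h1 : s⁻¹ * w ∈ N := mem_inf.2 ⟨mul_mem (inv_mem hsL) (hW'L hw1), hsw⟩
    have e : w = s * (s⁻¹ * w) := by group
    rw [e]
    exact mul_mem ((le_sup_left : _ ≤ (S : Subgroup G) ⊔ K) hs) (hNS h1)
  have hW'2 : IsPGroup 2 W' := (S.isPGroup'.to_le h.WS).map _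
  obtain ⟨m, hm, hmS⟩ := FFThm.exists_conj_le S (le_sup_left : (S : Subgroup G) ≤ (S : Subgroup G) ⊔ K) hW'2 hW'SK
  rw [← SetLike.mem_coe, coe_mul_of_left_le_normalizer_right _ _ hSK, Set.mem_mul] at hm
  obtain ⟨s, hs, k, hk, rfl⟩ := hm
  have h1 : MulAut.conj k • W' ≤ (S : Subgroup G) := by
    have h2 : MulAut.conj s • (MulAut.conj k • W') ≤ (S : Subgroup G) := by rw [conj_conj]; exact hmS
    have h3 := conj_le_iff (g := s⁻¹).2 h2
    rwa [conj_inv_smul, NoFF.Basic.conj_self (inv_mem hs)] at h3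
  have hk' : k ∈ K := hk
  have h2 : MulAut.conj k • W' ≤ o2 P := by
    rw [hW', conj_conj] at h1 ⊢
    exact h.pas _ (mul_mem ((le_sup_right : R ≤ P ⊔ R) (hNR hk'.1)) ((le_sup_right : R ≤ P ⊔ R) (inv_mem hg))) h1
  have h3 : MulAut.conj k • W' ≤ centralizer (VP : Set G) := by
    rw [← h.o2P_eq] at h2
    exact h2.trans inf_le_right
  have h4 : MulAut.conj k⁻¹ • VP = VP :=
    NOne.Flat.conj_eq_of_cent (centralizer_le le_rfl (inv_mem hk'.2))
  have h5 := conj_le_centralizer (g := k⁻¹) h3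
  rwa [conj_inv_smul, h4] at h5

/-- **Part 2.** -/
theorem false_of (hI : ∀ x ∈ R, ∀ v ∈ MulAut.conj x • zl (S : Subgroup G) P, ∀ w ∈ NOne.Flat.WW V F,
    c v w ∈ zl (S : Subgroup G) R) {g p : G} (hg : g ∈ R) (hp : p ∈ P)
    (hw : ∀ w ∈ MulAut.conj g⁻¹ • NOne.Flat.WW V F, ∃ s ∈ (S : Subgroup G), s ∈ L0 V F R ∧
      s⁻¹ * w ∈ centralizer (zl (S : Subgroup G) R : Set G))
    (hd : zc (S : Subgroup G) ⊓ centralizer (R : Set G) ≠ ⊥)
    (hbad : ¬ MulAut.conj p • zl (S : Subgroup G) R ≤ EE V (MulAut.conj g⁻¹ • F)) : False := by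
  have hgV := h.RV (inv_mem hg)
  have hy := h.hyp.conj hgV
  have hWW : NOne.Flat.WW V (MulAut.conj g⁻¹ • F) = MulAut.conj g⁻¹ • NOne.Flat.WW V F := (WW_conj hgV).symm
  have h1 := h.cent_VP hI hg hw
  have h2 : zl (S : Subgroup G) P ≤ MulAut.conj g⁻¹ • F := by
    rw [← hy.cent_VW, hWW]
    exact le_inf h.VP_le_V (comm_symm h1)
  obtain ⟨⟨d, hd⟩, hd1⟩ := (Subgroup.ne_bot_iff_exists_ne_one).1 hd
  have hd1' : d ≠ 1 := fun h0 => hd1 (Subtype.ext h0)
  have hdZ := hd.1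
  have hdF : p * d * p⁻¹ ∈ MulAut.conj g⁻¹ • F :=
    h2 ((mem_normalizer_iff.1 (MinSimple.VModule.le_normalizer_zl _ _ hp) d).1 (MinSimple.VModule.zc_le_zl _ _ hdZ))
  have hdm := ChoiceBase.mem_zc.1 hdZ
  have hRd : R ≤ centralizer ({d} : Set G) := by
    intro r hr
    rw [mem_centralizer_singleton_iff]
    exact mem_centralizer_iff.1 hd.2 r hr
  have hloc : IsLoc (S : Subgroup G) (centralizer ({d} : Set G)) := isLoc_centralizer S hdm.2.1 hd1' (h.SR.trans hRd)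
  have h3 : zl (S : Subgroup G) R ≤ o2 (centralizer ({d} : Set G)) := by
    have h4 : zl (S : Subgroup G) R ≤ zl (S : Subgroup G) (centralizer ({d} : Set G)) :=
      MinSimple.VModule.zl_le (MinSimple.VModule.zc_le_zl _ _)
        (hRd.trans (MinSimple.VModule.le_normalizer_zl _ _))
    exact h4.trans ((hloc.zl_le S h.hc).trans (MinSimple.VModule.zc_le _))
  have hle : MulAut.conj p • zl (S : Subgroup G) R ≤ V := by
    rw [← conj_eq_of_norm (h.PV hp)]
    exact conj_le_iff.2 h.L_le_V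
  apply hbad
  have h5 : MulAut.conj p • zl (S : Subgroup G) R ≤ o2 (MulAut.conj p • centralizer ({d} : Set G)) := by
    rw [← o2_conj]
    exact conj_le_iff.2 h3
  have h6 : centralizer ((MulAut.conj g⁻¹ • F : Subgroup G) : Set G) ≤ MulAut.conj p • centralizer ({d} : Set G) := by
    intro x hx
    rw [mem_conj, mem_centralizer_iff]
    intro y hy
    rw [Set.mem_singleton_iff.1 hy]
    have h4 := mem_centralizer_iff.1 hx _ hdF
    have h5 : p⁻¹ * (p * d * p⁻¹ * x) * p = p⁻¹ * (x * (p * d * p⁻¹)) * p := by rw [h4]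
    simpa [mul_assoc] using h5
  exact le_inf hle ((le_inf h5 (hle.trans hy.V_le_X)).trans (inf_o2_le h6))

end KF

end Cfsg.Agent.Omega.NO3S.SOne.KeyLe

end

-- merged: Cfsg.Agent.Mrg.Omega.NO3S.Pas.PasN
section

section


/-!
# GammaFF: ACT and PAS for a front with any `n ≥ 1`

`w : WFr S M V F`, `f : Fr S M V F n`, `1 ≤ n`, `hk : Key V F (BL M S V F n)`, `P` active with `C_Z(P) = 1`:

* `WFr.passive` **(THEOREM PAS)** : `V_P' ≤ V_P` for passive `P'`, radicals allowed;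
* `WFr.active` **(THEOREM ACT)** : `V_P' = V_P` for active `P'` with `C_Z(P') = 1`.
-/

set_option autoImplicit false
set_option linter.unusedSectionVars false

namespace Cfsg.Agent.Omega.NO3S.Pas

open Subgroup Cfsg Cfsg.Agent.ZN Cfsg.Agent.Omega.MinPar Cfsg.Agent.Omega.Frame Cfsg.Agent.Omega.FrameNOFF
open Cfsg.Agent.Omega.NOne.Flat (EE NN BadX Cos card_mul_relIndex' conj_eq_of_norm conj_centralizer WW_conj
  EE_conj conj_eq_of_cent)
open Cfsg.Agent.Omega.NOne.NearFF (c c_def)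
open Cfsg.Agent.Omega.NoFF.Basic (conj_conj mem_conj conj_le_iff conj_le_centralizer comm_symm Gal)
open Cfsg.Agent.Omega.NOThreeL.Low (Tp Blk Fr Ch BB)
open Cfsg.Agent.Omega.NOThreeL.Low.Key (BH)
open Cfsg.Agent.Omega.FrameFF (cv)
open Cfsg.Agent.Omega.FFThm (ElemM OffM NoOverM ConclM relIndex_le_iff)
open Cfsg.Agent.ZN.ChoiceSit (Syl)
open scoped Pointwise

universe u

variable {G : Type u} [Group G] [Finite G] {S : Sylow 2 G} {P V F B : Subgroup G}

namespace WFr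

variable {M : Subgroup G} {n : ℕ} (w : WFr S M V F)
include w

/-- a line of a chamber which contains `W` is in `B` -/
theorem line_le_BN (n : ℕ) {g : G} (hg : g ∈ M) (hW : NOne.Flat.WW V F ≤ MulAut.conj g • (S : Subgroup G)) {R : Subgroup G}
    (hR : IsParS (S : Subgroup G) R) :
    MulAut.conj g • zl (S : Subgroup G) R ≤ BL M (S : Subgroup G) V F n :=
  (Fr.le_BB' (Fr.mem_Gd (Nat.zero_le n) (w.ch hg hW) hR (w.good hg hW hR))).trans le_sup_left

theorem zl_le_BN (n : ℕ) {R : Subgroup G} (hR : IsParS (S : Subgroup G) R) :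
    zl (S : Subgroup G) R ≤ BL M (S : Subgroup G) V F n := by
  have h1 := w.line_le_BN n (one_mem M) (by rw [map_one, one_smul]; exact w.WS) hR
  rwa [map_one, one_smul] at h1

theorem L_le_IN (n : ℕ) (hP : IsParS (S : Subgroup G) P) : zl (S : Subgroup G) P ≤ V ⊓ BL M (S : Subgroup G) V F n :=
  le_inf (w.zl_le_V hP) (w.zl_le_BN n hP)

/-- **570's `Pre`** for active `P`, passive `P'`. -/
theorem preN (f : Fr S M V F n) {P' : Subgroup G} (hP : IsParS (S : Subgroup G) P) (hP' : IsParS (S : Subgroup G) P')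
    (hact : ¬ NOne.Flat.WW V F ≤ o2 P) (hpas : NOne.Flat.WW V F ≤ o2 P') :
    Pre (S : Subgroup G) V F (BL M (S : Subgroup G) V F n) P P' (zl (S : Subgroup G) P)
      (zl (S : Subgroup G) P') where
  toBH := bh f
  SP := hP.le
  SP' := hP'.le
  PV := w.PV hP
  PV' := w.PV hP'
  PL := MinSimple.VModule.le_normalizer_zl _ _
  Pc := MinSimple.VModule.le_normalizer_zl _ _
  PQ := w.PQ hP
  WS := w.WS
  WS' := fun g hg => by
    have h1 := conj_le_iff (g := g).2 hpas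
    rw [conj_eq_of_norm (MinSimple.VModule.le_normalizer_o2 P' hg)] at h1
    exact h1.trans (hP'.isLoc.o2_le S)
  LV := w.zl_le_V hP
  LB := w.zl_le_BN n hP
  mov := w.mov hP hact
  cF := w.zl_le_F hP' hpas
  line := fun y hy hW => w.line_le_BN n (sup_le (w.PM P hP) (w.PM P' hP') hy) hW hP'

/-- `I ≰ F` if there is an active type. -/
theorem not_I_leN (n : ℕ) (hP : IsParS (S : Subgroup G) P) (hact : ¬ NOne.Flat.WW V F ≤ o2 P) :
    ¬ V ⊓ BL M (S : Subgroup G) V F n ≤ F := by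
  intro h1
  apply w.mov hP hact
  intro s hs
  rw [mem_centralizer_iff]
  exact fun l hl => NOne.Flat.Hyp.F_comm (h1 ⟨w.zl_le_V hP hl, w.zl_le_BN n hP hl⟩) (NOne.Flat.Hyp.W_le_X hs)

/-- **(K2)** `V = V_P'^p E` -/
theorem hspN (f : Fr S M V F n) (hn : 1 ≤ n) (hFF : FFThm.StmtM.{u}) {P' : Subgroup G} (hP : IsParS (S : Subgroup G) P)
    (hP' : IsParS (S : Subgroup G) P') (hact : ¬ NOne.Flat.WW V F ≤ o2 P)
    (hk : Key V F (BL M (S : Subgroup G) V F n)) {p : G} (hp : p ∈ P)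
    (hρ : MulAut.conj p • zl (S : Subgroup G) P' ⊓ ⁅zl (S : Subgroup G) P, NOne.Flat.WW V F⁆ = ⊥)
    (hUE : ¬ MulAut.conj p • zl (S : Subgroup G) P' ≤ EE V F) :
    ∀ v ∈ V, ∃ x ∈ MulAut.conj p • zl (S : Subgroup G) P', ∃ e ∈ EE V F, v = x * e := by
  have hb := bh f
  have hI := w.not_I_leN n hP hact
  have hBS := BL_le_conj f hn (w.ch_par hP hp)
  have hdV := f.line_le_V (w.PM P hP hp) hP'
  have hBd : BL M (S : Subgroup G) V F n ≤
      normalizer ((MulAut.conj p • zl (S : Subgroup G) P' : Subgroup G) : Set G) := by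
    refine hBS.trans ?_
    intro x hx
    rw [mem_conj] at hx
    have h1 := MinSimple.VModule.le_normalizer_zl (S : Subgroup G) P' (hP'.le hx)
    rw [mem_normalizer_iff] at h1 ⊢
    intro y
    rw [mem_conj, mem_conj]
    have e : p⁻¹ * (x * y * x⁻¹) * p = p⁻¹ * x * p * (p⁻¹ * y * p) * (p⁻¹ * x * p)⁻¹ := by group
    rw [e]
    exact h1 _
  have h3 := two hb hdV hUE hBd hI (fun e he b hb' => hk.mem_EB hb (w.L_le_IN n hP) (w.mov hP hact) he hb') hρ
    (noOver_conj hFF w.hc hP' hBS)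
  intro v hv
  have hcos : Cos id (MulAut.conj p • zl (S : Subgroup G) P') (EE V F) V (EE V F) :=
    ⟨fun u hu => hdV hu, fun _ _ _ _ => Iff.rfl⟩
  obtain ⟨x, hx, hxv⟩ := hcos.surj ((hb.relIndex_V_le hI).trans h3) hv
  exact ⟨x, hx, x⁻¹ * v, hxv, by group⟩

/-- **THEOREM PAS** (#20445 (P1), radicals of `P'` allowed): `V_P'^p ≤ E` if `V_P'^p ∩ ρ = 1`. -/
theorem pasN (f : Fr S M V F n) (hn : 1 ≤ n) (hFF : FFThm.StmtM.{u}) {P' : Subgroup G} (hP : IsParS (S : Subgroup G) P)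
    (hP' : IsParS (S : Subgroup G) P') (hact : ¬ NOne.Flat.WW V F ≤ o2 P) (hpas : NOne.Flat.WW V F ≤ o2 P')
    (hk : Key V F (BL M (S : Subgroup G) V F n)) {rho : Subgroup G} (hrho : rho ≤ zl (S : Subgroup G) P)
    (dich : ∀ k ∈ P', MulAut.conj k • NOne.Flat.WW V F ≤ centralizer (zl (S : Subgroup G) P : Set G) ∨
      ∃ s ∈ (S : Subgroup G), MulAut.conj k • rho = MulAut.conj s • rho)
    (hZ : zc (S : Subgroup G) ≤ ⨆ s : (S : Subgroup G), MulAut.conj (s : G) • rho)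
    {p : G} (hp : p ∈ P)
    (hρ : MulAut.conj p • zl (S : Subgroup G) P' ⊓ ⁅zl (S : Subgroup G) P, NOne.Flat.WW V F⁆ = ⊥) :
    MulAut.conj p • zl (S : Subgroup G) P' ≤ EE V F :=
  (w.preN f hP hP' hact hpas).pas (rho := rho) dich rfl hrho (fun _ hN hn ha => w.min hP' hN hn ha) hZ
    (fun _ hX hZX => w.zl_le_of hX hZX) hp (w.hspN f hn hFF hP hP' hact hk hp hρ)

/-- `[r, W] ≤ L` for `r ∈ I` -/
theorem comm_IN (f : Fr S M V F n) (hP : IsParS (S : Subgroup G) P) (hact : ¬ NOne.Flat.WW V F ≤ o2 P)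
    (hk : Key V F (BL M (S : Subgroup G) V F n)) {r s : G} (hr : r ∈ V ⊓ BL M (S : Subgroup G) V F n)
    (hs : s ∈ NOne.Flat.WW V F) : c r s ∈ zl (S : Subgroup G) P := by
  have h1 := hk.mem (bh f) (w.L_le_IN n hP) (w.mov hP hact) hr hs
  refine (commutator_le.2 fun l hl t ht => ?_ : ⁅zl (S : Subgroup G) P, NOne.Flat.WW V F⁆ ≤ zl (S : Subgroup G) P) h1
  rw [commutatorElement_def, ← c_def]
  exact NOThreeL.Low.Key.c_mem_left hl (MinSimple.VModule.le_normalizer_zl _ _ (hP.le (w.WS ht)))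

/-- `V_P'^p ≤ E` for one `p ∈ P` with `P = ⟨S, W^(p⁻¹)⟩` ⟹ `V_P' ≤ V_P`. -/
theorem le_of_goodN (f : Fr S M V F n) (hn : 1 ≤ n) (hP : IsParS (S : Subgroup G) P) {P' : Subgroup G}
    (hP' : IsParS (S : Subgroup G) P') (hact : ¬ NOne.Flat.WW V F ≤ o2 P) (hpas : NOne.Flat.WW V F ≤ o2 P')
    (hk : Key V F (BL M (S : Subgroup G) V F n))
    (irr : ∀ X : Subgroup G, X ≤ V → P ≤ normalizer (X : Set G) → X ≠ ⊥ → zl (S : Subgroup G) P ≤ X)
    (cvq : V ⊓ centralizer (o2 P : Set G) ≤ zl (S : Subgroup G) P) {p : G} (hp : p ∈ P)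
    (hgen : P ≤ (S : Subgroup G) ⊔ MulAut.conj p⁻¹ • NOne.Flat.WW V F)
    (hgood : MulAut.conj p • zl (S : Subgroup G) P' ≤ EE V F) :
    zl (S : Subgroup G) P' ≤ zl (S : Subgroup G) P := by
  set L : Subgroup G := zl (S : Subgroup G) P with hL
  set d : Subgroup G := zl (S : Subgroup G) P' with hd
  have hLV : L ≤ V := w.zl_le_V hP
  have hdV : d ≤ V := w.zl_le_V hP'
  have hPL : P ≤ normalizer (L : Set G) := MinSimple.VModule.le_normalizer_zl _ _
  have hPd : P' ≤ normalizer (d : Set G) := MinSimple.VModule.le_normalizer_zl _ _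
  have hdL : d ≤ normalizer (L : Set G) := by
    refine le_trans ?_ (centralizer_le_normalizer _)
    exact hdV.trans (w.hyp.comm.trans (centralizer_le hLV))
  have hLd : L ≤ normalizer (d : Set G) := by
    refine le_trans ?_ (centralizer_le_normalizer _)
    exact hLV.trans (w.hyp.comm.trans (centralizer_le hdV))
  -- `A = V_P' V_P`
  set A : Subgroup G := d ⊔ L with hA
  have hAV : A ≤ V := sup_le hdV hLV
  have hgI : MulAut.conj p • d ≤ BL M (S : Subgroup G) V F n :=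
    (Fr.le_BB' (Fr.mem_Gd hn (w.ch_par hP hp) hP' hgood)).trans le_sup_left
  have hAI : MulAut.conj p • A ≤ V ⊓ BL M (S : Subgroup G) V F n := by
    refine le_inf ?_ ?_
    · have h1 := conj_le_iff (g := p).2 hAV
      rwa [conj_eq_of_norm (w.PV hP hp)] at h1
    · rw [hA, Subgroup.smul_sup]
      refine sup_le hgI ?_
      rw [conj_eq_of_norm (hPL hp)]
      exact w.zl_le_BN n hP
  -- `[A, W^(p⁻¹)] ≤ L`
  have hAW : ∀ x ∈ A, ∀ s ∈ MulAut.conj p⁻¹ • NOne.Flat.WW V F, c x s ∈ L := by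
    intro x hx s hs
    rw [mem_conj, inv_inv] at hs
    have hx' : p * x * p⁻¹ ∈ V ⊓ BL M (S : Subgroup G) V F n := hAI (NOne.Frame.conj_mem hx)
    have h1 := w.comm_IN f hP hact hk hx' hs
    have h2 := (mem_normalizer_iff.1 (hPL (inv_mem hp)) _).1 h1
    have e : p⁻¹ * c (p * x * p⁻¹) (p * s * p⁻¹) * p⁻¹⁻¹ = c x s := by rw [c_def, c_def]; group
    rwa [e] at h2
  have hSA : (S : Subgroup G) ≤ normalizer (A : Set G) := by
    intro s hs
    have h1 : MulAut.conj s • A = A := by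
      rw [hA, Subgroup.smul_sup, conj_eq_of_norm (hPd (hP'.le hs)), conj_eq_of_norm (hPL (hP.le hs))]
    rw [mem_normalizer_iff]
    intro y
    constructor
    · intro hy
      rw [← h1]
      exact NOne.Frame.conj_mem hy
    · intro hy
      rw [← h1, mem_conj] at hy
      have e : s⁻¹ * (s * y * s⁻¹) * s = y := by group
      rwa [e] at hy
  have hWA : MulAut.conj p⁻¹ • NOne.Flat.WW V F ≤ normalizer (A : Set G) := by
    have key : ∀ s ∈ MulAut.conj p⁻¹ • NOne.Flat.WW V F, ∀ x ∈ A, s * x * s⁻¹ ∈ A := by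
      intro s hs x hx
      have e : s * x * s⁻¹ = x * c x⁻¹ s := by rw [c_def]; group
      rw [e]
      exact mul_mem hx (le_sup_right (a := d) (hAW x⁻¹ (inv_mem hx) s hs))
    intro s hs
    rw [mem_normalizer_iff]
    intro y
    refine ⟨key s hs y, fun hy => ?_⟩
    have h1 := key s⁻¹ (inv_mem hs) _ hy
    have e : s⁻¹ * (s * y * s⁻¹) * s⁻¹⁻¹ = y := by group
    rwa [e] at h1
  have hPA : P ≤ normalizer (A : Set G) := hgen.trans (sup_le hSA hWA)
  -- `X = [A, Q]`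
  set X : Subgroup G := closure {y | ∃ u ∈ A, ∃ q ∈ o2 P, y = c u q} with hX
  have hQS : o2 P ≤ (S : Subgroup G) := hP.isLoc.o2_le S
  have hQL : o2 P ≤ centralizer (L : Set G) := by
    rw [← hP.inf_centralizer S w.hc]
    exact inf_le_right
  have hXc : X ≤ d := by
    rw [hX, closure_le]
    rintro y ⟨u, hu, q, hq, rfl⟩
    obtain ⟨l, hl, x, hx, rfl⟩ := mem_sup_of_norm hdL (by rw [sup_comm]; exact hu)
    have hql : q * l⁻¹ * q⁻¹ = l⁻¹ := by
      have h1 := mem_centralizer_iff.1 (hQL hq) l⁻¹ (inv_mem hl)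
      rw [← h1, mul_inv_cancel_right]
    have h2 : q * x⁻¹ * q⁻¹ ∈ d := (mem_normalizer_iff.1 (hPd (hP'.le (hQS hq))) _).1 (inv_mem hx)
    have h3 : x * (q * x⁻¹ * q⁻¹) ∈ d := mul_mem hx h2
    have e1 : c (l * x) q = l * (x * (q * x⁻¹ * q⁻¹)) * (q * l⁻¹ * q⁻¹) := by rw [c_def]; group
    rw [SetLike.mem_coe, e1, hql, w.hyp.V_comm (hLV hl) (hdV h3), mul_inv_cancel_right]
    exact h3
  have hPX : P ≤ normalizer (X : Set G) := by
    have key : ∀ t ∈ P, ∀ x ∈ X, t * x * t⁻¹ ∈ X := by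
      intro t ht x hx
      induction hx using closure_induction with
      | mem x hx =>
        obtain ⟨u, hu, q, hq, rfl⟩ := hx
        refine subset_closure ⟨t * u * t⁻¹, (mem_normalizer_iff.1 (hPA ht) _).1 hu, t * q * t⁻¹,
          (mem_normalizer_iff.1 (MinSimple.VModule.le_normalizer_o2 P ht) _).1 hq, ?_⟩
        rw [c_def, c_def]
        group
      | one => rw [mul_one, mul_inv_cancel]; exact one_mem _
      | mul x y _ _ hx hy =>
        have e : t * (x * y) * t⁻¹ = t * x * t⁻¹ * (t * y * t⁻¹) := by group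
        rw [e]
        exact mul_mem hx hy
      | inv x _ hx =>
        have e : t * x⁻¹ * t⁻¹ = (t * x * t⁻¹)⁻¹ := by group
        rw [e]
        exact inv_mem hx
    intro t ht
    rw [mem_normalizer_iff]
    intro x
    refine ⟨key t ht x, fun hx => ?_⟩
    have h1 := key _ (inv_mem ht) _ hx
    have e : t⁻¹ * (t * x * t⁻¹) * t⁻¹⁻¹ = x := by group
    rwa [e] at h1
  have hX1 : X = ⊥ := by
    by_contra hne
    have h1 := (irr X (hXc.trans hdV) hPX hne).trans hXc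
    apply w.mov hP hact
    intro s hs
    rw [mem_centralizer_iff]
    exact fun l hl => NOne.Flat.Hyp.F_comm (w.zl_le_F hP' hpas (h1 hl)) (NOne.Flat.Hyp.W_le_X hs)
  refine le_trans (le_inf hdV fun x hx => ?_) cvq
  rw [mem_centralizer_iff]
  intro q hq
  have h1 : c x q ∈ X := subset_closure ⟨x, le_sup_left (b := L) hx, q, hq, rfl⟩
  rw [hX1, mem_bot] at h1
  exact (NOThreeL.Low.Key.comm_of_c h1).symm

/-- the root property -/
theorem rootN (f : Fr S M V F n) (hP : IsParS (S : Subgroup G) P) (hact : ¬ NOne.Flat.WW V F ≤ o2 P)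
    (hk : Key V F (BL M (S : Subgroup G) V F n)) : Root V F (V ⊓ BL M (S : Subgroup G) V F n) :=
  Root.of_key hk ((bh f).exists_not_mem_NN (w.not_I_leN n hP hact))

/-- `W` is a minimal offender on `V_P` -/
theorem minN (hFF : FFThm.StmtM.{u}) (f : Fr S M V F n) (hP : IsParS (S : Subgroup G) P)
    (hcv : cv (S : Subgroup G) P = ⊥) (hact : ¬ NOne.Flat.WW V F ≤ o2 P)
    (hk : Key V F (BL M (S : Subgroup G) V F n)) :
    NOThreeL.NF.MinOffM (zl (S : Subgroup G) P) (S : Subgroup G) (NOne.Flat.WW V F) :=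
  minOff_of_root w.hc hP hcv ((w.act hP hcv hact).ff hFF).2 w.hyp (w.rootN f hP hact hk) (bh f).I_le_E
    (w.L_le_IN n hP) w.WS (w.mov hP hact)

/-- `V_P^k ≤ B` for `k ∈ P'` passive -/
theorem conj_le_BN (n : ℕ) (hP : IsParS (S : Subgroup G) P) {P' : Subgroup G} (hP' : IsParS (S : Subgroup G) P')
    (hpas : NOne.Flat.WW V F ≤ o2 P') {k : G} (hk : k ∈ P') :
    MulAut.conj k • zl (S : Subgroup G) P ≤ BL M (S : Subgroup G) V F n := by
  refine w.line_le_BN n (w.PM P' hP' hk) ?_ hP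
  have h1 := conj_le_iff (g := k).2 (hP'.isLoc.o2_le S)
  rw [conj_eq_of_norm (MinSimple.VModule.le_normalizer_o2 P' hk)] at h1
  exact hpas.trans h1

/-- **THEOREM PAS**: `V_P' ≤ V_P` for a passive type `P'`, radicals allowed. -/
theorem passive (hFF : FFThm.StmtM.{u}) (f : Fr S M V F n) (hn : 1 ≤ n) (hP : IsParS (S : Subgroup G) P)
    (hcv : cv (S : Subgroup G) P = ⊥) (hact : ¬ NOne.Flat.WW V F ≤ o2 P)
    (hk : Key V F (BL M (S : Subgroup G) V F n)) {P' : Subgroup G} (hP' : IsParS (S : Subgroup G) P')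
    (hpas : NOne.Flat.WW V F ≤ o2 P') : zl (S : Subgroup G) P' ≤ zl (S : Subgroup G) P := by
  have a := w.act hP hcv hact
  have hr := w.rootN f hP hact hk
  have hIE := (bh f).I_le_E
  have hpre := w.preN f hP hP' hact hpas
  have hPL : P ≤ normalizer (zl (S : Subgroup G) P : Set G) := MinSimple.VModule.le_normalizer_zl _ _
  obtain ⟨p, hg⟩ := exists_gnr hFF w.hc hP hcv (w.minN hFF f hP hcv hact hk)
  by_cases hgood : MulAut.conj p • zl (S : Subgroup G) P' ≤ EE V F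
  · exact w.le_of_goodN f hn hP hP' hact hpas hk (irr a hFF) (a.cent_VQ hFF).le hg.mem hg.gen hgood
  · refine absurd (w.pasN f hn hFF hP hP' hact hpas hk (rho_le a)
      (dich' a hFF (w.PV hP') hpre.WS' hIE hr fun g hg => w.conj_le_BN n hP hP' hpas hg)
      (zc_le a hFF hIE hr (w.L_le_IN n hP)) hg.mem ?_) hgood
    rw [eq_bot_iff]
    intro x hx
    obtain ⟨hx1, hx2⟩ := mem_inf.1 hx
    rw [mem_conj] at hx1
    have e : p * (p⁻¹ * x * p) * p⁻¹ = x := by group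
    have hxL : x ∈ zl (S : Subgroup G) P := rho_le a hx2
    have h1 : p⁻¹ * x * p ∈ zl (S : Subgroup G) P := by
      have h2 := (mem_normalizer_iff.1 (hPL (inv_mem hg.mem)) x).1 hxL
      rwa [inv_inv] at h2
    have h3 := hg.dis _ h1 (fun s hs => ?_) (by rw [e]; exact hx2)
    · rw [mem_bot, ← e, h3, mul_one, mul_inv_cancel]
    · refine (hpre.cent_conjW hs).trans (centralizer_le ?_)
      rintro _ rfl
      exact hx1

/-- **THEOREM ACT**: `V_P' = V_P` for an active type `P'` with `C_Z(P') = 1`. -/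
theorem active (hFF : FFThm.StmtM.{u}) (f : Fr S M V F n) (hn : 1 ≤ n)
    (hkey : F.relIndex (V ⊓ BL M (S : Subgroup G) V F n) ≤ (EE V F).relIndex V)
    (hP : IsParS (S : Subgroup G) P) (hcv : cv (S : Subgroup G) P = ⊥) (hact : ¬ NOne.Flat.WW V F ≤ o2 P)
    {P' : Subgroup G} (hP' : IsParS (S : Subgroup G) P') (hcv' : cv (S : Subgroup G) P' = ⊥)
    (hact' : ¬ NOne.Flat.WW V F ≤ o2 P') : zl (S : Subgroup G) P' = zl (S : Subgroup G) P :=
  ActT.AA.eq (S := S) (P₀ := P) (P := P') (V := V) (F := F) (B := BL M (S : Subgroup G) V F n)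
    { a₀ := w.act hP hcv hact
      a := w.act hP' hcv' hact'
      bh := bh f
      LB := w.zl_le_BN n hP
      cB := w.zl_le_BN n hP'
      hk := key_of_le (bh f) hkey
      good₀ := fun _ hg hE => (Fr.le_BB' (Fr.mem_Gd hn (w.ch_par hP hg) hP' hE)).trans le_sup_left
      good := fun _ hg hE => (Fr.le_BB' (Fr.mem_Gd hn (w.ch_par hP' hg) hP hE)).trans le_sup_left } hFF

end WFr

end Cfsg.Agent.Omega.NO3S.Pas

end

section


/-!
# The KEY for bad lines with a radical, end (#21048 (C)): an active type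

`BH V F B`, `I = V ∩ B`, `i = |I : F|`, `a = |V : E|`; the bad line is `conj g • zl S Q`, `B ≤ S^g`.

* `main_conj`, `key_or` : `Key V F B`, or `i = 4`, `a = 2`, `Q` natural over a field with `≥ 4` elements, `cv S Q ≠ 1`;
* `pow_le` : `A ≤ S` acts on the blocks `J` of `L` ⟹ `q^|J| ≤ |L : C_L(A)|`;
* `ns` : (NS) `i = 4`, `L₁ ≤ I` natural over a field with more than two elements and moved by `W ≤ S` ⟹ the field has 4
  elements, `|L₁ : L₁ ∩ F| = 4`, `I = L₁ F`, `W` acts on one block only;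
* `card_zc_nat`, `card_zc_sym` : `|Ω₁(Z(S))| ≤ q` resp. `≤ 2` (no radical); `four_le_zc` : `cv S Q ≠ 1` ⟹ `|Ω₁(Z(S))| ≥ 4`;
* `key_act` **(C)** : `(S, P)` active, `cv S P = 1` ⟹ `Key V F B`; `key_fr` : over 633's front.
-/

set_option autoImplicit false
set_option linter.unusedSectionVars false

namespace Cfsg.Agent.Omega.NO3S.KeyRad

open Subgroup Cfsg Cfsg.Agent.ZN Cfsg.Agent.ZN.ChoiceBase Cfsg.Agent.Omega.MinPar
open Cfsg.Agent.Omega.Frame Cfsg.Agent.Omega.FrameNOFF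
open Cfsg.Agent.Omega.NOne.Flat (EE NN Cos card_mul_relIndex' conj_eq_of_norm conj_centralizer WW_conj EE_conj)
open Cfsg.Agent.Omega.NOne.NearFF (c)
open Cfsg.Agent.Omega.NoFF.Basic (conj_conj mem_conj conj_le_iff conj_le_centralizer)
open Cfsg.Agent.Omega.FFThm Cfsg.Agent.Omega.NatPair Cfsg.Agent.Lib.SL2Mat
open Cfsg.Agent.Omega.NO3S.ThmB (Nb Sb sg vec_eq ap_up_0 ap_up_1)
open Cfsg.Agent.Omega.NOThreeL.Low.Key (BH)
open Cfsg.Agent.Omega.NO3S.Pas (Key WFr)
open Cfsg.Agent.Omega.FrameFF (cv)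
open scoped Pointwise

universe u

/-! ### The bad line -/

section bad

variable {G : Type u} [Group G] [Finite G] {S : Sylow 2 G} {Q V F B : Subgroup G}

theorem key_of_lt (bh : BH V F B) (h : F.relIndex (V ⊓ B) < (EE V F).relIndex V ^ 2) : Key V F B :=
  fun _ hr hrF _ hb hbN y => bh.root' h hr hrF hb hbN y

/-- the KEY from constant commutators -/
theorem key_of_root (bh : BH V F B) (hr : ∀ r ∈ V ⊓ B, r ∉ F → ∀ r' ∈ V ⊓ B, r' ∉ F →
    ∀ s ∈ NOne.Flat.WW V F, ∃ t ∈ NOne.Flat.WW V F, c r' t = c r s) : Key V F B := by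
  intro r hrI hrF b hb hbN y
  obtain ⟨w, hw, hwE⟩ := bh.toHyp.exists_not_mem
  have h1 : c w b ∈ V ⊓ B := bh.c_memI hw hb
  have h2 : c w b ∉ F := fun h3 => hbN (bh.mem_NN_of_c hw hwE hb h3)
  rw [← root_of bh hw hwE h1 hb (by rw [inv_mul_cancel]; exact one_mem _)]
  constructor
  · rintro ⟨s, hs, rfl⟩
    exact hr r hrI hrF _ h1 h2 s hs
  · rintro ⟨s, hs, rfl⟩
    exact hr _ h1 h2 r hrI hrF s hs

/-- `main` for the bad line `conj g • zl S Q`. -/
theorem main_conj (hc : IsCharacteristicTwoType G) (hQ : IsParS (S : Subgroup G) Q)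
    (hT : ConclM (S : Subgroup G) Q) (bh : BH V F B) (hsq : ∀ b ∈ B, b ^ 2 = 1) {g : G}
    (hg : g ∈ normalizer (V : Set G)) (hBS : B ≤ MulAut.conj g • (S : Subgroup G))
    (hUV : MulAut.conj g • zl (S : Subgroup G) Q ≤ V) (hUE : ¬ MulAut.conj g • zl (S : Subgroup G) Q ≤ EE V F) :
    F.relIndex (V ⊓ B) < (EE V F).relIndex V ^ 2 ∨ F.relIndex (V ⊓ B) ≤ (EE V F).relIndex V ∨
      (F.relIndex (V ⊓ B) = 4 ∧ (EE V F).relIndex V = 2 ∧ NatBig (S : Subgroup G) Q) := by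
  have hg' : g⁻¹ ∈ normalizer (V : Set G) := inv_mem hg
  have eE : EE V (MulAut.conj g⁻¹ • F) = MulAut.conj g⁻¹ • EE V F := (EE_conj hg').symm
  have eV : MulAut.conj g⁻¹ • V = V := conj_eq_of_norm hg'
  have hlow : ∀ {X : Subgroup G}, MulAut.conj g • X ≤ V → X ≤ V := by
    intro X hX
    have h2 := conj_le_iff (g := g⁻¹).2 hX
    rwa [conj_conj, inv_mul_cancel, map_one, one_smul, eV] at h2
  have h1 := main (S := S) (P := Q) (F := MulAut.conj g⁻¹ • F) (B := MulAut.conj g⁻¹ • B) hc hQ hT (bh.conj hg')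
    ?_ ?_ (hlow hUV) ?_
  · have e1 : V ⊓ MulAut.conj g⁻¹ • B = MulAut.conj g⁻¹ • (V ⊓ B) := by
      rw [Subgroup.smul_inf, eV]
    rw [e1, eE, relIndex_pointwise_smul] at h1
    have e2 : (MulAut.conj g⁻¹ • EE V F).relIndex (MulAut.conj g⁻¹ • V) = (EE V F).relIndex V := by
      rw [relIndex_pointwise_smul]
    rw [eV] at e2
    rwa [e2] at h1
  · intro b hb
    rw [mem_conj, inv_inv] at hb
    have h2 := hsq _ hb
    have e : b ^ 2 = g⁻¹ * (g * b * g⁻¹) ^ 2 * g := by rw [pow_two, pow_two]; group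
    rw [e, h2]
    group
  · have h2 := conj_le_iff (g := g⁻¹).2 hBS
    rwa [conj_conj, inv_mul_cancel, map_one, one_smul] at h2
  · intro h2
    apply hUE
    rw [eE] at h2
    have h3 := conj_le_iff (g := g).2 h2
    rwa [conj_conj, mul_inv_cancel, map_one, one_smul] at h3

/-- A bad line is FF. -/
theorem concl_conj (hFF : StmtM.{u}) (hc : IsCharacteristicTwoType G) (hQ : IsParS (S : Subgroup G) Q)
    (hlow : zl (S : Subgroup G) Q ≤ o2 (CZ (S : Subgroup G))) (bh : BH V F B) {g : G}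
    (hg : g ∈ normalizer (V : Set G)) (hI : ¬ V ⊓ B ≤ F) (hBS : B ≤ MulAut.conj g • (S : Subgroup G))
    (hUV : MulAut.conj g • zl (S : Subgroup G) Q ≤ V) (hUE : ¬ MulAut.conj g • zl (S : Subgroup G) Q ≤ EE V F) :
    ConclM (S : Subgroup G) Q := by
  have hg' : g⁻¹ ∈ normalizer (V : Set G) := inv_mem hg
  have eE : EE V (MulAut.conj g⁻¹ • F) = MulAut.conj g⁻¹ • EE V F := (EE_conj hg').symm
  have eV : MulAut.conj g⁻¹ • V = V := conj_eq_of_norm hg'
  have b' := bh.conj hg'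
  have e1 : V ⊓ MulAut.conj g⁻¹ • B = MulAut.conj g⁻¹ • (V ⊓ B) := by
    rw [Subgroup.smul_inf, eV]
  have hn : ¬ NO3b.EZero.NotFF (zl (S : Subgroup G) Q) := by
    refine NOThreeL.Low.NonFF.ff (S := S) hc hQ hlow b'.toHyp b'.le_W b'.F_le b'.abel b'.norm ?_ ?_ ?_ ?_
    · rw [e1]
      exact fun h1 => hI (conj_le_iff.1 h1)
    · have h2 := conj_le_iff (g := g⁻¹).2 hBS
      rwa [conj_conj, inv_mul_cancel, map_one, one_smul] at h2
    · have h2 := conj_le_iff (g := g⁻¹).2 hUV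
      rwa [conj_conj, inv_mul_cancel, map_one, one_smul, eV] at h2
    · intro h2
      apply hUE
      rw [eE] at h2
      have h3 := conj_le_iff (g := g).2 h2
      rwa [conj_conj, mul_inv_cancel, map_one, one_smul] at h3
  obtain ⟨A, hA, ho⟩ := NOThreeL.Low.exists_off (hQ.le.trans (MinSimple.VModule.le_normalizer_zl _ _)) hn
  exact (hFF G (S : Subgroup G) Q (MinSimple.EmptyTI.syl_of_le hQ.le)
    hQ.toIsMinPar (hQ.isLoc.char2 S hc) ⟨A, hA.trans hQ.le, ho⟩).2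

/-- no radical: `i ≤ a` -/
theorem le_of_cv (hc : IsCharacteristicTwoType G) (hQ : IsParS (S : Subgroup G) Q)
    (hT : NOThreeL.Low.Tp (S : Subgroup G) Q) (bh : BH V F B) (hsq : ∀ b ∈ B, b ^ 2 = 1) {g : G}
    (hg : g ∈ normalizer (V : Set G)) (hBS : B ≤ MulAut.conj g • (S : Subgroup G))
    (hUV : MulAut.conj g • zl (S : Subgroup G) Q ≤ V) (hUE : ¬ MulAut.conj g • zl (S : Subgroup G) Q ≤ EE V F) :
    F.relIndex (V ⊓ B) ≤ (EE V F).relIndex V := by
  have hg' : g⁻¹ ∈ normalizer (V : Set G) := inv_mem hg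
  have eE : EE V (MulAut.conj g⁻¹ • F) = MulAut.conj g⁻¹ • EE V F := (EE_conj hg').symm
  have eV : MulAut.conj g⁻¹ • V = V := conj_eq_of_norm hg'
  have h0 : zl (S : Subgroup G) Q ≤ V := by
    have h2 := conj_le_iff (g := g⁻¹).2 hUV
    rwa [conj_conj, inv_mul_cancel, map_one, one_smul, eV] at h2
  have h1 := Pas.three (S := S) (P := Q) (F := MulAut.conj g⁻¹ • F) (B := MulAut.conj g⁻¹ • B) hc hQ hT (bh.conj hg')
    ?_ ?_ h0 ?_
  · have e1 : V ⊓ MulAut.conj g⁻¹ • B = MulAut.conj g⁻¹ • (V ⊓ B) := by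
      rw [Subgroup.smul_inf, eV]
    rw [e1, eE, relIndex_pointwise_smul] at h1
    have e2 : (MulAut.conj g⁻¹ • EE V F).relIndex (MulAut.conj g⁻¹ • V) = (EE V F).relIndex V := by
      rw [relIndex_pointwise_smul]
    rw [eV] at e2
    exact h1.trans ((relIndex_le_of_le_right h0 index_ne_zero_of_finite).trans e2.le)
  · intro b hb
    rw [mem_conj, inv_inv] at hb
    have h2 := hsq _ hb
    have e : b ^ 2 = g⁻¹ * (g * b * g⁻¹) ^ 2 * g := by rw [pow_two, pow_two]; group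
    rw [e, h2]
    group
  · have h2 := conj_le_iff (g := g⁻¹).2 hBS
    rwa [conj_conj, inv_mul_cancel, map_one, one_smul] at h2
  · intro h2
    apply hUE
    rw [eE] at h2
    have h3 := conj_le_iff (g := g).2 h2
    rwa [conj_conj, mul_inv_cancel, map_one, one_smul] at h3

/-- **KEY or (NS).** -/
theorem key_or (hFF : StmtM.{u}) (hc : IsCharacteristicTwoType G) (hQ : IsParS (S : Subgroup G) Q)
    (hlow : zl (S : Subgroup G) Q ≤ o2 (CZ (S : Subgroup G))) (bh : BH V F B) (hsq : ∀ b ∈ B, b ^ 2 = 1) {g : G}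
    (hg : g ∈ normalizer (V : Set G)) (hI : ¬ V ⊓ B ≤ F) (hBS : B ≤ MulAut.conj g • (S : Subgroup G))
    (hUV : MulAut.conj g • zl (S : Subgroup G) Q ≤ V) (hUE : ¬ MulAut.conj g • zl (S : Subgroup G) Q ≤ EE V F) :
    Key V F B ∨ (F.relIndex (V ⊓ B) = 4 ∧ (EE V F).relIndex V = 2 ∧ NatBig (S : Subgroup G) Q ∧
      cv (S : Subgroup G) Q ≠ ⊥) := by
  have hT := concl_conj hFF hc hQ hlow bh hg hI hBS hUV hUE
  rcases main_conj hc hQ hT bh hsq hg hBS hUV hUE with h1 | h1 | ⟨h1, h2, h3⟩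
  · exact Or.inl (key_of_lt bh h1)
  · exact Or.inl (Pas.key_of_le bh h1)
  · by_cases h4 : cv (S : Subgroup G) Q = ⊥
    · left
      refine Pas.key_of_le bh (le_of_cv hc hQ ?_ bh hsq hg hBS hUV hUE)
      unfold ConclM at hT
      rw [h4] at hT
      exact hT
    · exact Or.inr ⟨h1, h2, h3, h4⟩

end bad

/-! ### The active line -/

section nat

variable {G : Type u} [Group G] [Finite G] {K : Type} [Field K] [Finite K] [CharP K 2] {S P L D : Subgroup G} {k : ℕ}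
  {M : NatKM K S P L D k} (h : Nb M)
include h

theorem acts_upd {A : Subgroup G} {I : Set (Fin k)}
    (h2 : ∀ b : Fin k → K, (∀ i, i ∉ I → b i = 0) → ∃ a ∈ A, ActsSL M.e L D a fun i => up (b i)) {x : G} (hx : x ∈ L)
    (hxA : x ∈ centralizer (A : Set G)) {i : Fin k} (hi : i ∈ I) : M.e x i 1 = 0 := by
  classical
  obtain ⟨a, ha, haA⟩ := h2 (Function.update 0 i 1) (fun l hl => by
    rw [Function.update_of_ne (fun h3 => hl (by rw [h3]; exact hi))]; rfl)
  have h3 : a * x * a⁻¹ = x := by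
    rw [mem_centralizer_iff.1 hxA a ha, mul_inv_cancel_right]
  have h4 := congrFun (haA.1 x hx i) 0
  rw [h3, ap_up_0, Function.update_self, one_mul] at h4
  exact left_eq_add.1 h4

/-- `q^|J| ≤ |L : C_L(A)|` -/
theorem pow_le {A : Subgroup G} {I : Set (Fin k)}
    (h2 : ∀ b : Fin k → K, (∀ i, i ∉ I → b i = 0) → ∃ a ∈ A, ActsSL M.e L D a fun i => up (b i)) :
    Nat.card K ^ Nat.card I ≤ (centralizer (A : Set G)).relIndex L := by
  classical
  have hv : ∀ t : I → K, ∃ v ∈ L, M.e v = fun i => if hi : i ∈ I then ![0, t ⟨i, hi⟩] else 0 := fun t => M.surj _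
  choose v hvL hve using hv
  rw [← Nat.card_fun, relIndex, index_eq_card]
  refine Nat.card_le_card_of_injective
    (fun t : I → K => (QuotientGroup.mk (⟨v t, hvL t⟩ : L) : L ⧸ (centralizer (A : Set G)).subgroupOf L)) ?_
  intro t t' htt
  have h3 : (v t)⁻¹ * v t' ∈ centralizer (A : Set G) := by
    have h4 : (QuotientGroup.mk (⟨v t, hvL t⟩ : L) : L ⧸ (centralizer (A : Set G)).subgroupOf L) =
      QuotientGroup.mk ⟨v t', hvL t'⟩ := htt
    rw [QuotientGroup.eq, mem_subgroupOf] at h4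
    exact h4
  funext i
  have h4 := acts_upd h h2 (mul_mem (inv_mem (hvL t)) (hvL t')) h3 i.2
  rw [M.mul _ (inv_mem (hvL t)) _ (hvL t'), h.e_inv (hvL t), Pi.add_apply, Pi.add_apply, hve, hve] at h4
  simp only [dif_pos i.2, Matrix.cons_val_one, Matrix.cons_val_fin_one] at h4
  exact CharTwo.add_eq_zero.1 h4

/-- the blocks of an offender -/
theorem exists_blocks {A : Subgroup G} (hA : A ≤ S) (hoff : OffM L A) : ∃ I : Set (Fin k), I.Nonempty ∧
    (∀ a ∈ A, ∃ b : Fin k → K, (∀ i, i ∉ I → b i = 0) ∧ ActsSL M.e L D a fun i => up (b i)) ∧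
      ∀ b : Fin k → K, (∀ i, i ∉ I → b i = 0) → ∃ a ∈ A, ActsSL M.e L D a fun i => up (b i) := by
  obtain ⟨I, h1, h2⟩ := M.offM A hA hoff
  refine ⟨I, ?_, h1, h2⟩
  by_contra hI
  apply hoff.ne
  intro a ha
  obtain ⟨b, hb, hab⟩ := h1 a ha
  have hb1 : (fun i => up (b i)) = (1 : Fin k → Matrix.SpecialLinearGroup (Fin 2) K) := by
    funext i
    rw [hb i (fun hi => hI ⟨i, hi⟩), up_zero]
    rfl
  rw [hb1] at hab
  exact mem_centralizer_iff.2 fun v hv => (h.comm_of_one (h.SP' (hA ha)) hab hv).symm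

end nat

theorem card_field_ne_three (K : Type) [Field K] [Finite K] [CharP K 2] : Nat.card K ≠ 3 := by
  have := Fintype.ofFinite K
  obtain ⟨n, -, hn⟩ := FiniteField.card K 2
  rw [Nat.card_eq_fintype_card, hn]
  intro h3
  have h4 : 2 ∣ 3 := by
    rw [← h3]
    exact dvd_pow_self 2 n.ne_zero
  omega

section act

variable {G : Type u} [Group G] [Finite G] {S : Sylow 2 G} {P Q V F B : Subgroup G}

/-- `I = L F` -/
theorem sup_eq_of (bh : BH V F B) {L : Subgroup G} (hL : L ≤ V ⊓ B) (h1 : F.relIndex (V ⊓ B) ≤ F.relIndex L) :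
    L ⊔ F = V ⊓ B := by
  have hle : L ⊔ F ≤ V ⊓ B := sup_le hL bh.F_le_I
  refine eq_of_le_of_card_ge hle ?_
  rw [← card_mul_relIndex' bh.F_le_I, ← card_mul_relIndex' (le_sup_right : F ≤ L ⊔ F)]
  refine Nat.mul_le_mul_left _ (h1.trans ?_)
  exact relIndex_le_of_le_right le_sup_left index_ne_zero_of_finite

/-- **(NS)** -/
theorem ns (bh : BH V F B) {K : Type} [Field K] [Finite K] [CharP K 2] {L D : Subgroup G} {k : ℕ}
    {M : NatKM K (S : Subgroup G) P L D k} (h : Nb M) (hK : 2 < Nat.card K) (hL : L ≤ V ⊓ B)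
    (hi : F.relIndex (V ⊓ B) ≤ 4) (hWS : NOne.Flat.WW V F ≤ (S : Subgroup G)) (hoff : OffM L (NOne.Flat.WW V F)) :
    Nat.card K = 4 ∧ F.relIndex L = 4 ∧ L ⊔ F = V ⊓ B ∧ ∃ j : Fin k,
      (∀ a ∈ NOne.Flat.WW V F, ∃ b : K, ActsSL M.e L D a (sg j (up b))) ∧
      ∀ b : K, ∃ a ∈ NOne.Flat.WW V F, ActsSL M.e L D a (sg j (up b)) := by
  classical
  obtain ⟨I, ⟨j, hj⟩, h1, h2⟩ := exists_blocks h hWS hoff
  have h3 := pow_le h h2
  have h4 : (centralizer (NOne.Flat.WW V F : Set G)).relIndex L = F.relIndex L := by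
    have e1 : L ⊓ centralizer (NOne.Flat.WW V F : Set G) = L ⊓ F := by
      apply le_antisymm
      · rintro x ⟨hx1, hx2⟩
        refine ⟨hx1, ?_⟩
        have h5 : x ∈ V ⊓ centralizer (NOne.Flat.WW V F : Set G) := ⟨(hL hx1).1, hx2⟩
        rwa [bh.toHyp.cent_VW] at h5
      · rintro x ⟨hx1, hx2⟩
        refine ⟨hx1, ?_⟩
        have h5 : x ∈ V ⊓ centralizer (NOne.Flat.WW V F : Set G) := by
          rw [bh.toHyp.cent_VW]; exact hx2
        exact h5.2
    rw [← inf_relIndex_left, e1, inf_relIndex_left]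
  rw [h4] at h3
  have h5 : F.relIndex L ≤ F.relIndex (V ⊓ B) := relIndex_le_of_le_right hL index_ne_zero_of_finite
  have h6 : Nat.card K ^ Nat.card I ≤ 4 := h3.trans (h5.trans hi)
  have h7 : Nat.card K ≠ 3 := card_field_ne_three K
  have h8 : 1 ≤ Nat.card I := Nat.one_le_iff_ne_zero.2 (Nat.card_ne_zero.2 ⟨⟨⟨j, hj⟩⟩, inferInstance⟩)
  have h9 : Nat.card I = 1 := by
    by_contra hne
    have h10 : Nat.card K ^ 2 ≤ Nat.card K ^ Nat.card I := Nat.pow_le_pow_right (by omega) (by omega)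
    have h11 : 4 ^ 2 ≤ Nat.card K ^ 2 := Nat.pow_le_pow_left (by omega) 2
    omega
  rw [h9, pow_one] at h6 h3
  have h10 : Nat.card K = 4 := by omega
  have h11 : F.relIndex L = 4 := by omega
  refine ⟨h10, h11, sup_eq_of bh hL (by omega), j, ?_, ?_⟩
  · have hsub : ∀ i, i ∈ I → i = j := by
      intro i hi'
      have h12 := (Nat.card_eq_one_iff_unique.1 h9).1
      have h13 := h12.elim (⟨i, hi'⟩ : I) ⟨j, hj⟩
      exact congrArg Subtype.val h13
    intro a ha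
    obtain ⟨b, hb, hab⟩ := h1 a ha
    refine ⟨b j, ?_⟩
    have e1 : (fun i => up (b i)) = sg j (up (b j)) := by
      refine ThmB.eq_sg fun l hl => ?_
      rw [hb l (fun h13 => hl (hsub l h13)), up_zero]
    rwa [← e1]
  · intro b
    obtain ⟨a, ha, haA⟩ := h2 (Function.update 0 j b) (fun l hl => by
      rw [Function.update_of_ne (fun h13 => hl (by rw [h13]; exact hj))]; rfl)
    refine ⟨a, ha, ?_⟩
    have e1 : (fun i => up (Function.update (0 : Fin k → K) j b i)) = sg j (up b) := by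
      funext i
      by_cases hij : i = j
      · rw [hij, Function.update_self, ThmB.sg_self]
      · rw [Function.update_of_ne hij, ThmB.sg_ne hij, Pi.zero_apply, up_zero]
    rwa [← e1]

/-- constant commutators: one block, no radical -/
theorem root_of_one {K : Type} [Field K] [CharP K 2] {L D A : Subgroup G} {k : ℕ} (hD : D = ⊥)
    {M : NatKM K (S : Subgroup G) P L D k} (h : Nb M)
    (hAP : A ≤ P) {j : Fin k} (h1 : ∀ a ∈ A, ∃ b : K, ActsSL M.e L D a (sg j (up b)))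
    (h2 : ∀ b : K, ∃ a ∈ A, ActsSL M.e L D a (sg j (up b))) {l l' : G} (hl : l ∈ L) (hl' : l' ∈ L)
    (hlA : l' ∉ centralizer (A : Set G)) {s : G} (hs : s ∈ A) : ∃ t ∈ A, c l' t = c l s := by
  classical
  -- the coordinates of `[v, a]`
  subst hD
  have key : ∀ v ∈ L, ∀ a ∈ A, ∀ b : K, ActsSL M.e L ⊥ a (sg j (up b)) →
      c v a ∈ L ∧ M.e (c v a) = fun i => if i = j then ![b * M.e v j 1, 0] else 0 := by
    intro v hv a ha b hab
    have hav := h.memV (hAP ha) hv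
    have e1 : c v a = v * (a * v * a⁻¹)⁻¹ := by rw [c]; group
    have hm : c v a ∈ L := by
      rw [e1]
      exact mul_mem hv (inv_mem hav)
    refine ⟨hm, ?_⟩
    rw [e1, M.mul v hv _ (inv_mem hav), h.e_inv hav]
    funext i
    rw [Pi.add_apply, hab.1 v hv i]
    by_cases hij : i = j
    · subst hij
      rw [if_pos rfl, ThmB.sg_self]
      refine vec_eq ?_ ?_
      · rw [Pi.add_apply, ap_up_0, Matrix.cons_val_zero, ← add_assoc, CharTwo.add_self_eq_zero, zero_add]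
      · rw [Pi.add_apply, ap_up_1, CharTwo.add_self_eq_zero]
        rfl
    · rw [if_neg hij, ThmB.sg_ne hij, ap_one]
      funext z
      exact CharTwo.add_self_eq_zero _
  have hinj : ∀ v ∈ L, ∀ w ∈ L, M.e v = M.e w → v = w := by
    intro v hv w hw hvw
    exact mul_inv_eq_one.1 (mem_bot.1 ((h.mem_D hv hw).2 hvw))
  have hx : M.e l' j 1 ≠ 0 := by
    intro h0
    apply hlA
    refine mem_centralizer_iff.2 fun a ha => ?_
    obtain ⟨b, hb⟩ := h1 a ha
    obtain ⟨h3, h4⟩ := key l' hl' a ha b hb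
    have h5 : c l' a = 1 := by
      refine hinj _ h3 1 (one_mem _) ?_
      rw [h4, h0, mul_zero, Nb.e_one (M := M)]
      funext i
      split_ifs
      · exact vec_eq rfl rfl
      · rfl
    exact (NOThreeL.Low.Key.comm_of_c h5).symm
  obtain ⟨b, hb⟩ := h1 s hs
  obtain ⟨t, ht, htb⟩ := h2 (b * M.e l j 1 / M.e l' j 1)
  refine ⟨t, ht, ?_⟩
  obtain ⟨h3, h4⟩ := key l' hl' t ht _ htb
  obtain ⟨h5, h6⟩ := key l hl s hs b hb
  refine hinj _ h3 _ h5 ?_
  rw [h4, h6, div_mul_cancel₀ _ hx]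

end act

/-! ### `Ω₁(Z(S))` -/

section zc

variable {G : Type u} [Group G] [Finite G] {S : Sylow 2 G} {P Q : Subgroup G}

/-- `|Z| ≤ q` -/
theorem card_zc_nat (hc : IsCharacteristicTwoType G) (hP : IsParS (S : Subgroup G) P) {K : Type} [Field K] [Finite K]
    [CharP K 2] {k : ℕ} (hk : 0 < k) (M : NatKM K (S : Subgroup G) P (zl (S : Subgroup G) P) (cv (S : Subgroup G) P) k)
    (hcv : cv (S : Subgroup G) P = ⊥) : Nat.card (zc (S : Subgroup G)) ≤ Nat.card K := by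
  classical
  have h := ThmB.Inst.nb hc hP M
  have hZL := MinSimple.VModule.zc_le_zl (S : Subgroup G) P
  have hZS : ∀ z ∈ zc (S : Subgroup G), ∀ s ∈ (S : Subgroup G), s * z * s⁻¹ = z := fun z hz s hs => by
    rw [(MinSimple.VModule.mem_zc.1 hz).2.1 s hs, mul_inv_cancel_right]
  let i0 : Fin k := ⟨0, hk⟩
  -- `z` is determined by one coordinate
  have key : ∀ z ∈ zc (S : Subgroup G), M.e z i0 0 = 0 → z = 1 := by
    intro z hz h0
    have hone : ∀ i, M.e z i 1 = 0 := by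
      intro i
      obtain ⟨t, ht, htA⟩ := M.unip fun _ => 1
      have h1 := congrFun (htA.1 z (hZL hz) i) 0
      rw [hZS z hz t ht, ap_up_0, one_mul] at h1
      exact left_eq_add.1 h1
    have hz0 : M.e z i0 = 0 := vec_eq h0 (hone i0)
    have hall : M.e z = 0 := by
      funext j
      obtain ⟨t, ht, htj⟩ := M.trans i0 j
      have h1 := (htj z (hZL hz)).2 hz0
      rwa [hZS z hz t ht] at h1
    have h1 := (M.ker z (hZL hz)).1 hall
    rw [hcv] at h1
    exact mem_bot.1 h1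
  refine Nat.card_le_card_of_injective (fun z : zc (S : Subgroup G) => M.e z i0 0) fun z z' hzz => ?_
  have h1 : M.e ((z : G)⁻¹ * z') i0 0 = 0 := by
    rw [M.mul _ (inv_mem (hZL z.2)) _ (hZL z'.2), h.e_inv (hZL z.2), Pi.add_apply, Pi.add_apply]
    have h2 : M.e (z : G) i0 0 = M.e (z' : G) i0 0 := hzz
    rw [h2]
    exact CharTwo.add_self_eq_zero _
  exact Subtype.ext (inv_mul_eq_one.1 (key _ (mul_mem (inv_mem z.2) z'.2) h1))

/-- `|Z| ≤ 2` -/
theorem card_zc_sym (hc : IsCharacteristicTwoType G) (hP : IsParS (S : Subgroup G) P) {k m : ℕ} (hk : 0 < k)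
    (hm : 2 ≤ m) (M : SymKM (S : Subgroup G) P (zl (S : Subgroup G) P) (cv (S : Subgroup G) P) k m)
    (hcv : cv (S : Subgroup G) P = ⊥) : Nat.card (zc (S : Subgroup G)) ≤ 2 := by
  classical
  have h := ThmB.Inst.sb hc hP hm M
  have hmm := OneLine.minH hc hP
  have hs := OneLine.sy_of hmm M.toSymK hk (by omega) SQ1.FFOf.cv_le SQ1.FFOf.cv_norm
  have hZL := MinSimple.VModule.zc_le_zl (S : Subgroup G) P
  have hZS : ∀ z ∈ zc (S : Subgroup G), ∀ s ∈ (S : Subgroup G), s * z * s⁻¹ = z := fun z hz s hs => by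
    rw [(MinSimple.VModule.mem_zc.1 hz).2.1 s hs, mul_inv_cancel_right]
  let i0 : Fin k := ⟨0, hk⟩
  have h5 := h.five
  let x0 : Fin (2 ^ m + 1) := ⟨1, by omega⟩
  have hx0 : x0 ≠ 0 := by
    intro h1
    have := congrArg Fin.val h1
    simp [x0] at this
  have key : ∀ z ∈ zc (S : Subgroup G), M.e z i0 x0 = 0 → z = 1 := by
    intro z hz h0
    -- the block `i0`
    have h1 : ∀ x, x ≠ 0 → M.e z i0 x = 0 := by
      intro x hx
      obtain ⟨t, ht, π, htg, hπ⟩ := OneLine.cyc_T' hmm M.toSymK hs (by omega) i0 hx0 hx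
      have h2 := htg.act z (hZL hz) i0 x0
      rw [hZS z hz t ht, Equiv.Perm.one_apply, Pi.mulSingle_eq_same, hπ, h0] at h2
      exact h2
    have h2 : M.e z i0 0 = 0 := by
      have h3 := M.even z (hZL hz) i0
      rwa [Finset.sum_eq_single (0 : Fin (2 ^ m + 1)) (fun y _ hy => h1 y hy)
        (fun h4 => absurd (Finset.mem_univ _) h4)] at h3
    have hall : M.e z = 0 := by
      funext j x
      obtain ⟨t, ht, σ, τ, hστ, hσ⟩ := M.trans i0 j
      have h3 := hστ z (hZL hz) i0 ((τ i0)⁻¹ x)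
      rw [hZS z hz t ht, hσ, ThmB.pinv] at h3
      rw [h3]
      by_cases h4 : (τ i0)⁻¹ x = 0
      · rw [h4]; exact h2
      · exact h1 _ h4
    have h3 := (M.ker z (hZL hz)).1 hall
    rw [hcv] at h3
    exact mem_bot.1 h3
  have h6 : Nat.card (ZMod 2) = 2 := by rw [Nat.card_zmod]
  refine (Nat.card_le_card_of_injective (fun z : zc (S : Subgroup G) => M.e z i0 x0) fun z z' hzz => ?_).trans h6.le
  have h1 : M.e ((z : G)⁻¹ * z') i0 x0 = 0 := by
    rw [M.mul _ (inv_mem (hZL z.2)) _ (hZL z'.2), h.e_inv (hZL z.2), Pi.add_apply, Pi.add_apply]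
    have h2 : M.e (z : G) i0 x0 = M.e (z' : G) i0 x0 := hzz
    rw [h2]
    exact CharTwo.add_self_eq_zero _
  exact Subtype.ext (inv_mul_eq_one.1 (key _ (mul_mem (inv_mem z.2) z'.2) h1))

/-- a radical: `|Z| ≥ 4` -/
theorem four_le_zc (hc : IsCharacteristicTwoType G) (hQ : IsParS (S : Subgroup G) Q)
    (hcv : cv (S : Subgroup G) Q ≠ ⊥) : 4 ≤ Nat.card (zc (S : Subgroup G)) := by
  have hcvS : cv (S : Subgroup G) Q ≤ (S : Subgroup G) :=
    inf_le_left.trans ((hQ.isLoc.zl_le S hc).trans ((zc_le _).trans (hQ.isLoc.o2_le S)))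
  have hn : (S : Subgroup G) ≤ normalizer (cv (S : Subgroup G) Q : Set G) := hQ.le.trans ThmB.Inst.le_normalizer_cv
  obtain ⟨y, hy, hy1, hyS⟩ := OneLine.exists_fixed (S := (S : Subgroup G)) (M := ⊥) S.isPGroup' hcvS hn
    (fun h1 => hcv (le_bot_iff.1 h1))
  have hyZ : y ∈ zc (S : Subgroup G) := by
    refine MinSimple.VModule.mem_zc.2 ⟨hcvS hy, fun s hs => ?_, ?_⟩
    · exact mul_inv_eq_iff_eq_mul.1 (mul_inv_eq_one.1 (mem_bot.1 (hyS s hs)))
    · exact (ThmB.Inst.zl_el hc hQ).2 y hy.1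
  set X := zc (S : Subgroup G) ⊓ cv (S : Subgroup G) Q with hX
  have h1 : 2 ≤ Nat.card X := by
    have h2 : Nat.card X ≠ 1 := fun h3 => by
      have h4 := eq_bot_of_card_eq X h3
      have h5 : y ∈ X := mem_inf.2 ⟨hyZ, hy⟩
      rw [h4] at h5
      exact hy1 h5
    have h3 : 0 < Nat.card X := Nat.card_pos
    omega
  have h2 : X.relIndex (zc (S : Subgroup G)) ≠ 1 := fun h3 =>
    BetaFF.not_zc_le_cv hQ ((relIndex_eq_one.1 h3).trans inf_le_right)
  have h3 : X.relIndex (zc (S : Subgroup G)) ≠ 0 := index_ne_zero_of_finite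
  have h4 : 2 ≤ X.relIndex (zc (S : Subgroup G)) := by omega
  rw [← card_mul_relIndex' (inf_le_left : X ≤ zc (S : Subgroup G))]
  calc 4 = 2 * 2 := rfl
    _ ≤ _ := Nat.mul_le_mul h1 h4

end zc

/-! ### The KEY -/

section key

variable {G : Type u} [Group G] [Finite G] {S : Sylow 2 G} {P Q V F B : Subgroup G}

/-- **(C)**: `(S, P)` active, no radical ⟹ KEY. -/
theorem key_act (hFF : StmtM.{u}) (hA : BetaFF.Act S P V F) (bh : BH V F B) (hsq : ∀ b ∈ B, b ^ 2 = 1)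
    (hL : zl (S : Subgroup G) P ≤ V ⊓ B) (hQ : IsParS (S : Subgroup G) Q)
    (hlow : zl (S : Subgroup G) Q ≤ o2 (CZ (S : Subgroup G))) {g : G} (hg : g ∈ normalizer (V : Set G))
    (hBS : B ≤ MulAut.conj g • (S : Subgroup G)) (hUV : MulAut.conj g • zl (S : Subgroup G) Q ≤ V)
    (hUE : ¬ MulAut.conj g • zl (S : Subgroup G) Q ≤ EE V F) : Key V F B := by
  have hLF : ¬ zl (S : Subgroup G) P ≤ F := by
    intro h1
    apply hA.mov
    intro s hs
    rw [mem_centralizer_iff]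
    exact fun l hl => NOne.Flat.Hyp.F_comm (h1 hl) (NOne.Flat.Hyp.W_le_X hs)
  have hI : ¬ V ⊓ B ≤ F := fun h1 => hLF (hL.trans h1)
  rcases key_or hFF hA.char2 hQ hlow bh hsq hg hI hBS hUV hUE with h1 | ⟨h1, -, -, h4⟩
  · exact h1
  · have h5 := four_le_zc hA.char2 hQ h4
    rcases (hA.ff hFF).2 with ⟨K, fK, fiK, cK, k, hk, ⟨M⟩⟩ | ⟨k, m, hk, hm, ⟨M⟩⟩
    · have h6 := card_zc_nat hA.char2 hA.par hk M hA.cv
      have h := ThmB.Inst.nb hA.char2 hA.par M
      obtain ⟨-, -, h7, j, h8, h9⟩ := ns bh h (by omega) hL h1.le hA.WS hA.offM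
      refine key_of_root bh fun r hr hrF r' hr' hrF' s hs => ?_
      rw [← h7] at hr hr'
      have hF : F ≤ normalizer (zl (S : Subgroup G) P : Set G) := by
        have h11 : F ≤ centralizer (zl (S : Subgroup G) P : Set G) := fun f hf => mem_centralizer_iff.2 fun x hx =>
          bh.toHyp.V_comm (hL hx).1 (bh.toHyp.F_le_V hf)
        exact h11.trans (centralizer_le_normalizer _)
      obtain ⟨l, hl, f, hf, rfl⟩ := Pas.mem_sup_of_norm hF hr
      obtain ⟨l', hl', f', hf', rfl⟩ := Pas.mem_sup_of_norm hF hr'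
      have hcf : ∀ l f s : G, f ∈ F → s ∈ NOne.Flat.WW V F → c (l * f) s = c l s := by
        intro l f s hf hs
        have h12 : f * s = s * f := NOne.Flat.Hyp.F_comm hf (NOne.Flat.Hyp.W_le_X hs)
        rw [c, c]
        calc l * f * s * (l * f)⁻¹ * s⁻¹ = l * (f * s) * f⁻¹ * l⁻¹ * s⁻¹ := by group
          _ = l * (s * f) * f⁻¹ * l⁻¹ * s⁻¹ := by rw [h12]
          _ = _ := by group
      have hl'A : l' ∉ centralizer (NOne.Flat.WW V F : Set G) := by
        intro h12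
        apply hrF'
        have h13 : l' ∈ V ⊓ centralizer (NOne.Flat.WW V F : Set G) := ⟨(hL hl').1, h12⟩
        rw [bh.toHyp.cent_VW] at h13
        exact mul_mem h13 hf'
      obtain ⟨t, ht, hts⟩ := root_of_one hA.cv h hA.WP h8 h9 hl hl' hl'A hs
      refine ⟨t, ht, ?_⟩
      rw [hcf _ _ _ hf' ht, hcf _ _ _ hf hs, hts]
    · have h6 := card_zc_sym hA.char2 hA.par hk hm M hA.cv
      omega

/-- **KEY over 633's front** `Fr S M V F n`: bad line at distance `≤ n`, `(S, P)` active, `cv S P = 1`. -/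
theorem key_fr (hFF : StmtM.{u}) {M : Subgroup G} {n : ℕ} (f : NOThreeL.Low.Fr S M V F n) (w : WFr S M V F)
    (hP : IsParS (S : Subgroup G) P) (hcv : cv (S : Subgroup G) P = ⊥) (hact : ¬ NOne.Flat.WW V F ≤ o2 P)
    (hQ : IsParS (S : Subgroup G) Q) {j : ℕ} (hj : j ≤ n) {g : G}
    (hg : NOThreeL.Low.Ch M (S : Subgroup G) (NOne.Flat.WW V F) j g)
    (hUE : ¬ MulAut.conj g • zl (S : Subgroup G) Q ≤ EE V F) : Key V F (Pas.BL M (S : Subgroup G) V F n) :=
  key_act hFF (w.act hP hcv hact) (Pas.bh f) f.sup_sq (w.L_le_IN n hP) hQ (w.low Q hQ) (f.MV (f.mem_M hg))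
    (Pas.BL_le_conj f hj hg) (f.line_le_V (f.mem_M hg) hQ) hUE

end key

end Cfsg.Agent.Omega.NO3S.KeyRad

end

section


/-!
# GammaFF, (S1): the KEY with radicals, part 2: elements of natural modules

`M : NatKM K S P U D k`, `h : Nb M` (`D` the radical, `U / D` a sum of natural modules).

* `comm_of_fix` : a single factor `s` with `[U, s, s] = 1` which fixes the coordinate of `l ∈ U` centralises `l`;
* `cent_of_off` : an offender `A ≤ S` with `[U, A, A] = 1` centralises the elements `(ξ, 0)` of one block;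
* `conj_sg'` : the block of a conjugate;
* `exists_mem_inf` : `|V : E| < |K|` ⟹ some `w ∈ [U, L_i] ∩ E` has `(w i) 1 ≠ 0`;
* `lift_of_fixed` : if `1 ≠ x ∈ [U, W^r]`, `r ∈ P`, is centralised by `W^r` and by all `W^t`, `t ∈ S`, then `W^r` acts on `U`
  as elements of `⋃ W^t`.
-/

set_option autoImplicit false
set_option linter.unusedSectionVars false

namespace Cfsg.Agent.Omega.NO3S.SOne.KeyLe

open Subgroup Cfsg Cfsg.Agent.ZN Cfsg.Agent.ZN.ChoiceBase
open Cfsg.Agent.Omega.FFThm Cfsg.Agent.Omega.NatPair Cfsg.Agent.Lib.SL2Mat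
open Cfsg.Agent.Omega.NO3S.ThmB Cfsg.Agent.Omega.NO3S.KeyRad
open Cfsg.Agent.Omega.NoFF.Basic (conj_conj mem_conj conj_le_iff)
open scoped Pointwise

universe u

section mat

variable {K : Type} [Field K] [CharP K 2]

theorem add2 (x : Fin 2 → K) : x + x = 0 := by
  funext i
  exact CharTwo.add_self_eq_zero _

theorem eq_of_add2 {x y : Fin 2 → K} (h : x + y = 0) : x = y := by
  funext i
  exact CharTwo.add_eq_zero.1 (congrFun h i)

/-- two fixed vectors of `A ≠ 1` are proportional -/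
theorem exists_smul {A : Matrix.SpecialLinearGroup (Fin 2) K} (hA : A ≠ 1) {x y : Fin 2 → K} (hx : ap A x = x)
    (hy : ap A y = y) (hy0 : y ≠ 0) : ∃ c : K, x = c • y := by
  by_cases hd : x 0 * y 1 + x 1 * y 0 = 0
  · by_cases h0 : y 0 = 0
    · have h1 : y 1 ≠ 0 := fun h1 => hy0 (ext2 h0 h1)
      refine ⟨x 1 / y 1, ext2 ?_ ?_⟩
      · rw [h0, mul_zero, add_zero] at hd
        rw [Pi.smul_apply, smul_eq_mul, h0, mul_zero]
        exact (mul_eq_zero.1 hd).resolve_right h1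
      · rw [Pi.smul_apply, smul_eq_mul, div_mul_cancel₀ _ h1]
    · refine ⟨x 0 / y 0, ext2 ?_ ?_⟩
      · rw [Pi.smul_apply, smul_eq_mul, div_mul_cancel₀ _ h0]
      · rw [Pi.smul_apply, smul_eq_mul, div_mul_eq_mul_div, eq_div_iff h0]
        exact (CharTwo.add_eq_zero.1 hd).symm
  · exfalso
    apply hA
    apply ap_inj
    intro z
    set d := x 0 * y 1 + x 1 * y 0 with hdd
    have e : z = ((z 0 * y 1 + z 1 * y 0) / d) • x + ((x 0 * z 1 + x 1 * z 0) / d) • y := by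
      refine ext2 ?_ ?_
      · rw [Pi.add_apply, Pi.smul_apply, Pi.smul_apply, smul_eq_mul, smul_eq_mul, div_mul_eq_mul_div,
          div_mul_eq_mul_div, ← add_div, eq_div_iff hd, hdd]
        have h2 : (2 : K) = 0 := CharTwo.two_eq_zero
        linear_combination (-(z 1 * y 0 * x 0)) * h2
      · rw [Pi.add_apply, Pi.smul_apply, Pi.smul_apply, smul_eq_mul, smul_eq_mul, div_mul_eq_mul_div,
          div_mul_eq_mul_div, ← add_div, eq_div_iff hd, hdd]
        have h2 : (2 : K) = 0 := CharTwo.two_eq_zero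
        linear_combination (-(z 0 * y 1 * x 1)) * h2
    rw [NatPair.ap_one]
    conv_lhs => rw [e]
    rw [ap_add, ap_smul, ap_smul, hx, hy, ← e]

/-- a matrix fixing `(ξ, 0)`, `ξ ≠ 0`, is upper unitriangular -/
theorem exists_up_of_fix {A : Matrix.SpecialLinearGroup (Fin 2) K} {x : Fin 2 → K} (hx : ap A x = x) (h0 : x 0 ≠ 0)
    (h1 : x 1 = 0) : ∃ b : K, A = up b := by
  have e0 := congrFun hx 0
  have e1 := congrFun hx 1
  rw [ap_zero', h1, mul_zero, add_zero] at e0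
  rw [ap_one', h1, mul_zero, add_zero] at e1
  have a00 : ent A 0 0 = 1 := mul_right_cancel₀ h0 (by rw [e0, one_mul])
  have a10 : ent A 1 0 = 0 := (mul_eq_zero.1 e1).resolve_right h0
  have hdet := A.2
  rw [Matrix.det_fin_two] at hdet
  have a11 : ent A 1 1 = 1 := by
    have h2 : ent A 0 0 * ent A 1 1 - ent A 0 1 * ent A 1 0 = 1 := hdet
    rwa [a00, a10, one_mul, mul_zero, sub_zero] at h2
  refine ⟨ent A 0 1, ap_inj fun z => ext2 ?_ ?_⟩
  · rw [ap_zero', ap_up_0, a00, one_mul]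
  · rw [ap_one', ap_up_1, a10, a11, zero_mul, zero_add, one_mul]

end mat

variable {G : Type u} [Group G] [Finite G] {K : Type} [Field K] [Finite K] [CharP K 2] {S P U D : Subgroup G} {k : ℕ}
  {M : NatKM K S P U D k} (h : Nb M)
include h

/-- coordinates of `s v s⁻¹ v⁻¹` -/
theorem e_comm {s v : G} (hs : s ∈ P) {A : Fin k → Matrix.SpecialLinearGroup (Fin 2) K} (hA : ActsSL M.e U D s A)
    (hv : v ∈ U) (i : Fin k) : M.e (s * v * s⁻¹ * v⁻¹) i = ap (A i) (M.e v i) + M.e v i := by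
  rw [h.e_div (h.memV hs hv) hv, Pi.add_apply, hA.1 v hv i]

/-- **a single factor which fixes the coordinate of `l` centralises `l`** -/
theorem comm_of_fix {s : G} (hs : s ∈ P) {j : Fin k} {A : Matrix.SpecialLinearGroup (Fin 2) K}
    (hA : ActsSL M.e U D s (sg j A))
    (hq : ∀ v ∈ U, s * (s * v * s⁻¹ * v⁻¹) = s * v * s⁻¹ * v⁻¹ * s) {l : G} (hl : l ∈ U)
    (hf : ap A (M.e l j) = M.e l j) : s * l = l * s := by
  by_cases hA1 : A = 1
  · rw [hA1, sg_one] at hA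
    exact h.comm_of_one hs hA hl
  obtain ⟨y0, hy0⟩ : ∃ y0, ap A y0 ≠ y0 := by
    by_contra hcon
    push Not at hcon
    exact hA1 (ap_inj fun x => by rw [hcon x, NatPair.ap_one])
  have hz0 : ap A y0 + y0 ≠ 0 := fun h1 => hy0 (eq_of_add2 h1)
  have hcomm : ∀ v ∈ U, s * v * s⁻¹ * v⁻¹ ∈ U := fun v hv => mul_mem (h.memV hs hv) (inv_mem hv)
  -- `A` fixes `ap A y0 + y0`
  have hfz : ap A (ap A y0 + y0) = ap A y0 + y0 := by
    obtain ⟨v, hv, hvj, -⟩ := Nb.exists_single M j y0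
    have h1 := hq v hv
    have h2 : s * (s * v * s⁻¹ * v⁻¹) * s⁻¹ = s * v * s⁻¹ * v⁻¹ := by rw [h1, mul_inv_cancel_right]
    have h3 := hA.1 _ (hcomm v hv) j
    rw [h2, e_comm h hs hA hv, sg_self, hvj] at h3
    exact h3.symm
  obtain ⟨c, hc⟩ := exists_smul hA1 hf hfz hz0
  obtain ⟨v, hv, hvj, -⟩ := Nb.exists_single M j (c • y0)
  have h1 : M.e (s * v * s⁻¹ * v⁻¹) j = M.e l j := by
    rw [e_comm h hs hA hv, sg_self, hvj, hc, ap_smul, smul_add]
  have h2 : M.e (l * (s * v * s⁻¹ * v⁻¹)⁻¹) j = 0 := by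
    rw [h.e_div hl (hcomm v hv), Pi.add_apply, h1]
    exact add2 _
  have h3 := cent_sg h hs hA (mul_mem hl (inv_mem (hcomm v hv))) h2
  have h4 := (show Commute s _ from h3).mul_right (show Commute s _ from hq v hv)
  rwa [inv_mul_cancel_right] at h4

/-- **an offender centralises the elements `(ξ, 0)` of one block** -/
theorem cent_of_off {A : Subgroup G} (hA : A ≤ S) (hoff : OffM U A)
    (hq : ∀ v ∈ U, ∀ a ∈ A, ∀ a' ∈ A, a' * (a * v * a⁻¹ * v⁻¹) = a * v * a⁻¹ * v⁻¹ * a') {x : G} (hx : x ∈ U)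
    {i : Fin k} (hxi : M.e x i 1 = 0) (hxl : ∀ l, l ≠ i → M.e x l = 0) {a : G} (ha : a ∈ A) : a * x = x * a := by
  classical
  obtain ⟨I, -, h1, h2⟩ := exists_blocks h hA hoff
  obtain ⟨b, hb, hab⟩ := h1 a ha
  have haP : a ∈ P := h.SP' (hA ha)
  by_cases hi : i ∈ I
  · obtain ⟨a', ha', haA'⟩ := h2 (Function.update 0 i 1) (fun l hl => by
      rw [Function.update_of_ne (fun h3 => hl (by rw [h3]; exact hi))]; rfl)
    have haP' : a' ∈ P := h.SP' (hA ha')
    obtain ⟨v, hv, hvi, hvl⟩ := Nb.exists_single M i ![0, M.e x i 0]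
    have hy := mul_mem (h.memV haP' hv) (inv_mem hv)
    have hd : x * (a' * v * a'⁻¹ * v⁻¹)⁻¹ ∈ D := by
      rw [h.mem_D hx hy]
      funext l
      rw [e_comm h haP' haA' hv]
      by_cases hli : l = i
      · rw [hli, hvi]
        refine vec_eq ?_ ?_
        · rw [Pi.add_apply, ap_up_0, Function.update_self]
          simp
        · rw [Pi.add_apply, ap_up_1, hxi]
          exact (CharTwo.add_self_eq_zero _).symm
      · rw [hvl l hli, hxl l hli, ap_zr, add_zero]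
    have h3 : Commute a (x * (a' * v * a'⁻¹ * v⁻¹)⁻¹) := hab.2 _ hd
    have h4 : Commute a (a' * v * a'⁻¹ * v⁻¹) := hq v hv a' ha' a ha
    have h5 := h3.mul_right h4
    rwa [inv_mul_cancel_right] at h5
  · refine cent_off h haP hab hx fun l hl => hxl l fun hli => hl ?_
    rw [hli, hb i hi, up_zero]

/-- the block of a conjugate of a single factor -/
theorem conj_sg' {j : Fin k} {g c : G} {σ : Equiv.Perm (Fin k)} (hσ : Mv M g σ) (hg : g ∈ P) (hc : c ∈ P)
    {A : Matrix.SpecialLinearGroup (Fin 2) K} (hA : ActsSL M.e U D c (sg j A)) :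
    ∃ A', ActsSL M.e U D (g * c * g⁻¹) (sg (σ j) A') := by
  obtain ⟨B, hB⟩ := M.norm g hg c hc _ hA.1
  have hB1 : ∀ l, l ≠ σ j → B l = 1 := by
    intro l hl
    apply ap_inj
    intro x
    obtain ⟨v, hv, hvl, -⟩ := Nb.exists_single M l x
    have hu : g⁻¹ * v * g ∈ U := by
      have := h.memV (inv_mem hg) hv
      rwa [inv_inv] at this
    have m := mem_blk hc hA hu
    have e1 : g * c * g⁻¹ * v * (g * c * g⁻¹)⁻¹ =
        g * (c * (g⁻¹ * v * g) * c⁻¹ * (g⁻¹ * v * g)⁻¹ * (g⁻¹ * v * g)) * g⁻¹ := by group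
    have e2 : g * (g⁻¹ * v * g) * g⁻¹ = v := by group
    have h1 := hB v hv l
    rw [e1, e_conj_mul h hg (blk_le h j m) hu, Pi.add_apply, e2, hvl] at h1
    have h5 := hσ _ (blk_le h j m) (σ.symm l)
    rw [σ.apply_symm_apply] at h5
    rw [h5.2 (e_blk h (fun h6 => hl (by rw [← h6, σ.apply_symm_apply])) m), zero_add] at h1
    rw [← h1, NatPair.ap_one]
  refine ⟨B (σ j), ?_⟩
  rw [← eq_sg hB1]
  refine ⟨hB, fun d hd => ?_⟩
  have hd' : g⁻¹ * d * g ∈ D := by
    have := conj_mem h.DP' (inv_mem hg) hd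
    rwa [inv_inv] at this
  have h5 := hA.2 _ hd'
  calc g * c * g⁻¹ * d = g * (c * (g⁻¹ * d * g)) * g⁻¹ := by group
    _ = g * (g⁻¹ * d * g * c) * g⁻¹ := by rw [h5]
    _ = d * (g * c * g⁻¹) := by group

/-- `|V : E| < |K|` -/
theorem exists_mem_inf {V E : Subgroup G} (hUV : U ≤ V) (hlt : E.relIndex V < Nat.card K) (i : Fin k) :
    ∃ w ∈ blk M i, w ∈ E ∧ M.e w i 1 ≠ 0 := by
  classical
  by_contra hcon
  push Not at hcon
  have hX := blk_le h i
  have h1 : E.relIndex (blk M i) ≤ E.relIndex V :=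
    relIndex_le_of_le_right (hX.trans hUV) index_ne_zero_of_finite
  refine absurd (le_trans ?_ h1) (not_le.2 hlt)
  rw [relIndex, index_eq_card]
  choose v hv hve using fun x : K => exists_blk_e h i ![0, x]
  refine Nat.card_le_card_of_injective
    (fun x : K => (QuotientGroup.mk (⟨v x, hv x⟩ : blk M i) : blk M i ⧸ E.subgroupOf (blk M i))) ?_
  intro x y hxy
  have h2 : (v x)⁻¹ * v y ∈ E := by
    have h4 : (QuotientGroup.mk (⟨v x, hv x⟩ : blk M i) : blk M i ⧸ E.subgroupOf (blk M i)) =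
      QuotientGroup.mk ⟨v y, hv y⟩ := hxy
    rw [QuotientGroup.eq, mem_subgroupOf] at h4
    exact h4
  have h3 := hcon _ (mul_mem (inv_mem (hv x)) (hv y)) h2
  rw [M.mul _ (inv_mem (hX (hv x))) _ (hX (hv y)), h.e_inv (hX (hv x)), Pi.add_apply, Pi.add_apply, hve, hve] at h3
  simp only [Matrix.cons_val_one, Matrix.cons_val_fin_one] at h3
  exact CharTwo.add_eq_zero.1 h3

/-- `ActsSL` determines the family -/
theorem acts_inj {g : G} {A B : Fin k → Matrix.SpecialLinearGroup (Fin 2) K} (hA : ActsSL M.e U D g A)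
    (hB : ActsSL M.e U D g B) : A = B := by
  funext i
  refine ap_inj fun x => ?_
  obtain ⟨v, hv, hvi, -⟩ := Nb.exists_single M i x
  rw [← hvi, ← hA.1 v hv i, hB.1 v hv i]

/-- **`W^r` acts as elements of `⋃ W^t`, `t ∈ S`.** -/
theorem lift_of_fixed {W : Subgroup G} (hWS : W ≤ S) (hoff : OffM U W) {j0 : Fin k}
    (h1 : ∀ a ∈ W, ∃ b : K, ActsSL M.e U D a (sg j0 (up b)))
    (h2 : ∀ b : K, ∃ a ∈ W, ActsSL M.e U D a (sg j0 (up b))) {r : G} (hr : r ∈ P) {x : G} (hx : x ∈ U) (hx1 : x ≠ 1)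
    (hxs : ∀ t ∈ S, ∀ a ∈ W, t * a * t⁻¹ * x = x * (t * a * t⁻¹)) (hxr : ∀ a ∈ W, r * a * r⁻¹ * x = x * (r * a * r⁻¹))
    {l a0 : G} (hl : l ∈ U) (ha0 : a0 ∈ W) (hxl : x = r * a0 * r⁻¹ * l * (r * a0 * r⁻¹)⁻¹ * l⁻¹)
    (hq : ∀ v ∈ U, ∀ a ∈ W, r * a * r⁻¹ * (r * a * r⁻¹ * v * (r * a * r⁻¹)⁻¹ * v⁻¹) =
      r * a * r⁻¹ * v * (r * a * r⁻¹)⁻¹ * v⁻¹ * (r * a * r⁻¹)) :
    ∀ a ∈ W, ∃ t ∈ S, ∃ a' ∈ W, ∀ v ∈ U, (t * a' * t⁻¹)⁻¹ * (r * a * r⁻¹) * v = v * ((t * a' * t⁻¹)⁻¹ * (r * a * r⁻¹)) := by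
  classical
  have hWP : ∀ a ∈ W, a ∈ P := fun a ha => h.SP' (hWS ha)
  obtain ⟨σ, hσ⟩ := M.perm r hr
  set j1 := σ j0 with hj1
  have hact : ∀ a ∈ W, ∃ A', ActsSL M.e U D (r * a * r⁻¹) (sg j1 A') := by
    intro a ha
    obtain ⟨b, hb⟩ := h1 a ha
    exact conj_sg' h hσ hr (hWP a ha) hb
  -- `x` is in the block `j1` and not in `D`
  obtain ⟨A0, hA0⟩ := hact a0 ha0
  have hsP : r * a0 * r⁻¹ ∈ P := mul_mem (mul_mem hr (hWP a0 ha0)) (inv_mem hr)
  have hex : ∀ i, M.e x i = ap (sg j1 A0 i) (M.e l i) + M.e l i := fun i => by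
    rw [hxl]; exact e_comm h hsP hA0 hl i
  have hη : M.e x j1 ≠ 0 := by
    intro h0
    rw [hex j1, sg_self] at h0
    have h3 := comm_of_fix h hsP hA0 (fun v hv => hq v hv a0 ha0) hl (eq_of_add2 h0)
    apply hx1
    rw [hxl, h3]
    group
  -- an element of `S` which moves the block `j0` to `j1`
  obtain ⟨t, ht, htj⟩ := M.trans j0 j1
  have htP : t ∈ P := h.SP' ht
  obtain ⟨τ, hτ⟩ := M.perm t htP
  have hτj : τ j0 = j1 := by
    by_contra hne
    obtain ⟨v, hv, hvj, hvl⟩ := Nb.exists_single M j0 ![1, 0]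
    have h3 := (hτ v hv (τ.symm j1)).2 (hvl _ fun h4 => hne (by rw [← h4, τ.apply_symm_apply]))
    rw [τ.apply_symm_apply] at h3
    have h4 := (htj v hv).1 h3
    rw [hvj] at h4
    exact one_ne_zero (congrFun h4 0)
  have hUt : MulAut.conj t • U = U := NOne.Flat.conj_eq_of_norm (h.VP' htP)
  have hofft : OffM U (MulAut.conj t • W) := by
    have h3 := offM_conj hoff t
    rwa [hUt] at h3
  have hWt : MulAut.conj t • W ≤ S := by
    have h3 := conj_le_iff (g := t).2 hWS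
    rwa [NoFF.Basic.conj_self ht] at h3
  obtain ⟨I, -, h3, h4⟩ := exists_blocks h hWt hofft
  have hj1I : j1 ∈ I := by
    by_contra hnot
    obtain ⟨a, ha, haA⟩ := h2 1
    obtain ⟨A', hA'⟩ := conj_sg' h hτ htP (hWP a ha) haA
    rw [hτj] at hA'
    have hm : t * a * t⁻¹ ∈ MulAut.conj t • W := NOne.Frame.conj_mem ha
    obtain ⟨b, hb, hbA⟩ := h3 _ hm
    have h5 := acts_inj h hbA hA'
    have h6 : (fun i => up (b i)) = (1 : Fin k → Matrix.SpecialLinearGroup (Fin 2) K) := by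
      funext i
      by_cases hi : i = j1
      · rw [hi, hb j1 hnot, up_zero]; rfl
      · have h7 := congrFun h5 i
        rw [sg_ne hi] at h7
        exact h7
    rw [h6] at hbA
    -- then `a` centralises `U`
    obtain ⟨v, hv, hvj, -⟩ := Nb.exists_single M j0 ![0, 1]
    have h7 := h.comm_of_one (mul_mem (mul_mem htP (hWP a ha)) (inv_mem htP)) hbA (h.memV htP hv)
    have h8 : a * v * a⁻¹ = v := by
      have e1 : a * v * a⁻¹ = t⁻¹ * (t * a * t⁻¹ * (t * v * t⁻¹)) * (t * a⁻¹) := by group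
      rw [e1, h7]
      group
    have h9 := congrFun (haA.1 v hv j0) 0
    rw [h8, sg_self, ap_up_0, hvj] at h9
    simp at h9
  -- the elements of `W^t` which act as `up β` on the block `j1`
  have hful : ∀ β : K, ∃ a' ∈ W, ActsSL M.e U D (t * a' * t⁻¹) (sg j1 (up β)) := by
    intro β
    obtain ⟨y, hy, hyA⟩ := h4 (Function.update 0 j1 β) (fun l hl => by
      rw [Function.update_of_ne (fun h13 => hl (by rw [h13]; exact hj1I))]; rfl)
    have e1 : (fun i => up (Function.update (0 : Fin k → K) j1 β i)) = sg j1 (up β) := by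
      funext i
      by_cases hij : i = j1
      · rw [hij, Function.update_self, ThmB.sg_self]
      · rw [Function.update_of_ne hij, ThmB.sg_ne hij, Pi.zero_apply, up_zero]
    rw [e1] at hyA
    refine ⟨t⁻¹ * y * t, mem_conj.1 hy, ?_⟩
    have e2 : t * (t⁻¹ * y * t) * t⁻¹ = y := by group
    rwa [e2]
  have hη1 : M.e x j1 1 = 0 := by
    obtain ⟨a', ha', hA'⟩ := hful 1
    have h5 := hxs t ht a' ha'
    have h6 : t * a' * t⁻¹ * x * (t * a' * t⁻¹)⁻¹ = x := by rw [h5, mul_inv_cancel_right]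
    have h7 := congrFun (hA'.1 x hx j1) 0
    rw [h6, sg_self, ap_up_0, one_mul] at h7
    exact left_eq_add.1 h7
  have hη0 : M.e x j1 0 ≠ 0 := fun h0 => hη (ext2 h0 hη1)
  intro a ha
  obtain ⟨A', hA'⟩ := hact a ha
  have h5 : ap A' (M.e x j1) = M.e x j1 := by
    have h6 : r * a * r⁻¹ * x * (r * a * r⁻¹)⁻¹ = x := by rw [hxr a ha, mul_inv_cancel_right]
    have h7 := hA'.1 x hx j1
    rw [h6, sg_self] at h7
    exact h7.symm
  obtain ⟨β, rfl⟩ := exists_up_of_fix h5 hη0 hη1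
  obtain ⟨a', ha', hB⟩ := hful β
  refine ⟨t, ht, a', ha', fun v hv => ?_⟩
  have htaP : t * a' * t⁻¹ ∈ P := mul_mem (mul_mem htP (hWP a' ha')) (inv_mem htP)
  have hraP : r * a * r⁻¹ ∈ P := mul_mem (mul_mem hr (hWP a ha)) (inv_mem hr)
  have h6 := h.acts_mul hraP (h.acts_inv htaP hB) hA'
  rw [inv_mul_cancel] at h6
  exact h.comm_of_one (mul_mem (inv_mem htaP) hraP) h6 hv

end Cfsg.Agent.Omega.NO3S.SOne.KeyLe

end

section


/-!
# GammaFF, (S1): the KEY with radicals, part 3: the two configurations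

`KF S P R V F`; `BH V F B`, `I = V ∩ B = V_R F`, `W` acts on one block of the natural module `V_R`, as a full root group.

* `KF.false_far` : if the lines `V_R^(rp)`, `r ∈ R`, `p ∈ P`, lie in `I`, then `⟨Z^Y⟩ ≤ E`;
* `KF.false_near` : `|V : E| < |K|`, `V_P^x ≤ I` for `x ∈ R`, and `V_R^(gp) ≰ E`, `B ≤ S^(gp)` for some `g ∈ R`, `p ∈ P` is impossible.
-/

set_option autoImplicit false
set_option linter.unusedSectionVars false

namespace Cfsg.Agent.Omega.NO3S.SOne.KeyLe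

open Subgroup Cfsg Cfsg.Agent.ZN Cfsg.Agent.Omega.MinPar
open Cfsg.Agent.Omega.NOne.Flat (EE NN conj_eq_of_norm conj_centralizer WW_conj EE_conj o2_conj)
open Cfsg.Agent.Omega.NOne.NearFF (c c_def)
open Cfsg.Agent.Omega.NoFF.Basic (conj_conj mem_conj conj_le_iff conj_le_centralizer comm_symm V_le Z_le_V conj_V_mul)
open Cfsg.Agent.Omega.NOThreeL.Low.Key (BH)
open Cfsg.Agent.Omega.FFThm Cfsg.Agent.Omega.NatPair Cfsg.Agent.Lib.SL2Mat
open Cfsg.Agent.Omega.NO3S.ThmB (Nb sg sg_self sg_ne ap_up_0 ap_up_1 ap_zr)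
open Cfsg.Agent.Omega.NO3S.KeyRad
open Cfsg.Agent.Omega.FrameFF (cv)
open scoped Pointwise

universe u

variable {G : Type u} [Group G] [Finite G] {S : Sylow 2 G} {P R V F B : Subgroup G}

/-- `[E, W, W] = 1` -/
theorem quadE (h : NOne.Flat.Hyp V F) {e w w' : G} (he : e ∈ EE V F) (hw : w ∈ NOne.Flat.WW V F)
    (hw' : w' ∈ NOne.Flat.WW V F) : w' * (w * e * w⁻¹ * e⁻¹) = w * e * w⁻¹ * e⁻¹ * w' := by
  have h1 : w * e * w⁻¹ * e⁻¹ ∈ F := by
    have h2 := inv_mem (h.comm_EW he hw)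
    have e1 : (c e w)⁻¹ = w * e * w⁻¹ * e⁻¹ := by rw [c]; group
    rwa [e1] at h2
  exact (NOne.Flat.Hyp.F_comm h1 (NOne.Flat.Hyp.W_le_X hw')).symm

/-- conjugates of commuting elements -/
theorem comm_conj' {y a b : G} (h : y⁻¹ * a * y * (y⁻¹ * b * y) = y⁻¹ * b * y * (y⁻¹ * a * y)) : a * b = b * a := by
  calc a * b = y * (y⁻¹ * a * y * (y⁻¹ * b * y)) * y⁻¹ := by group
    _ = y * (y⁻¹ * b * y * (y⁻¹ * a * y)) * y⁻¹ := by rw [h]
    _ = b * a := by group

/-- `[L^y, W, W] = 1`, conjugated -/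
theorem quadE_conj (h : NOne.Flat.Hyp V F) {y : G} {L : Subgroup G} (hL : MulAut.conj y⁻¹ • L ≤ EE V F) {v a a' : G}
    (hv : v ∈ L) (ha : a ∈ MulAut.conj y • NOne.Flat.WW V F) (ha' : a' ∈ MulAut.conj y • NOne.Flat.WW V F) :
    a' * (a * v * a⁻¹ * v⁻¹) = a * v * a⁻¹ * v⁻¹ * a' := by
  rw [mem_conj] at ha ha'
  have hv' : y⁻¹ * v * y ∈ EE V F := hL (by
    rw [mem_conj]
    have e : y⁻¹⁻¹ * (y⁻¹ * v * y) * y⁻¹ = v := by group
    rwa [e])
  have h1 := quadE h hv' ha ha'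
  apply comm_conj' (y := y)
  have e : y⁻¹ * (a * v * a⁻¹ * v⁻¹) * y = y⁻¹ * a * y * (y⁻¹ * v * y) * (y⁻¹ * a * y)⁻¹ * (y⁻¹ * v * y)⁻¹ := by group
  rw [e]
  exact h1

namespace KF

variable (h : KF S P R V F)
include h

theorem YV : P ⊔ R ≤ normalizer (V : Set G) := sup_le h.PV h.RV

theorem o2P_le_S : o2 P ≤ (S : Subgroup G) := by rw [← h.o2P_eq]; exact inf_le_left

/-- `V_R`-commutators of elements of `I = V_R F` -/
theorem c_mem (hLF : zl (S : Subgroup G) R ⊔ F = V ⊓ B) {v w : G} (hv : v ∈ V ⊓ B) (hw : w ∈ NOne.Flat.WW V F) :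
    c v w ∈ zl (S : Subgroup G) R := by
  rw [← hLF] at hv
  have hF : F ≤ normalizer (zl (S : Subgroup G) R : Set G) := by
    have h11 : F ≤ centralizer (zl (S : Subgroup G) R : Set G) := fun f hf => mem_centralizer_iff.2 fun x hx =>
      h.hyp.V_comm (h.L_le_V hx) (h.hyp.F_le_V hf)
    exact h11.trans (centralizer_le_normalizer _)
  obtain ⟨l, hl, f, hf, rfl⟩ := Pas.mem_sup_of_norm hF hv
  have h12 : f * w = w * f := NOne.Flat.Hyp.F_comm hf (NOne.Flat.Hyp.W_le_X hw)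
  have e : c (l * f) w = l * (w * l⁻¹ * w⁻¹) := by
    rw [c_def]
    calc l * f * w * (l * f)⁻¹ * w⁻¹ = l * (f * w) * f⁻¹ * l⁻¹ * w⁻¹ := by group
      _ = l * (w * f) * f⁻¹ * l⁻¹ * w⁻¹ := by rw [h12]
      _ = _ := by group
  rw [e]
  exact mul_mem hl (h.RL (h.WR hw) (inv_mem hl))

/-- **distance at least 3** -/
theorem false_far (hLF : zl (S : Subgroup G) R ⊔ F = V ⊓ B)
    (hl2 : ∀ r ∈ R, ∀ p ∈ P, MulAut.conj (r * p) • zl (S : Subgroup G) R ≤ V ⊓ B)
    (hE : ∀ p ∈ P, MulAut.conj p • zl (S : Subgroup G) R ≤ EE V F) : zl (S : Subgroup G) (P ⊔ R) ≤ EE V F := by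
  set U := NoFF.Basic.V (zl (S : Subgroup G) R) P with hU
  have hLU : zl (S : Subgroup G) R ≤ U := by
    have h1 := Z_le_V (Z := zl (S : Subgroup G) R) (one_mem P)
    rwa [map_one, one_smul] at h1
  have hPU : P ≤ normalizer (U : Set G) := by
    have h1 : ∀ p ∈ P, ∀ u ∈ U, p * u * p⁻¹ ∈ U := by
      intro p hp u hu
      have h2 := conj_V_mul (Z := zl (S : Subgroup G) R) (g := 1) hp
      rw [one_mul, map_one, one_smul] at h2
      rw [hU, ← h2, mem_conj]
      have e : p⁻¹ * (p * u * p⁻¹) * p = u := by group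
      rwa [e]
    intro p hp
    refine mem_normalizer_iff.2 fun u => ⟨h1 p hp u, fun hu => ?_⟩
    have h2 := h1 p⁻¹ (inv_mem hp) _ hu
    have e : p⁻¹ * (p * u * p⁻¹) * p⁻¹⁻¹ = u := by group
    rwa [e] at h2
  have hRU : R ≤ normalizer (U : Set G) := by
    rw [← h.L0_sup]
    refine sup_le (V_le fun r hr => ?_) (h.SP.trans hPU)
    have h1 : ∀ y ∈ MulAut.conj r • NOne.Flat.WW V F, ∀ u ∈ U, y * u * y⁻¹ ∈ U := by
      intro y hy u hu
      have hle : U ≤ U.comap (MulAut.conj y).toMonoidHom := by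
        refine V_le fun p hp => ?_
        intro v hv
        rw [mem_comap]
        change y * v * y⁻¹ ∈ U
        have hv' : r⁻¹ * v * r ∈ V ⊓ B := by
          refine hl2 r⁻¹ (inv_mem hr) p hp ?_
          rw [← conj_conj, mem_conj]
          have e : r⁻¹⁻¹ * (r⁻¹ * v * r) * r⁻¹ = v := by group
          rwa [e]
        have h2 := h.RL hr (h.c_mem hLF hv' (mem_conj.1 hy))
        have e : y * v * y⁻¹ = (r * c (r⁻¹ * v * r) (r⁻¹ * y * r) * r⁻¹)⁻¹ * v := by rw [c_def]; group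
        rw [e]
        exact mul_mem (inv_mem (hLU h2)) (Z_le_V hp hv)
      exact hle hu
    intro y hy
    refine mem_normalizer_iff.2 fun u => ⟨h1 y hy u, fun hu => ?_⟩
    have h2 := h1 y⁻¹ (inv_mem hy) _ hu
    have e : y⁻¹ * (y * u * y⁻¹) * y⁻¹⁻¹ = u := by group
    rwa [e] at h2
  have h3 : zl (S : Subgroup G) (P ⊔ R) ≤ U :=
    MinSimple.VModule.zl_le ((MinSimple.VModule.zc_le_zl _ _).trans hLU) (sup_le hPU hRU)
  exact h3.trans (V_le fun p hp => hE p hp)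

/-- a conjugate `W^y ≤ S` centralises the elements `(ξ, 0)` of one block -/
theorem cent_elem {K : Type} [Field K] [Finite K] [CharP K 2] {k : ℕ}
    (M : NatKM K (S : Subgroup G) R (zl (S : Subgroup G) R) (cv (S : Subgroup G) R) k)
    (hL0 : ∀ y ∈ P ⊔ R, NOne.Flat.WW V F ≤ MulAut.conj y • (S : Subgroup G) →
      MulAut.conj y • zl (S : Subgroup G) R ≤ EE V F) {x : G} (hx : x ∈ zl (S : Subgroup G) R)
    {i : Fin k} (hxi : M.e x i 1 = 0) (hxl : ∀ l, l ≠ i → M.e x l = 0) {y : G} (hy : y ∈ P ⊔ R)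
    (hyS : MulAut.conj y • NOne.Flat.WW V F ≤ (S : Subgroup G)) {a : G} (ha : a ∈ MulAut.conj y • NOne.Flat.WW V F) :
    a * x = x * a := by
  have nb := ThmB.Inst.nb h.hc h.hR M
  by_cases hm : MulAut.conj y • NOne.Flat.WW V F ≤ centralizer (zl (S : Subgroup G) R : Set G)
  · exact (mem_centralizer_iff.1 (hm ha) x hx).symm
  · have hE := hL0 y⁻¹ (inv_mem hy) (by rw [le_conj_iff, inv_inv]; exact hyS)
    have hmv : ¬ NOne.Flat.WW V F ≤ centralizer ((MulAut.conj y⁻¹ • zl (S : Subgroup G) R : Subgroup G) : Set G) := by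
      intro h1
      apply hm
      have h2 := conj_le_centralizer (g := y) h1
      rwa [conj_smul_inv] at h2
    have h1 := offM_conj (offM_of_le h.hyp hE hmv) y
    rw [conj_smul_inv] at h1
    exact cent_of_off nb hyS h1 (fun v hv a ha a' ha' => quadE_conj h.hyp hE hv ha ha') hx hxi hxl ha

/-- **distance 2** -/
theorem false_near {K : Type} [Field K] [Finite K] [CharP K 2] {k : ℕ}
    (M : NatKM K (S : Subgroup G) R (zl (S : Subgroup G) R) (cv (S : Subgroup G) R) k)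
    (hlt : (EE V F).relIndex V < Nat.card K) (bh : BH V F B) (hsq : ∀ b ∈ B, b ^ 2 = 1)
    (hLF : zl (S : Subgroup G) R ⊔ F = V ⊓ B) (hi : 2 < F.relIndex (V ⊓ B)) {j0 : Fin k}
    (h1 : ∀ a ∈ NOne.Flat.WW V F, ∃ b : K, ActsSL M.e (zl (S : Subgroup G) R) (cv (S : Subgroup G) R) a (sg j0 (up b)))
    (h2 : ∀ b : K, ∃ a ∈ NOne.Flat.WW V F, ActsSL M.e (zl (S : Subgroup G) R) (cv (S : Subgroup G) R) a (sg j0 (up b)))
    (hL0 : ∀ y ∈ P ⊔ R, NOne.Flat.WW V F ≤ MulAut.conj y • (S : Subgroup G) →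
      MulAut.conj y • zl (S : Subgroup G) R ≤ EE V F)
    (hPl : ∀ x ∈ R, MulAut.conj x • zl (S : Subgroup G) P ≤ V ⊓ B)
    {g p : G} (hg : g ∈ R) (hp : p ∈ P) (hBS : B ≤ MulAut.conj (g * p) • (S : Subgroup G))
    (hbad : ¬ MulAut.conj (g * p) • zl (S : Subgroup G) R ≤ EE V F)
    (hcz : zc (S : Subgroup G) ⊓ centralizer (R : Set G) ≠ ⊥) : False := by
  classical
  have nb := ThmB.Inst.nb h.hc h.hR M
  have hgp : g * p ∈ P ⊔ R := mul_mem ((le_sup_right : R ≤ P ⊔ R) hg) ((le_sup_left : P ≤ P ⊔ R) hp)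
  have hy' : (g * p)⁻¹ ∈ normalizer (V : Set G) := h.YV (inv_mem hgp)
  have hg' : g⁻¹ ∈ normalizer (V : Set G) := h.RV (inv_mem hg)
  -- the groups at the bad chamber
  have bh2 := bh.conj hy'
  have eE2 : EE V (MulAut.conj (g * p)⁻¹ • F) = MulAut.conj (g * p)⁻¹ • EE V F := (EE_conj hy').symm
  have eV2 : MulAut.conj (g * p)⁻¹ • V = V := conj_eq_of_norm hy'
  have eI2 : V ⊓ MulAut.conj (g * p)⁻¹ • B = MulAut.conj (g * p)⁻¹ • (V ⊓ B) := by rw [Subgroup.smul_inf, eV2]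
  have hi2 : 2 < (MulAut.conj (g * p)⁻¹ • F).relIndex (V ⊓ MulAut.conj (g * p)⁻¹ • B) := by
    rw [eI2, relIndex_pointwise_smul]; exact hi
  have hI2 : ¬ V ⊓ MulAut.conj (g * p)⁻¹ • B ≤ MulAut.conj (g * p)⁻¹ • F := by
    intro h3
    rw [relIndex_eq_one.2 h3] at hi2
    omega
  have hBS2 : MulAut.conj (g * p)⁻¹ • B ≤ (S : Subgroup G) := le_conj_iff.1 hBS
  have hsq2 : ∀ b ∈ MulAut.conj (g * p)⁻¹ • B, b ^ 2 = 1 := by
    intro b hb
    rw [mem_conj, inv_inv] at hb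
    have h3 := hsq _ hb
    have e : b ^ 2 = (g * p)⁻¹ * (g * p * b * (g * p)⁻¹) ^ 2 * (g * p) := by rw [pow_two, pow_two]; group
    rw [e, h3]
    group
  have hUE2 : ¬ zl (S : Subgroup G) R ≤ EE V (MulAut.conj (g * p)⁻¹ • F) := by
    intro h3
    apply hbad
    rw [eE2, le_conj_iff, inv_inv] at h3
    exact h3
  have q := qb' bh2 hsq2 hBS2 h.L_le_V hi2
  -- the bad block
  have hZE : zc (S : Subgroup G) ≤ EE V (MulAut.conj (g * p)⁻¹ • F) := fun z hz =>
    mem_E_of_comm bh2 hI2 (h.ZV hz) fun b hb => (ChoiceBase.mem_zc.1 hz).2.2 b (hBS2 hb)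
  obtain ⟨i, hbi⟩ := exists_blk nb (MinSimple.VModule.zc_le_zl (S : Subgroup G) R)
    (fun z hz s hs => (ChoiceBase.mem_zc.1 hz).2.2 s hs)
    (fun X hX hn => MinSimple.VModule.zl_le hX hn) hZE hUE2
  have hlt2 : (EE V (MulAut.conj (g * p)⁻¹ • F)).relIndex V < Nat.card K := by
    have e : (EE V (MulAut.conj (g * p)⁻¹ • F)).relIndex V = (EE V F).relIndex V := by
      conv_lhs => rw [eE2, ← eV2]
      rw [relIndex_pointwise_smul, eV2]
    rw [e]; exact hlt
  obtain ⟨w, hwX, hwE, hw1⟩ := exists_mem_inf nb h.L_le_V hlt2 i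
  have hwL := blk_le nb i hwX
  obtain ⟨b, hb, hbN⟩ := bh2.exists_not_mem_NN hI2
  obtain ⟨β, hβ⟩ := exists_up nb q hbi hb
  have hbR : b ∈ R := h.SR (hBS2 hb)
  have hβ0 : β ≠ 0 := by
    intro h0
    obtain ⟨w0, hw0, hw0E⟩ := SetLike.not_le_iff_exists.1 hbi
    have h3 := eq_lift nb q (A := up β) hbR (one_mem R) hβ (fun v hv => by
      rw [one_mul, inv_one, mul_one, h0, up_zero, NatPair.ap_one]) hw0
    rw [one_mul, inv_one, mul_one] at h3
    refine hbN (bh2.mem_NN_of_c (h.L_le_V (blk_le nb i hw0)) hw0E hb ?_)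
    have h4 : c w0 b = 1 := NOThreeL.Low.Key.c_eq_one' (mul_inv_eq_iff_eq_mul.1 h3).symm
    rw [h4]
    exact one_mem _
  -- the element `x₂`
  have hx2L : c w b ∈ zl (S : Subgroup G) R := by
    have e : c w b = (b * w * b⁻¹ * w⁻¹)⁻¹ := by rw [c]; group
    rw [e]
    exact inv_mem (mul_mem (h.RL hbR hwL) (inv_mem hwL))
  have hex2 : M.e (c w b) = M.e (b * w * b⁻¹) + M.e w := by
    have e : c w b = (b * w * b⁻¹ * w⁻¹)⁻¹ := by rw [c]; group
    rw [e, nb.e_inv (mul_mem (h.RL hbR hwL) (inv_mem hwL)), nb.e_div (h.RL hbR hwL) hwL]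
  have hx20 : M.e (c w b) i 0 = β * M.e w i 1 := by
    rw [hex2, Pi.add_apply, Pi.add_apply, hβ w hwL, ap_up_0, add_right_comm, CharTwo.add_self_eq_zero, zero_add]
  have hx21 : M.e (c w b) i 1 = 0 := by
    rw [hex2, Pi.add_apply, Pi.add_apply, hβ w hwL, ap_up_1]
    exact CharTwo.add_self_eq_zero _
  have hx2l : ∀ l, l ≠ i → M.e (c w b) l = 0 := by
    intro l hl
    obtain ⟨σ, hσ⟩ := M.perm b hbR
    have hσi := fix nb q hbi hb hσ
    have h3 := (hσ w hwL (σ.symm l)).2 (e_blk nb (fun h4 => hl (by rw [← hσi, ← h4, σ.apply_symm_apply])) hwX)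
    rw [σ.apply_symm_apply] at h3
    rw [hex2, Pi.add_apply, h3, e_blk nb hl hwX, add_zero]
  have hx2n : c w b ≠ 1 := by
    intro h3
    rw [h3, Nb.e_one (M := M)] at hx20
    exact mul_ne_zero hβ0 hw1 hx20.symm
  have hcent := fun {y : G} (hy : y ∈ P ⊔ R) (hyS : MulAut.conj y • NOne.Flat.WW V F ≤ (S : Subgroup G)) {a : G}
    (ha : a ∈ MulAut.conj y • NOne.Flat.WW V F) => h.cent_elem M hL0 hx2L hx21 hx2l hy hyS ha
  -- the groups at the chamber `g`
  have bh1 := bh.conj hg'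
  have eE1 : EE V (MulAut.conj g⁻¹ • F) = MulAut.conj g⁻¹ • EE V F := (EE_conj hg').symm
  have eV1 : MulAut.conj g⁻¹ • V = V := conj_eq_of_norm hg'
  have eL1 : MulAut.conj g⁻¹ • zl (S : Subgroup G) R = zl (S : Subgroup G) R :=
    conj_eq_of_norm (MinSimple.VModule.le_normalizer_zl _ _ (inv_mem hg))
  have eI1 : V ⊓ MulAut.conj g⁻¹ • B = zl (S : Subgroup G) R ⊔ MulAut.conj g⁻¹ • F := by
    have h3 : V ⊓ MulAut.conj g⁻¹ • B = MulAut.conj g⁻¹ • (V ⊓ B) := by rw [Subgroup.smul_inf, eV1]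
    rw [h3, ← hLF, Subgroup.smul_sup, eL1]
  have eW1 : NOne.Flat.WW V (MulAut.conj g⁻¹ • F) = MulAut.conj g⁻¹ • NOne.Flat.WW V F := (WW_conj hg').symm
  have he1 : p * w * p⁻¹ ∈ EE V (MulAut.conj g⁻¹ • F) := by
    rw [eE2, mem_conj, inv_inv] at hwE
    rw [eE1, mem_conj, inv_inv]
    have e : g * (p * w * p⁻¹) * g⁻¹ = g * p * w * (g * p)⁻¹ := by group
    rwa [e]
  have hb1 : p * b * p⁻¹ ∈ MulAut.conj g⁻¹ • B := by
    rw [mem_conj, inv_inv] at hb
    rw [mem_conj, inv_inv]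
    have e : g * (p * b * p⁻¹) * g⁻¹ = g * p * b * (g * p)⁻¹ := by group
    rwa [e]
  obtain ⟨w0, hw0, hw0E⟩ := bh1.toHyp.exists_not_mem
  have hr0 := bh1.c_memI hw0 hb1
  have hxc : c (p * w * p⁻¹) (p * b * p⁻¹) = p * c w b * p⁻¹ := by rw [c, c]; group
  obtain ⟨s, hs, hsx⟩ := (root_of bh1 hw0 hw0E hr0 hb1 (by rw [inv_mul_cancel]; exact one_mem _)
    (p * c w b * p⁻¹)).2 ⟨_, he1, hxc⟩
  set x := p * c w b * p⁻¹ with hxd
  set r0 := c w0 (p * b * p⁻¹) with hr0d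
  -- `x = [l, s]` with `l ∈ V_R`
  have hr0' := hr0
  rw [eI1] at hr0'
  have hF1 : MulAut.conj g⁻¹ • F ≤ normalizer (zl (S : Subgroup G) R : Set G) := by
    have h11 : MulAut.conj g⁻¹ • F ≤ centralizer (zl (S : Subgroup G) R : Set G) := fun f hf =>
      mem_centralizer_iff.2 fun x hx => h.hyp.V_comm (h.L_le_V hx) (bh1.toHyp.F_le_V hf)
    exact h11.trans (centralizer_le_normalizer _)
  obtain ⟨l, hl, f, hf, hlf⟩ := Pas.mem_sup_of_norm hF1 hr0'
  have hxl : x = l * s * l⁻¹ * s⁻¹ := by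
    have h12 : f * s = s * f := NOne.Flat.Hyp.F_comm hf (NOne.Flat.Hyp.W_le_X hs)
    rw [← hsx, ← hlf, c_def]
    calc l * f * s * (l * f)⁻¹ * s⁻¹ = l * (f * s) * f⁻¹ * l⁻¹ * s⁻¹ := by group
      _ = l * (s * f) * f⁻¹ * l⁻¹ * s⁻¹ := by rw [h12]
      _ = _ := by group
  have hs1 : s ∈ MulAut.conj g⁻¹ • NOne.Flat.WW V F := by rw [← eW1]; exact hs
  have hsW : g * s * g⁻¹ ∈ NOne.Flat.WW V F := by
    rw [mem_conj, inv_inv] at hs1
    exact hs1
  have hsR : s ∈ R := by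
    have h3 := mul_mem (mul_mem (inv_mem hg) (h.WR hsW)) hg
    have e : g⁻¹ * (g * s * g⁻¹) * g = s := by group
    rwa [e] at h3
  have hxL : x ∈ zl (S : Subgroup G) R := by
    have e : l * s * l⁻¹ * s⁻¹ = l * (s * l⁻¹ * s⁻¹) := by group
    rw [hxl, e]
    exact mul_mem hl (h.RL hsR (inv_mem hl))
  have hx1 : x ≠ 1 := by
    intro h3
    apply hx2n
    have e : c w b = p⁻¹ * x * p := by rw [hxd]; group
    rw [e, h3]
    group
  -- passivity
  have hWP : NOne.Flat.WW V F ≤ o2 P := by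
    have h3 := h.pas 1 (one_mem _) (by rw [map_one, one_smul]; exact h.WS)
    rwa [map_one, one_smul] at h3
  have hxs : ∀ t ∈ (S : Subgroup G), ∀ a ∈ NOne.Flat.WW V F, t * a * t⁻¹ * x = x * (t * a * t⁻¹) := by
    intro t ht a ha
    have hpt : p⁻¹ * t ∈ P := mul_mem (inv_mem hp) (h.SP ht)
    have h3 : MulAut.conj (p⁻¹ * t) • NOne.Flat.WW V F ≤ (S : Subgroup G) := by
      have h4 := conj_le_iff (g := p⁻¹ * t).2 hWP
      rw [conj_eq_of_norm (MinSimple.VModule.le_normalizer_o2 P hpt)] at h4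
      exact h4.trans h.o2P_le_S
    have h4 : p⁻¹ * (t * a * t⁻¹) * p ∈ MulAut.conj (p⁻¹ * t) • NOne.Flat.WW V F := by
      rw [mem_conj]
      have e : (p⁻¹ * t)⁻¹ * (p⁻¹ * (t * a * t⁻¹) * p) * (p⁻¹ * t) = a := by group
      rwa [e]
    have h5 := hcent ((le_sup_left : P ≤ P ⊔ R) hpt) h3 h4
    apply comm_conj' (y := p)
    have e : p⁻¹ * x * p = c w b := by rw [hxd]; group
    rw [e]
    exact h5
  -- `W'` centralises `x`
  have hxr : ∀ a ∈ NOne.Flat.WW V F, g⁻¹ * a * g⁻¹⁻¹ * x = x * (g⁻¹ * a * g⁻¹⁻¹) := by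
    intro a ha
    have h3 : g⁻¹ * a * g⁻¹⁻¹ ∈ NOne.Flat.WW V (MulAut.conj g⁻¹ • F) := by
      rw [eW1]
      exact NOne.Frame.conj_mem ha
    have h4 : x ∈ MulAut.conj g⁻¹ • F := by
      rw [← hsx]
      exact bh1.toHyp.comm_EW (bh1.I_le_E hr0) hs
    exact (NOne.Flat.Hyp.F_comm h4 (NOne.Flat.Hyp.W_le_X h3)).symm
  -- `W` on `V_R`
  have hLE : zl (S : Subgroup G) R ≤ EE V F := by
    have h3 := hL0 1 (one_mem _) (by rw [map_one, one_smul]; exact h.WS)
    rwa [map_one, one_smul] at h3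
  have hmv : ¬ NOne.Flat.WW V F ≤ centralizer (zl (S : Subgroup G) R : Set G) := fun h3 => h.act (by
    rw [← h.o2R_eq]; exact le_inf h.WS h3)
  have hoff := offM_of_le h.hyp hLE hmv
  have hres := lift_of_fixed nb h.WS hoff h1 h2 (inv_mem hg) hxL hx1 hxs hxr hl hsW (by
      have e : g⁻¹ * (g * s * g⁻¹) * g⁻¹⁻¹ = s := by group
      rw [e, ← nb.inv_eq hxL, hxl]
      group) (fun v hv a ha => quadE_conj h.hyp (y := g⁻¹) (L := zl (S : Subgroup G) R) (by
        rw [conj_eq_of_norm (MinSimple.VModule.le_normalizer_zl _ _ (inv_mem (inv_mem hg)))]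
        exact hLE) hv (NOne.Frame.conj_mem ha) (NOne.Frame.conj_mem ha))
  refine h.false_of (fun x hx v hv w hw => h.c_mem hLF (hPl x hx hv) hw) hg hp ?_ hcz ?_
  · intro w' hw'
    have hw'' := hw'
    rw [mem_conj] at hw''
    obtain ⟨t, ht, a', ha', h3⟩ := hres _ hw''
    have e : g⁻¹ * (g⁻¹⁻¹ * w' * g⁻¹) * g⁻¹⁻¹ = w' := by group
    rw [e] at h3
    refine ⟨t * a' * t⁻¹, mul_mem (mul_mem ht (h.WS ha')) (inv_mem ht),
      Z_le_V (h.SR ht) (NOne.Frame.conj_mem ha'), mem_centralizer_iff.2 fun v hv => (h3 v hv).symm⟩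
  · intro h3
    apply hbad
    rw [eE1, le_conj_iff, inv_inv, conj_conj] at h3
    exact h3

end KF

end Cfsg.Agent.Omega.NO3S.SOne.KeyLe

end

section


/-!
# GammaFF, ACT (0): modules with radical

`U = V_R`, `D = C_U(O²(R))` arbitrary (`U` split over `D` or not), `A ≤ S` an offender on `U` which centralises `D`,
with `[r, A] = Π` (as sets) for all `r ∈ U - C(A)` (`RA S D U A Π`).

* `KD P D U` : the elements of `P` which centralise `D` and `U / D`; `ker` : `S ∩ KD ≤ C(U)`;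
* natural^k : `exists_block`, `Ro.supp` (`Π ∩ D = 1`), `Ro.le`, `inf_eq_bot_nat` : `⟨Π^S⟩ ∩ D = 1`;
* `S_n^k` : `exists_tr`, `Tr.supp`, `Tr.le`, `Tr.uniq`, `inf_eq_bot_sym` : `⟨Π^S⟩ ∩ D = 1`;
* `WFr.act_cv` **(ACT (0))** : if one active type has `C_Z(P) = 1`, then all have.
-/

set_option autoImplicit false
set_option linter.unusedSectionVars false

namespace Cfsg.Agent.Omega.NO3S.Pas.AZ

open Subgroup Cfsg Cfsg.Agent.ZN Cfsg.Agent.Omega.MinPar
open Cfsg.Agent.Omega.NoFF.Basic (conj_conj mem_conj conj_le_iff comm_symm)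
open Cfsg.Agent.Omega.FFThm (ElemM OffM NatKM NatK SymKM SymK ActsSL ActsSym)
open Cfsg.Agent.Omega.FrameFF (cv)
open Cfsg.Agent.MinSimple.VModule (oddGen oddGen_def mem_oddGen oddGen_le oddGen_le_of_sup le_normalizer_oddGen)
open scoped Pointwise

universe u

variable {G : Type u} [Group G]

/-! ### The kernel -/

/-- the elements of `P` which centralise `D` and `U / D` -/
def KD (P D U : Subgroup G) : Subgroup G where
  carrier := {g | g ∈ P ∧ (∀ d ∈ D, g * d = d * g) ∧ ∀ v ∈ U, g * v * g⁻¹ * v⁻¹ ∈ D}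
  one_mem' := ⟨one_mem _, fun d _ => by rw [one_mul, mul_one], fun v _ => by
    rw [one_mul, inv_one, mul_one, mul_inv_cancel]; exact one_mem _⟩
  mul_mem' := by
    rintro g h ⟨hg, hg1, hg2⟩ ⟨hh, hh1, hh2⟩
    refine ⟨mul_mem hg hh, fun d hd => by rw [mul_assoc, hh1 d hd, ← mul_assoc, hg1 d hd, mul_assoc], fun v hv => ?_⟩
    have h1 := hh2 v hv
    have h2 : g * (h * v * h⁻¹ * v⁻¹) * g⁻¹ = h * v * h⁻¹ * v⁻¹ := by rw [hg1 _ h1, mul_inv_cancel_right]
    have e : g * h * v * (g * h)⁻¹ * v⁻¹ = g * (h * v * h⁻¹ * v⁻¹) * g⁻¹ * (g * v * g⁻¹ * v⁻¹) := by group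
    rw [e, h2]
    exact mul_mem h1 (hg2 v hv)
  inv_mem' := by
    rintro g ⟨hg, hg1, hg2⟩
    refine ⟨inv_mem hg, fun d hd => (show Commute g d from hg1 d hd).inv_left.eq, fun v hv => ?_⟩
    have h1 := inv_mem (hg2 v hv)
    have h2 : g⁻¹ * (g * v * g⁻¹ * v⁻¹)⁻¹ = (g * v * g⁻¹ * v⁻¹)⁻¹ * g⁻¹ :=
      (show Commute g _ from hg1 _ h1).inv_left.eq
    have e : g⁻¹ * v * g⁻¹⁻¹ * v⁻¹ = g⁻¹ * (g * v * g⁻¹ * v⁻¹)⁻¹ * g := by group
    rw [e, h2, inv_mul_cancel_right]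
    exact h1

theorem KD_le (P D U : Subgroup G) : KD P D U ≤ P := fun _ hg => hg.1

theorem norm_KD {P D U : Subgroup G} (hPU : P ≤ normalizer (U : Set G)) (hPD : P ≤ normalizer (D : Set G)) :
    P ≤ normalizer (KD P D U : Set G) := by
  have key : ∀ t ∈ P, ∀ g ∈ KD P D U, t * g * t⁻¹ ∈ KD P D U := by
    rintro t ht g ⟨hg, hg1, hg2⟩
    refine ⟨mul_mem (mul_mem ht hg) (inv_mem ht), fun d hd => ?_, fun v hv => ?_⟩
    · have h1 : t⁻¹ * d * t ∈ D := by
        have := (mem_normalizer_iff.1 (hPD (inv_mem ht)) d).1 hd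
        rwa [inv_inv] at this
      have h2 := hg1 _ h1
      have e1 : t * g * t⁻¹ * d = t * (g * (t⁻¹ * d * t)) * t⁻¹ := by group
      have e2 : d * (t * g * t⁻¹) = t * (t⁻¹ * d * t * g) * t⁻¹ := by group
      rw [e1, e2, h2]
    · have h1 : t⁻¹ * v * t ∈ U := by
        have := (mem_normalizer_iff.1 (hPU (inv_mem ht)) v).1 hv
        rwa [inv_inv] at this
      have h2 := (mem_normalizer_iff.1 (hPD ht) _).1 (hg2 _ h1)
      have e : t * g * t⁻¹ * v * (t * g * t⁻¹)⁻¹ * v⁻¹ = t * (g * (t⁻¹ * v * t) * g⁻¹ * (t⁻¹ * v * t)⁻¹) * t⁻¹ := by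
        group
      rwa [e]
  intro t ht
  rw [mem_normalizer_iff]
  intro g
  refine ⟨key t ht g, fun hg => ?_⟩
  have h1 := key _ (inv_mem ht) _ hg
  have e : t⁻¹ * (t * g * t⁻¹) * t⁻¹⁻¹ = g := by group
  rwa [e] at h1

theorem norm_cv (S P : Subgroup G) : P ≤ normalizer (cv S P : Set G) := by
  have key : ∀ t ∈ P, ∀ g ∈ cv S P, t * g * t⁻¹ ∈ cv S P := by
    intro t ht g hg
    obtain ⟨hg, hg1⟩ := mem_inf.1 hg
    refine mem_inf.2 ⟨(mem_normalizer_iff.1 (MinSimple.VModule.le_normalizer_zl S P ht) g).1 hg, ?_⟩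
    rw [mem_centralizer_iff]
    intro y hy
    have h1 : t⁻¹ * y * t ∈ oddGen P := by
      have := (mem_normalizer_iff.1 (le_normalizer_oddGen P (inv_mem ht)) y).1 hy
      rwa [inv_inv] at this
    have h2 := mem_centralizer_iff.1 hg1 _ h1
    have e1 : y * (t * g * t⁻¹) = t * (t⁻¹ * y * t * g) * t⁻¹ := by group
    have e2 : t * g * t⁻¹ * y = t * (g * (t⁻¹ * y * t)) * t⁻¹ := by group
    rw [e1, e2, h2]
  intro t ht
  rw [mem_normalizer_iff]
  intro g
  refine ⟨key t ht g, fun hg => ?_⟩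
  have h1 := key _ (inv_mem ht) _ hg
  have e : t⁻¹ * (t * g * t⁻¹) * t⁻¹⁻¹ = g := by group
  rwa [e] at h1

/-- `S ∩ KD ≤ C(U)` -/
theorem ker [Finite G] (hG : IsCharacteristicTwoType G) {S : Sylow 2 G} {P : Subgroup G}
    (hP : IsParS (S : Subgroup G) P) (hne : ¬ zl (S : Subgroup G) P ≤ cv (S : Subgroup G) P) {g : G}
    (hg : g ∈ (S : Subgroup G)) (hg' : g ∈ KD P (cv (S : Subgroup G) P) (zl (S : Subgroup G) P)) :
    g ∈ centralizer (zl (S : Subgroup G) P : Set G) := by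
  have hN := norm_KD (MinSimple.VModule.le_normalizer_zl (S : Subgroup G) P) (norm_cv (S : Subgroup G) P)
  rcases hP.toIsPar.sup_eq_or_inf_le S (KD_le _ _ _) hN with h1 | h1
  · exfalso
    apply hne
    have h2 := oddGen_le_of_sup hN h1.ge hP.le (KD_le _ _ _) S.isPGroup'
    refine le_inf le_rfl (comm_symm ?_)
    rw [oddGen_def, closure_le]
    rintro x ⟨hx, ho⟩
    obtain ⟨-, hx1, hx2⟩ := h2 (mem_oddGen hx ho)
    rw [SetLike.mem_coe, mem_centralizer_iff]
    intro v hv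
    have hd := hx2 v hv
    set d := x * v * x⁻¹ * v⁻¹ with hdd
    have key : ∀ n : ℕ, x ^ n * v * (x ^ n)⁻¹ = d ^ n * v := by
      intro n
      induction n with
      | zero => simp
      | succ n ih =>
        have h3 : x * d ^ n = d ^ n * x := ((show Commute x d from hx1 d hd).pow_right n).eq
        have e1 : x ^ (n + 1) * v * (x ^ (n + 1))⁻¹ = x * (x ^ n * v * (x ^ n)⁻¹) * x⁻¹ := by
          rw [pow_succ']; group
        have e2 : x * (d ^ n * v) * x⁻¹ = x * d ^ n * v * x⁻¹ := by group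
        have e3 : d ^ n * x * v * x⁻¹ = d ^ n * (x * v * x⁻¹ * v⁻¹) * v := by group
        rw [e1, ih, e2, h3, e3, ← hdd, pow_succ]
    have h3 := key (orderOf x)
    rw [pow_orderOf_eq_one, one_mul, inv_one, mul_one] at h3
    have h4 : d ^ orderOf x = 1 := by
      have := h3.symm
      rwa [mul_eq_right] at this
    have h5 : d ^ 2 = 1 := MinSimple.VModule.zl_sq hP.le S.isPGroup'
      (MinSimple.Basic.not_dvd_relIndex S hP.le) (hP.isLoc.char2 S hG) d hd.1
    have h6 : d = 1 := by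
      obtain ⟨m, hm⟩ := ho
      rw [hm, pow_succ, pow_mul, h5, one_pow, one_mul] at h4
      exact h4
    rw [hdd, mul_inv_eq_one] at h6
    exact (mul_inv_eq_iff_eq_mul.1 h6).symm
  · have h2 := h1 ⟨hg, hg'⟩
    rw [← hP.inf_centralizer S hG] at h2
    exact h2.2

/-! ### The abstract end -/

/-- subgroups `R i` detected by homomorphisms `φ i` with `φ i = 0` on `D` -/
theorem iSup_inf_eq_bot {ι : Type*} [Finite ι] {D U : Subgroup G} (R : ι → Subgroup G) (hRU : ∀ i, R i ≤ U)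
    (hU : ∀ u ∈ U, ∀ v ∈ U, u * v = v * u) {α : Type*} [AddGroup α] (φ : ι → G → α)
    (hφ : ∀ i, ∀ x ∈ U, ∀ y ∈ U, φ i (x * y) = φ i x + φ i y) (hD : ∀ i, ∀ d ∈ D, φ i d = 0)
    (h0 : ∀ i, ∀ x ∈ R i, φ i x = 0 → x = 1) (h1 : ∀ i j, R i = R j ∨ ∀ x ∈ R j, φ i x = 0) :
    (⨆ i, R i) ⊓ D = ⊥ := by
  classical
  have := Fintype.ofFinite ι
  have hφ1 : ∀ i, φ i 1 = 0 := fun i => by
    have := hφ i 1 (one_mem _) 1 (one_mem _)
    rw [one_mul] at this
    exact left_eq_add.1 this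
  have hφinv : ∀ i, ∀ x ∈ U, φ i x = 0 → φ i x⁻¹ = 0 := fun i x hx h => by
    have h2 := hφ i x hx x⁻¹ (inv_mem hx)
    rw [mul_inv_cancel, hφ1, h, zero_add] at h2
    exact h2.symm
  have hKer : ∀ (i : ι) (s : Finset ι), (∀ b ∈ s, R i ≠ R b) → ∀ x ∈ ⨆ j ∈ s, R j, φ i x = 0 := by
    intro i s hs x hx
    let K : Subgroup G :=
      { carrier := {x | x ∈ U ∧ φ i x = 0}
        one_mem' := ⟨one_mem _, hφ1 i⟩
        mul_mem' := by
          rintro x y ⟨hx, hx1⟩ ⟨hy, hy1⟩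
          exact ⟨mul_mem hx hy, by rw [hφ i x hx y hy, hx1, hy1, add_zero]⟩
        inv_mem' := by
          rintro x ⟨hx, hx1⟩
          exact ⟨inv_mem hx, hφinv i x hx hx1⟩ }
    have h2 : (⨆ j ∈ s, R j) ≤ K := iSup₂_le fun j hj x hx => ⟨hRU j hx, ((h1 i j).resolve_left (hs j hj)) x hx⟩
    exact (h2 hx).2
  have key : ∀ s : Finset ι, ∀ x ∈ ⨆ j ∈ s, R j, x ∈ D → x = 1 := by
    intro s
    induction s using Finset.induction_on with
    | empty =>
      intro x hx _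
      simpa using hx
    | insert a s has ih =>
      intro x hx hxD
      rw [Finset.iSup_insert] at hx
      by_cases hex : ∃ b ∈ s, R a = R b
      · obtain ⟨b, hb, hab⟩ := hex
        refine ih x ((sup_le ?_ le_rfl : R a ⊔ (⨆ j ∈ s, R j) ≤ ⨆ j ∈ s, R j) hx) hxD
        rw [hab]
        exact le_iSup₂_of_le b hb le_rfl
      · push Not at hex
        have hsU : (⨆ j ∈ s, R j) ≤ U := iSup₂_le fun j _ => hRU j
        have hn : R a ≤ normalizer ((⨆ j ∈ s, R j : Subgroup G) : Set G) := by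
          intro y hy
          rw [mem_normalizer_iff]
          intro z
          have hc : ∀ z ∈ U, y * z * y⁻¹ = z := fun z hz => by rw [hU y (hRU a hy) z hz, mul_inv_cancel_right]
          constructor
          · intro hz
            rw [hc z (hsU hz)]
            exact hz
          · intro hz
            have h3 : z ∈ U := by
              have h4 := mul_mem (mul_mem (inv_mem (hRU a hy)) (hsU hz)) (hRU a hy)
              have e : y⁻¹ * (y * z * y⁻¹) * y = z := by group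
              rwa [e] at h4
            rwa [hc z h3] at hz
        rw [← SetLike.mem_coe, Subgroup.coe_mul_of_left_le_normalizer_right _ _ hn, Set.mem_mul] at hx
        obtain ⟨y, hy, z, hz, rfl⟩ := hx
        have h2 := hKer a s hex z hz
        have h3 := hD a _ hxD
        rw [hφ a y (hRU a hy) z (hsU hz), h2, add_zero] at h3
        have h4 := h0 a y hy h3
        rw [h4, one_mul] at hxD ⊢
        exact ih z hz hxD
  rw [eq_bot_iff]
  intro x hx
  obtain ⟨h2, h3⟩ := mem_inf.1 hx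
  rw [mem_bot]
  refine key Finset.univ x ?_ h3
  simpa using h2

/-! ### Offenders with constant commutators -/

/-- `A ≤ S` centralises `D`, moves `U`, `[r, A] = R` (as sets) for all `r ∈ U - C(A)`. -/
structure RA (S D U A R : Subgroup G) : Prop where
  le : A ≤ S
  mov : ¬ A ≤ centralizer (U : Set G)
  root : ∀ r ∈ U, r ∉ centralizer (A : Set G) → ∀ x, x ∈ R ↔ ∃ a ∈ A, r * a * r⁻¹ * a⁻¹ = x
  ker : ∀ g ∈ S, (∀ d ∈ D, g * d = d * g) → (∀ v ∈ U, g * v * g⁻¹ * v⁻¹ ∈ D) → g ∈ centralizer (U : Set G)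

section nat

open Cfsg.Agent.Omega.NatPair (ap ap_mul ap_one ap_inv_ap ap_inj ext2)
open Cfsg.Agent.Lib.SL2Mat
open NOThreeL.NF.NatR (ap_up)

variable {F : Type} [Field F] {S P D U A R : Subgroup G} {k : ℕ} (M : NatKM F S P U D k)

theorem e_one : M.e 1 = 0 := by
  have h := M.mul 1 (one_mem _) 1 (one_mem _)
  rw [one_mul] at h
  exact left_eq_add.1 h

theorem e_inv {v : G} (hv : v ∈ U) : M.e v⁻¹ = - M.e v := by
  have h := M.mul v hv v⁻¹ (inv_mem hv)
  rw [mul_inv_cancel, e_one] at h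
  exact (neg_eq_of_add_eq_zero_right h.symm).symm

theorem exists_pt (i : Fin k) (x : Fin 2 → F) : ∃ v ∈ U, M.e v i = x ∧ ∀ j, j ≠ i → M.e v j = 0 := by
  classical
  obtain ⟨v, hv, hev⟩ := M.surj (Pi.single i x)
  exact ⟨v, hv, by rw [hev, Pi.single_eq_same], fun j hj => by rw [hev]; exact Pi.single_eq_of_ne hj _⟩

/-- the commutator with an element which acts as `up b` -/
theorem e_comm (hPU : P ≤ normalizer (U : Set G)) {a : G} (ha : a ∈ P) {b : Fin k → F}
    (hab : ActsSL M.e U D a fun i => up (b i)) {r : G} (hr : r ∈ U) (j : Fin k) :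
    M.e (r * a * r⁻¹ * a⁻¹) j = ![-(b j * M.e r j 1), 0] := by
  have h1 : a * r⁻¹ * a⁻¹ ∈ U := (mem_normalizer_iff.1 (hPU ha) _).1 (inv_mem hr)
  have e : r * a * r⁻¹ * a⁻¹ = r * (a * r⁻¹ * a⁻¹) := by group
  rw [e, M.mul r hr _ h1, Pi.add_apply, hab.1 _ (inv_mem hr) j, ap_up, e_inv M hr, Pi.neg_apply]
  refine ext2 ?_ ?_
  · simp
  · simp

end nat

section ra

variable {S D U A R : Subgroup G} (h : RA S D U A R)
include h

theorem RA.exists_mov : ∃ r ∈ U, r ∉ centralizer (A : Set G) := by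
  by_contra hcon
  push Not at hcon
  exact h.mov (comm_symm hcon)

theorem RA.le_U (hSU : S ≤ normalizer (U : Set G)) : R ≤ U := by
  obtain ⟨r, hr, hrA⟩ := h.exists_mov
  intro x hx
  obtain ⟨a, ha, rfl⟩ := (h.root r hr hrA x).1 hx
  have h1 : a * r⁻¹ * a⁻¹ ∈ U := (mem_normalizer_iff.1 (hSU (h.le ha)) _).1 (inv_mem hr)
  have e : r * a * r⁻¹ * a⁻¹ = r * (a * r⁻¹ * a⁻¹) := by group
  rw [e]
  exact mul_mem hr h1

theorem RA.conj (hSU : S ≤ normalizer (U : Set G)) {s : G} (hs : s ∈ S) :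
    RA S D U (MulAut.conj s • A) (MulAut.conj s • R) where
  le := by
    have h1 := conj_le_iff (g := s).2 h.le
    rwa [NOne.Flat.conj_eq_of_norm (le_normalizer hs)] at h1
  mov := fun h1 => h.mov (by
    have h2 : MulAut.conj s • A ≤ MulAut.conj s • centralizer (U : Set G) := by
      rwa [NOne.Flat.conj_centralizer, NOne.Flat.conj_eq_of_norm (hSU hs)]
    exact conj_le_iff.1 h2)
  root := by
    intro r hr hrA x
    have hr' : s⁻¹ * r * s ∈ U := by
      have := (mem_normalizer_iff.1 (hSU (inv_mem hs)) r).1 hr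
      rwa [inv_inv] at this
    have hrA' : s⁻¹ * r * s ∉ centralizer (A : Set G) := by
      intro h1
      apply hrA
      rw [← NOne.Flat.conj_centralizer, mem_conj]
      exact h1
    rw [mem_conj, h.root _ hr' hrA']
    constructor
    · rintro ⟨a, ha, h1⟩
      refine ⟨s * a * s⁻¹, ?_, ?_⟩
      · rw [mem_conj]
        have e : s⁻¹ * (s * a * s⁻¹) * s = a := by group
        rwa [e]
      · have e : r * (s * a * s⁻¹) * r⁻¹ * (s * a * s⁻¹)⁻¹ =
          s * (s⁻¹ * r * s * a * (s⁻¹ * r * s)⁻¹ * a⁻¹) * s⁻¹ := by group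
        rw [e, h1]
        group
    · rintro ⟨a, ha, rfl⟩
      rw [mem_conj] at ha
      refine ⟨_, ha, ?_⟩
      group
  ker := h.ker

end ra

section natTwo

open Cfsg.Agent.Omega.NatPair (ap ap_mul ap_one ap_inv_ap ap_inj ext2)
open Cfsg.Agent.Lib.SL2Mat

variable {F : Type} [Field F] {S P D U A R : Subgroup G} {k : ℕ} (M : NatKM F S P U D k)

/-- `a` acts as `up b` on the `i`-th block and trivially on the others -/
def At (a : G) (i : Fin k) (b : F) : Prop := ActsSL M.e U D a fun j => up ((Pi.single i b : Fin k → F) j)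

/-- `A` acts as the full root group of the `i`-th block -/
structure Ro (A : Subgroup G) (i : Fin k) : Prop where
  acts : ∀ a ∈ A, ∃ b, At M a i b
  ex : ∀ b, ∃ a ∈ A, At M a i b

variable (hPU : P ≤ normalizer (U : Set G)) (hSP : S ≤ P)
include hPU hSP

theorem mem_ker_of_zero (h : RA S D U A R) {a : G} (ha : a ∈ A) {b : Fin k → F}
    (hab : ActsSL M.e U D a fun i => up (b i)) (hb : b = 0) : a ∈ centralizer (U : Set G) := by
  refine h.ker a (h.le ha) hab.2 fun v hv => ?_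
  have hm : a * v * a⁻¹ ∈ U := (mem_normalizer_iff.1 (hPU (hSP (h.le ha))) v).1 hv
  rw [← M.ker _ (mul_mem hm (inv_mem hv)), M.mul _ hm _ (inv_mem hv), e_inv M hv]
  funext i
  have e0 : up (b i) = 1 := by rw [hb, Pi.zero_apply, up_zero]
  rw [Pi.add_apply, hab.1 v hv i]
  change ap (up (b i)) (M.e v i) + _ = _
  rw [e0, ap_one, Pi.neg_apply, add_neg_cancel, Pi.zero_apply]

/-- **one block** -/
theorem exists_block (h : RA S D U A R) (hoff : OffM U A) : ∃ i, Ro M A i := by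
  classical
  obtain ⟨I, h1, h2⟩ := M.offM A h.le hoff
  have hI : I.Nonempty := by
    rw [Set.nonempty_iff_ne_empty]
    rintro rfl
    refine h.mov fun a ha => ?_
    obtain ⟨b, hb, hab⟩ := h1 a ha
    exact mem_ker_of_zero M hPU hSP h ha hab (funext fun i => hb i (Set.notMem_empty i))
  obtain ⟨i, hi⟩ := hI
  have hs : ∀ j ∈ I, ∀ b : F, ∀ l, l ∉ I → (Pi.single j b : Fin k → F) l = 0 := by
    intro j hj b l hl
    have : l ≠ j := fun h3 => hl (by rw [h3]; exact hj)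
    rw [Pi.single_apply, if_neg this]
  have hv : ∀ j ∈ I, ∃ v ∈ U, (M.e v j = ![0, 1] ∧ ∀ l, l ≠ j → M.e v l = 0) ∧ v ∉ centralizer (A : Set G) ∧
      ∃ x ∈ R, M.e x j 0 ≠ 0 := by
    intro j hj
    obtain ⟨v, hv, hvj, hvl⟩ := exists_pt M j ![0, 1]
    obtain ⟨a, ha, hab⟩ := h2 (Pi.single j 1) (hs j hj 1)
    have h3 := e_comm M hPU (hSP (h.le ha)) hab hv j
    have h4 : M.e (v * a * v⁻¹ * a⁻¹) j 0 ≠ 0 := by
      rw [h3, hvj]
      simp
    have h5 : v ∉ centralizer (A : Set G) := fun hc => h4 (by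
      have : v * a * v⁻¹ * a⁻¹ = 1 := by rw [← mem_centralizer_iff.1 hc a ha]; group
      rw [this, e_one M]; rfl)
    exact ⟨v, hv, ⟨hvj, hvl⟩, h5, _, (h.root v hv h5 _).2 ⟨a, ha, rfl⟩, h4⟩
  have huniq : ∀ j ∈ I, j = i := by
    intro j hj
    by_contra hne
    obtain ⟨v, hv1, ⟨hvj, hvl⟩, hvc, x, hx, hxj⟩ := hv j hj
    obtain ⟨w, hw, ⟨hwi, hwl⟩, hwc, -⟩ := hv i hi
    obtain ⟨a, ha, rfl⟩ := (h.root w hw hwc x).1 hx
    obtain ⟨b, hb, hab⟩ := h1 a ha
    rw [e_comm M hPU (hSP (h.le ha)) hab hw j, hwl j hne] at hxj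
    simp at hxj
  refine ⟨i, fun a ha => ?_, fun b => ?_⟩
  · obtain ⟨b, hb, hab⟩ := h1 a ha
    refine ⟨b i, ?_⟩
    have e : b = Pi.single i (b i) := by
      funext j
      by_cases hj : j = i
      · subst hj; rw [Pi.single_eq_same]
      · rw [Pi.single_eq_of_ne hj, hb j fun h4 => hj (huniq j h4)]
    unfold At
    rwa [← e]
  · obtain ⟨a, ha, hab⟩ := h2 (Pi.single i b) (hs i hi b)
    exact ⟨a, ha, hab⟩

/-- a moved vector -/
theorem Ro.exists_mov {i : Fin k} (hB : Ro M A i) (h : RA S D U A R) : ∃ v ∈ U, v ∉ centralizer (A : Set G) ∧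
    M.e v i = ![0, 1] ∧ ∀ l, l ≠ i → M.e v l = 0 := by
  obtain ⟨v, hv, hvj, hvl⟩ := exists_pt M i ![0, 1]
  refine ⟨v, hv, fun hc => ?_, hvj, hvl⟩
  obtain ⟨a, ha, hab⟩ := hB.ex 1
  have h3 := e_comm M hPU (hSP (h.le ha)) hab hv i
  have : v * a * v⁻¹ * a⁻¹ = 1 := by rw [← mem_centralizer_iff.1 hc a ha]; group
  rw [this, e_one M, hvj] at h3
  have h4 := congrFun h3 0
  simp at h4

/-- **`R` is in the `i`-th block, `R ∩ D = 1`** -/
theorem Ro.supp {i : Fin k} (hB : Ro M A i) (h : RA S D U A R) {x : G} (hx : x ∈ R) :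
    (∀ j, j ≠ i → M.e x j = 0) ∧ (M.e x i = 0 → x = 1) := by
  obtain ⟨v, hv, hvc, hvi, hvl⟩ := hB.exists_mov M hPU hSP h
  obtain ⟨a, ha, rfl⟩ := (h.root v hv hvc x).1 hx
  obtain ⟨b, hab⟩ := hB.acts a ha
  have h3 := fun j => e_comm M hPU (hSP (h.le ha)) hab hv j
  refine ⟨fun j hj => ?_, fun h0 => ?_⟩
  · rw [h3 j, hvl j hj]
    exact ext2 (by simp) (by simp)
  · rw [h3 i, hvi] at h0
    have h4 := congrFun h0 0
    simp at h4
    have h5 := mem_ker_of_zero M hPU hSP h ha hab (by rw [h4, Pi.single_zero])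
    rw [mem_centralizer_iff.1 h5 v hv]
    group

/-- **the same block, the same `R`** -/
theorem Ro.le {i : Fin k} (hB : Ro M A i) (h : RA S D U A R) {A' R' : Subgroup G} (hB' : Ro M A' i)
    (h' : RA S D U A' R') : R ≤ R' := by
  intro x hx
  obtain ⟨v, hv, hvc, -⟩ := hB.exists_mov M hPU hSP h
  obtain ⟨v, hv, hvc, hvi, hvl⟩ := hB.exists_mov M hPU hSP h
  have hvc' : v ∉ centralizer (A' : Set G) := by
    intro hc
    obtain ⟨a, ha, hab⟩ := hB'.ex 1
    have h3 := e_comm M hPU (hSP (h'.le ha)) hab hv i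
    have : v * a * v⁻¹ * a⁻¹ = 1 := by rw [← mem_centralizer_iff.1 hc a ha]; group
    rw [this, e_one M, hvi] at h3
    have h4 := congrFun h3 0
    simp at h4
  obtain ⟨a, ha, rfl⟩ := (h.root v hv hvc x).1 hx
  obtain ⟨b, hab⟩ := hB.acts a ha
  obtain ⟨a', ha', hab'⟩ := hB'.ex b
  refine (h'.root v hv hvc' _).2 ⟨a', ha', ?_⟩
  have haS := h.le ha
  have haS' := h'.le ha'
  -- `a⁻¹ a'` centralises `U`
  have hk : a⁻¹ * a' ∈ centralizer (U : Set G) := by
    refine h.ker _ (mul_mem (inv_mem haS) haS') (fun d hd => ?_) fun u hu => ?_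
    · have h1 : Commute a d := hab.2 d hd
      have h2 : Commute a' d := hab'.2 d hd
      exact (h1.inv_left.mul_left h2).eq
    · set w := a⁻¹ * a' * u * (a⁻¹ * a')⁻¹ with hw
      have hwU : w ∈ U := (mem_normalizer_iff.1 (hPU (hSP (mul_mem (inv_mem haS) haS'))) u).1 hu
      rw [← M.ker _ (mul_mem hwU (inv_mem hu)), M.mul _ hwU _ (inv_mem hu), e_inv M hu]
      have e : a * w * a⁻¹ = a' * u * a'⁻¹ := by rw [hw]; group
      funext j
      have h3 := hab.1 w hwU j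
      have h4 := hab'.1 u hu j
      rw [e, h4] at h3
      have h5 : M.e w j = M.e u j := by
        have := congrArg (fun y => ap ((up ((Pi.single i b : Fin k → F) j))⁻¹) y) h3
        simp only [ap_inv_ap] at this
        exact this.symm
      rw [Pi.add_apply, h5, Pi.neg_apply, add_neg_cancel, Pi.zero_apply]
  have h6 := mem_centralizer_iff.1 hk v⁻¹ (inv_mem hv)
  have e1 : v * a' * v⁻¹ * a'⁻¹ = v * a * (a⁻¹ * a' * v⁻¹) * (a⁻¹ * a')⁻¹ * a⁻¹ := by group
  rw [e1, ← h6]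
  group

/-- **`⟨R^S⟩ ∩ D = 1`**, natural case -/
theorem inf_eq_bot_nat [Finite G] (M : NatKM F S P U D k) (h : RA S D U A R) (hoff : OffM U A)
    (hU : ∀ u ∈ U, ∀ v ∈ U, u * v = v * u) (hDU : D ≤ U) : (⨆ s : S, MulAut.conj (s : G) • R) ⊓ D = ⊥ := by
  have hSU := hSP.trans hPU
  have hc : ∀ s : S, RA S D U (MulAut.conj (s : G) • A) (MulAut.conj (s : G) • R) := fun s => h.conj hSU s.2
  have ho : ∀ s : S, OffM U (MulAut.conj (s : G) • A) := fun s =>
    NOThreeL.NF.NatR.offM_cj (g := (s : G)) hoff (hSU s.2)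
  choose i hi using fun s : S => exists_block M hPU hSP (hc s) (ho s)
  refine iSup_inf_eq_bot (U := U) (fun s : S => MulAut.conj (s : G) • R) (fun s => (hc s).le_U hSU) hU
    (fun s x => M.e x (i s)) (fun s x hx y hy => by rw [M.mul x hx y hy]; rfl) (fun s d hd => ?_)
    (fun s x hx h0 => ((hi s).supp M hPU hSP (hc s) hx).2 h0) fun s t => ?_
  · have h1 := (M.ker d (hDU hd)).2 hd
    change M.e d (i s) = 0
    rw [h1]; rfl
  · by_cases hst : i s = i t
    · left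
      have ht := hi t
      rw [← hst] at ht
      exact le_antisymm ((hi s).le M hPU hSP (hc s) ht (hc t)) (ht.le M hPU hSP (hc t) (hi s) (hc s))
    · right
      exact fun x hx => ((hi t).supp M hPU hSP (hc t) hx).1 _ hst

end natTwo

section symTwo

open Cfsg.Agent.Omega.Half.SymA (Pt pm pm_swap exists_third zmod2 zmod2_ne)
open scoped Classical

variable {S P D U A R : Subgroup G} {k m : ℕ} (M : SymKM S P U D k m)

/-- the characteristic function modulo `D` -/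
def ED (v : G) (p : Pt k m) : ZMod 2 := M.e v p.1 p.2

theorem ED_mul {v w : G} (hv : v ∈ U) (hw : w ∈ U) (p : Pt k m) : ED M (v * w) p = ED M v p + ED M w p := by
  rw [ED, M.mul v hv w hw]
  rfl

theorem ED_one (p : Pt k m) : ED M 1 p = 0 := by
  have h := ED_mul M (one_mem U) (one_mem U) p
  rw [one_mul] at h
  exact left_eq_add.1 h

theorem ED_inv {v : G} (hv : v ∈ U) (p : Pt k m) : ED M v⁻¹ p = ED M v p := by
  have h := ED_mul M hv (inv_mem hv) p
  rw [mul_inv_cancel, ED_one] at h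
  have h1 : ED M v⁻¹ p = -ED M v p := (neg_eq_of_add_eq_zero_right h.symm).symm
  rw [h1]
  exact CharTwo.neg_eq _

theorem mem_D_of_ED {v : G} (hv : v ∈ U) (h : ∀ p, ED M v p = 0) : v ∈ D :=
  (M.ker v hv).1 (by funext i x; exact h (i, x))

/-- the pair `{p, q}` -/
theorem exists_pairD {p q : Pt k m} (hpq : p.1 = q.1) :
    ∃ v ∈ U, ∀ r, ED M v r = (if r = p then 1 else 0) + (if r = q then 1 else 0) := by
  have h1 : ∀ (i : Fin k) (p : Pt k m),
      ∑ x, (if ((i, x) : Pt k m) = p then (1 : ZMod 2) else 0) = if i = p.1 then 1 else 0 := by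
    intro i p
    by_cases hi : i = p.1
    · rw [if_pos hi, Finset.sum_eq_single p.2]
      · rw [if_pos (show ((i, p.2) : Pt k m) = p from Prod.ext hi rfl)]
      · intro b _ hb
        rw [if_neg]
        intro h
        exact hb (congrArg Prod.snd h)
      · intro h
        exact absurd (Finset.mem_univ _) h
    · rw [if_neg hi]
      apply Finset.sum_eq_zero
      intro x _
      rw [if_neg]
      intro h
      exact hi (congrArg Prod.fst h)
  obtain ⟨v, hv, h⟩ := M.surj (fun i x => (if ((i, x) : Pt k m) = p then (1 : ZMod 2) else 0) +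
    (if ((i, x) : Pt k m) = q then 1 else 0)) (fun i => by
      rw [Finset.sum_add_distrib, h1, h1, hpq]
      exact CharTwo.add_self_eq_zero _)
  exact ⟨v, hv, fun r => by rw [ED, h]⟩

/-- `g` moves the points by `π` -/
def MvD (g : G) (π : Equiv.Perm (Pt k m)) : Prop := ∀ v ∈ U, ∀ p, ED M (g * v * g⁻¹) (π p) = ED M v p

theorem MvD_one : MvD M 1 1 := by
  intro v _ p
  rw [one_mul, inv_one, mul_one]
  rfl

theorem mvD_pm {g : G} {σ : Equiv.Perm (Fin k)} {τ : Fin k → Equiv.Perm (Fin (2 ^ m + 1))}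
    (h : ActsSym M.e U g σ τ) : MvD M g (pm σ τ) := fun v hv p => h v hv p.1 p.2

theorem sepD (hm : 1 ≤ m) {p q : Pt k m} (hpq : p ≠ q) : ∃ v ∈ U, ED M v p = 1 ∧ ED M v q = 0 := by
  obtain ⟨c, hc1, hc2⟩ := exists_third hm p.2 q.2
  obtain ⟨v, hv, h⟩ := exists_pairD M (p := p) (q := (p.1, c)) rfl
  refine ⟨v, hv, ?_, ?_⟩
  · rw [h, if_pos rfl, if_neg, add_zero]
    intro h1
    exact hc1 (congrArg Prod.snd h1).symm
  · rw [h, if_neg hpq.symm, if_neg, add_zero]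
    intro h1
    exact hc2 (congrArg Prod.snd h1).symm

variable (hPU : P ≤ normalizer (U : Set G)) (hSP : S ≤ P)

section
include hPU

theorem conjU {g v : G} (hg : g ∈ P) (hv : v ∈ U) : g * v * g⁻¹ ∈ U := (mem_normalizer_iff.1 (hPU hg) v).1 hv

variable {M}

theorem MvD.unique (hm : 1 ≤ m) {g : G} {π ρ : Equiv.Perm (Pt k m)} (hπ : MvD M g π) (hρ : MvD M g ρ) (hg : g ∈ P) :
    π = ρ := by
  ext1 p
  by_contra hne
  obtain ⟨w, hw, h1, h2⟩ := sepD M hm hne
  have h3 : g⁻¹ * w * g⁻¹⁻¹ ∈ U := conjU hPU (inv_mem hg) hw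
  have h4 : g * (g⁻¹ * w * g⁻¹⁻¹) * g⁻¹ = w := by group
  have h5 := hπ _ h3 p
  have h6 := hρ _ h3 p
  rw [h4] at h5 h6
  rw [h1] at h5
  rw [h2, ← h5] at h6
  exact one_ne_zero h6.symm

theorem MvD.mul {g h : G} {π ρ : Equiv.Perm (Pt k m)} (hπ : MvD M g π) (hρ : MvD M h ρ) (hh : h ∈ P) :
    MvD M (g * h) (π * ρ) := by
  intro v hv p
  have e1 : g * h * v * (g * h)⁻¹ = g * (h * v * h⁻¹) * g⁻¹ := by group
  rw [e1, Equiv.Perm.mul_apply, hπ _ (conjU hPU hh hv), hρ v hv]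

theorem MvD.pow {g : G} {π : Equiv.Perm (Pt k m)} (hπ : MvD M g π) (hg : g ∈ P) (n : ℕ) :
    MvD M (g ^ n) (π ^ n) := by
  induction n with
  | zero => rw [pow_zero, pow_zero]; exact MvD_one M
  | succ n ih => rw [pow_succ, pow_succ]; exact ih.mul hPU hπ hg

/-- the commutator -/
theorem MvD.comm {a : G} {π : Equiv.Perm (Pt k m)} (hπ : MvD M a π) (ha : a ∈ P) {r : G} (hr : r ∈ U) (w : Pt k m) :
    ED M (r * a * r⁻¹ * a⁻¹) w = ED M r w + ED M r (π⁻¹ w) := by
  have e : r * a * r⁻¹ * a⁻¹ = r * (a * r⁻¹ * a⁻¹) := by group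
  rw [e, ED_mul M hr (conjU hPU ha (inv_mem hr))]
  congr 1
  have h1 := hπ r⁻¹ (inv_mem hr) (π⁻¹ w)
  rw [show π (π⁻¹ w) = w from π.apply_symm_apply w, ED_inv M hr] at h1
  exact h1

end

include hPU hSP

/-- an element of `S` which is trivial modulo `D` -/
theorem mem_cent_of_mv (h : RA S D U A R) {a : G} (ha : a ∈ S) (cD : ∀ d ∈ D, a * d = d * a)
    (h1 : MvD M a 1) : a ∈ centralizer (U : Set G) := by
  refine h.ker a ha cD fun v hv => ?_
  have hm := conjU hPU (hSP ha) hv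
  refine mem_D_of_ED M (mul_mem hm (inv_mem hv)) fun p => ?_
  rw [ED_mul M hm (inv_mem hv), ED_inv M hv]
  have h2 := h1 v hv p
  rw [Equiv.Perm.one_apply] at h2
  rw [h2]
  exact CharTwo.add_self_eq_zero _

/-- `A` acts as the transposition `(p q)` -/
structure Tr (A : Subgroup G) (p q : Pt k m) : Prop where
  ne : p ≠ q
  fst : p.1 = q.1
  snd : p.2 ≠ 0
  snd' : q.2 ≠ 0
  cD : ∀ a ∈ A, ∀ d ∈ D, a * d = d * a
  ex : ∃ b ∈ A, MvD M b (Equiv.swap p q)
  all : ∀ a ∈ A, MvD M a 1 ∨ MvD M a (Equiv.swap p q)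

omit hSP in
/-- `{p, 0}` is moved by an element which acts as `(p q)` -/
theorem not_cent_of_swap {p q : Pt k m} (hpq : p ≠ q) (hq : q.2 ≠ 0) {r : G} (hr : r ∈ U)
    (hrE : ∀ w, ED M r w = (if w = p then 1 else 0) + (if w = (p.1, 0) then 1 else 0)) {b : G} (hb : b ∈ A)
    (hbP : b ∈ P) (hbac : MvD M b (Equiv.swap p q)) (hp : p.2 ≠ 0) : r ∉ centralizer (A : Set G) := by
  intro hc
  have h1 : r * b * r⁻¹ * b⁻¹ = 1 := by rw [← mem_centralizer_iff.1 hc b hb]; group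
  have h2 := hbac.comm hPU hbP hr p
  rw [h1, ED_one, Equiv.swap_inv, Equiv.swap_apply_left, hrE, hrE, if_pos rfl, if_neg (fun h => hp (by rw [h])),
    if_neg hpq.symm, if_neg (fun h => hq (by rw [h])), add_zero, add_zero, add_zero] at h2
  exact zero_ne_one h2

/-- **one transposition** -/
theorem exists_tr (h : RA S D U A R) (hoff : OffM U A) : ∃ p q, Tr M A p q := by
  obtain ⟨cD, hact⟩ := M.offM A h.le hoff
  have hAP : A ≤ P := h.le.trans hSP
  -- the permutations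
  have hπ : ∀ a ∈ A, ∃ π : Equiv.Perm (Pt k m), MvD M a π ∧ (∀ i : Fin k, π (i, 0) = (i, 0)) ∧
      ∀ u, π u ≠ u → π (π u) = u ∧ (π u).1 = u.1 ∧ ∃ b ∈ A, MvD M b (Equiv.swap u (π u)) := by
    intro a ha
    obtain ⟨τ, hτ, h1⟩ := hact a ha
    refine ⟨pm 1 τ, mvD_pm M hτ, fun i => Prod.ext rfl (M.fix0 a (h.le ha) 1 τ hτ i), ?_⟩
    rintro ⟨i, x⟩ hne
    have hix : τ i x ≠ x := fun h2 => hne (Prod.ext rfl h2)
    obtain ⟨h2, b, hb, hbac⟩ := h1 i x hix
    refine ⟨Prod.ext rfl h2, rfl, b, hb, ?_⟩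
    have h3 := mvD_pm M hbac
    have h4 := pm_swap (k := k) (m := m) (p := (i, x)) (q := (i, τ i x)) rfl
    change pm 1 (Function.update 1 i (Equiv.swap x (τ i x))) = _ at h4
    rw [h4] at h3
    exact h3
  -- a moved point is not the zero point
  have hnz : ∀ a ∈ A, ∀ π : Equiv.Perm (Pt k m), (∀ i : Fin k, π (i, 0) = (i, 0)) → ∀ u : Pt k m, π u ≠ u → u.2 ≠ 0 := by
    intro a _ π h0 u hu h2
    apply hu
    have : u = (u.1, 0) := Prod.ext rfl h2
    rw [this]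
    exact h0 _
  obtain ⟨a₀, ha₀, ha₀c⟩ := SetLike.not_le_iff_exists.1 h.mov
  obtain ⟨π₀, hπ₀, hfix₀, hmv₀⟩ := hπ a₀ ha₀
  obtain ⟨p, hp⟩ : ∃ p, π₀ p ≠ p := by
    by_contra hcon
    push Not at hcon
    have e : π₀ = 1 := Equiv.ext hcon
    rw [e] at hπ₀
    exact ha₀c (mem_cent_of_mv M hPU hSP h (h.le ha₀) (cD a₀ ha₀) hπ₀)
  obtain ⟨hinv, hfst, b, hb, hbac⟩ := hmv₀ p hp
  set q := π₀ p with hq
  have hp2 : p.2 ≠ 0 := hnz a₀ ha₀ π₀ hfix₀ p hp
  have hq2 : q.2 ≠ 0 := hnz a₀ ha₀ π₀ hfix₀ q (by rw [hinv]; exact hp.symm)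
  -- the main claim
  have claim : ∀ p' : Pt k m, p'.2 ≠ 0 → (∀ r ∈ U, (∀ w, ED M r w = (if w = p' then 1 else 0) +
      (if w = (p'.1, 0) then 1 else 0)) → r ∉ centralizer (A : Set G)) →
      ∀ a ∈ A, ∀ π : Equiv.Perm (Pt k m), MvD M a π → (∀ i : Fin k, π (i, 0) = (i, 0)) → ∀ u, π u ≠ u →
        u = p' ∨ π u = p' := by
    intro p' hp' hr' a ha π hπa h0 u hu
    obtain ⟨r, hr, hrE⟩ := exists_pairD M (p := p') (q := (p'.1, 0)) rfl
    obtain ⟨r₁, hr₁, hr₁E⟩ := exists_pairD M (p := u) (q := (u.1, 0)) rfl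
    have hu2 := hnz a ha π h0 u hu
    have hou : π⁻¹ (u.1, 0) = (u.1, 0) := by rw [Equiv.Perm.inv_eq_iff_eq, h0]
    -- the commutator of `r₁`
    have hx : ∀ w, ED M (r₁ * a * r₁⁻¹ * a⁻¹) w = (if w = u then 1 else 0) + (if w = π u then 1 else 0) := by
      intro w
      rw [hπa.comm hPU (hAP ha) hr₁, hr₁E, hr₁E]
      have e1 : (π⁻¹ w = u) ↔ (w = π u) := by rw [Equiv.Perm.inv_eq_iff_eq]
      have e2 : (π⁻¹ w = (u.1, 0)) ↔ (w = (u.1, 0)) := by
        rw [Equiv.Perm.inv_eq_iff_eq, h0]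
      rw [if_congr e1 rfl rfl, if_congr e2 rfl rfl]
      have e3 : ∀ x y z : ZMod 2, x + y + (z + y) = x + z := by decide
      exact e3 _ _ _
    have hr₁c : r₁ ∉ centralizer (A : Set G) := by
      intro hc
      have h1 : r₁ * a * r₁⁻¹ * a⁻¹ = 1 := by rw [← mem_centralizer_iff.1 hc a ha]; group
      have h2 := hx u
      rw [h1, ED_one, if_pos rfl, if_neg hu.symm, add_zero] at h2
      exact zero_ne_one h2
    have hmem := (h.root r₁ hr₁ hr₁c _).2 ⟨a, ha, rfl⟩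
    obtain ⟨a', ha', h1⟩ := (h.root r hr (hr' r hr hrE) _).1 hmem
    obtain ⟨π', hπ', h0', -⟩ := hπ a' ha'
    have hx' : ∀ w, ED M (r * a' * r⁻¹ * a'⁻¹) w = (if w = p' then 1 else 0) + (if w = π' p' then 1 else 0) := by
      intro w
      rw [hπ'.comm hPU (hAP ha') hr, hrE, hrE]
      have e1 : (π'⁻¹ w = p') ↔ (w = π' p') := by rw [Equiv.Perm.inv_eq_iff_eq]
      have e2 : (π'⁻¹ w = (p'.1, 0)) ↔ (w = (p'.1, 0)) := by
        rw [Equiv.Perm.inv_eq_iff_eq, h0']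
      rw [if_congr e1 rfl rfl, if_congr e2 rfl rfl]
      have e3 : ∀ x y z : ZMod 2, x + y + (z + y) = x + z := by decide
      exact e3 _ _ _
    have h2 := hx u
    have h3 := hx (π u)
    rw [← h1, hx', if_pos rfl, if_neg hu.symm, add_zero] at h2
    rw [← h1, hx', if_neg hu, if_pos rfl, zero_add] at h3
    by_contra hcon
    push Not at hcon
    rw [if_neg hcon.1, zero_add] at h2
    rw [if_neg hcon.2, zero_add] at h3
    have h4 : u = π' p' := by
      by_contra h4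
      rw [if_neg h4] at h2
      exact zero_ne_one h2
    have h5 : π u = π' p' := by
      by_contra h5
      rw [if_neg h5] at h3
      exact zero_ne_one h3
    exact hu (h5.trans h4.symm)
  have cp := claim p hp2 fun r hr hrE => not_cent_of_swap M hPU hp.symm hq2 hr hrE hb (hAP hb) hbac hp2
  have cq := claim q hq2 fun r hr hrE => not_cent_of_swap M hPU hp hp2 hr hrE hb (hAP hb)
    (by rw [Equiv.swap_comm]; exact hbac) hq2
  refine ⟨p, q, hp.symm, hfst.symm, hp2, hq2, cD, ⟨b, hb, hbac⟩, fun a ha => ?_⟩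
  obtain ⟨π, hπa, h0, hmv⟩ := hπ a ha
  by_cases hpp : π p = p
  · left
    have e : π = 1 := by
      ext1 u
      by_contra hu
      have hu' : π u ≠ u := hu
      rcases cp a ha π hπa h0 u hu' with h1 | h1
      · exact hu' (by rw [h1]; exact hpp)
      · have h2 := (hmv u hu').1
        rw [h1, hpp] at h2
        exact hu' (by rw [h1, h2])
    rwa [e] at hπa
  · right
    have hpq : π p = q := (cq a ha π hπa h0 p hpp).resolve_left hp.symm
    have e : π = Equiv.swap p q := by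
      ext1 u
      by_cases h1 : u = p
      · rw [h1, Equiv.swap_apply_left, hpq]
      · by_cases h2 : u = q
        · rw [h2, Equiv.swap_apply_right, ← hpq]
          exact (hmv p hpp).1
        · rw [Equiv.swap_apply_of_ne_of_ne h1 h2]
          by_contra hu
          rcases cp a ha π hπa h0 u hu with h3 | h3
          · exact h1 h3
          · have h4 := (hmv u hu).1
            rw [h3, hpq] at h4
            exact h2 h4.symm
    rwa [e] at hπa

omit hPU hSP in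
theorem Tr.symm {p q : Pt k m} (hT : Tr M A p q) : Tr M A q p where
  ne := hT.ne.symm
  fst := hT.fst.symm
  snd := hT.snd'
  snd' := hT.snd
  cD := hT.cD
  ex := by
    obtain ⟨b, hb, h1⟩ := hT.ex
    exact ⟨b, hb, by rwa [Equiv.swap_comm]⟩
  all := fun a ha => by
    rw [Equiv.swap_comm]
    exact hT.all a ha

omit hSP in
theorem MvD.inv {g : G} {π : Equiv.Perm (Pt k m)} (hπ : MvD M g π) (hg : g ∈ P) : MvD M g⁻¹ π⁻¹ := by
  intro v hv p
  have h1 := hπ _ (conjU hPU (inv_mem hg) hv) (π⁻¹ p)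
  rw [show π (π⁻¹ p) = p from π.apply_symm_apply p] at h1
  have e : g * (g⁻¹ * v * g⁻¹⁻¹) * g⁻¹ = v := by group
  rw [e] at h1
  exact h1.symm

theorem Tr.exists_mov {p q : Pt k m} (hT : Tr M A p q) (h : RA S D U A R) : ∃ r ∈ U,
    (∀ w, ED M r w = (if w = p then 1 else 0) + (if w = (p.1, 0) then 1 else 0)) ∧ r ∉ centralizer (A : Set G) := by
  obtain ⟨r, hr, hrE⟩ := exists_pairD M (p := p) (q := (p.1, 0)) rfl
  obtain ⟨b, hb, hbac⟩ := hT.ex
  exact ⟨r, hr, hrE, not_cent_of_swap M hPU hT.ne hT.snd' hr hrE hb (hSP (h.le hb)) hbac hT.snd⟩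

/-- **`R` has only `1` and elements with support `{p, q}`** -/
theorem Tr.supp {p q : Pt k m} (hT : Tr M A p q) (h : RA S D U A R) {x : G} (hx : x ∈ R) :
    x = 1 ∨ ∀ w, ED M x w = (if w = p then 1 else 0) + (if w = q then 1 else 0) := by
  obtain ⟨r, hr, hrE, hrc⟩ := hT.exists_mov M hPU hSP h
  obtain ⟨a, ha, rfl⟩ := (h.root r hr hrc x).1 hx
  rcases hT.all a ha with h1 | h1
  · left
    have h2 := mem_cent_of_mv M hPU hSP h (h.le ha) (hT.cD a ha) h1
    rw [mem_centralizer_iff.1 h2 r hr]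
    group
  · right
    intro w
    rw [h1.comm hPU (hSP (h.le ha)) hr, hrE, hrE]
    have e1 : (Equiv.swap p q)⁻¹ w = p ↔ w = q := by
      rw [Equiv.Perm.inv_eq_iff_eq, Equiv.swap_apply_left]
    have e2 : (Equiv.swap p q)⁻¹ w = (p.1, 0) ↔ w = (p.1, 0) := by
      rw [Equiv.Perm.inv_eq_iff_eq, Equiv.swap_apply_of_ne_of_ne (fun h => hT.snd (by rw [← h]))
        (fun h => hT.snd' (by rw [← h]))]
    rw [if_congr e1 rfl rfl, if_congr e2 rfl rfl]
    have e3 : ∀ x y z : ZMod 2, x + y + (z + y) = x + z := by decide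
    exact e3 _ _ _

/-- **the same pair, the same `R`** -/
theorem Tr.le {p q : Pt k m} (hT : Tr M A p q) (h : RA S D U A R) {A' R' : Subgroup G} (hT' : Tr M A' p q)
    (h' : RA S D U A' R') : R ≤ R' := by
  intro x hx
  obtain ⟨r, hr, hrE, hrc⟩ := hT.exists_mov M hPU hSP h
  obtain ⟨b, hb, hbac⟩ := hT'.ex
  have hrc' := not_cent_of_swap M hPU hT'.ne hT'.snd' hr hrE hb (hSP (h'.le hb)) hbac hT'.snd
  obtain ⟨a, ha, rfl⟩ := (h.root r hr hrc x).1 hx
  rcases hT.all a ha with h1 | h1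
  · have h2 := mem_cent_of_mv M hPU hSP h (h.le ha) (hT.cD a ha) h1
    have e : r * a * r⁻¹ * a⁻¹ = 1 := by rw [mem_centralizer_iff.1 h2 r hr]; group
    rw [e]
    exact one_mem _
  · refine (h'.root r hr hrc' _).2 ⟨b, hb, ?_⟩
    have haS := h.le ha
    have hbS := h'.le hb
    have h2 : MvD M (a⁻¹ * b) 1 := by
      have h3 := (h1.inv M hPU (hSP haS)).mul hPU hbac (hSP hbS)
      rwa [inv_mul_cancel] at h3
    have hk : a⁻¹ * b ∈ centralizer (U : Set G) := by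
      refine mem_cent_of_mv M hPU hSP h (mul_mem (inv_mem haS) hbS) (fun d hd => ?_) h2
      have h3 : Commute a d := hT.cD a ha d hd
      have h4 : Commute b d := hT'.cD b hb d hd
      exact (h3.inv_left.mul_left h4).eq
    have h6 := mem_centralizer_iff.1 hk r⁻¹ (inv_mem hr)
    have e1 : r * b * r⁻¹ * b⁻¹ = r * a * (a⁻¹ * b * r⁻¹) * (a⁻¹ * b)⁻¹ * a⁻¹ := by group
    rw [e1, ← h6]
    group

/-- transpositions of a `2`-group -/
theorem Tr.uniq (hS : IsPGroup 2 S) (hm : 1 ≤ m) {A' : Subgroup G} (hA : A ≤ S) (hA' : A' ≤ S) {p q q' : Pt k m}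
    (hT : Tr M A p q) (hT' : Tr M A' p q') : q = q' := by
  by_contra hne
  obtain ⟨b, hb, h3⟩ := hT.ex
  obtain ⟨c, hc, h3'⟩ := hT'.ex
  have h4 := h3.mul hPU h3' (hSP (hA' hc))
  obtain ⟨a, ha⟩ := hS ⟨b * c, mul_mem (hA hb) (hA' hc)⟩
  have ha' : (b * c) ^ 2 ^ a = 1 := congrArg Subtype.val ha
  have h5 := h4.pow hPU (mul_mem (hSP (hA hb)) (hSP (hA' hc))) (2 ^ a)
  rw [ha'] at h5
  have h6 := h5.unique hPU hm (MvD_one M) (one_mem _)
  have h7 := (Equiv.Perm.isThreeCycle_swap_mul_swap_same hT.ne hT'.ne hne).orderOf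
  have h8 := orderOf_dvd_of_pow_eq_one h6
  rw [h7] at h8
  have h9 := (Nat.Prime.dvd_of_dvd_pow Nat.prime_three h8)
  omega

omit hPU hSP in
theorem m_pos {p q : Pt k m} (hT : Tr M A p q) : 1 ≤ m := by
  rcases Nat.eq_zero_or_pos m with h0 | h0
  · exfalso
    subst h0
    apply hT.ne
    have h1 := hT.snd
    have h2 := hT.snd'
    have h3 : ∀ x y : Fin (2 ^ 0 + 1), x ≠ 0 → y ≠ 0 → x = y := by decide
    exact Prod.ext hT.fst (h3 _ _ h1 h2)
  · exact h0

/-- **`⟨R^S⟩ ∩ D = 1`**, symmetric case -/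
theorem inf_eq_bot_sym [Finite G] (M : SymKM S P U D k m) (hS : IsPGroup 2 S) (h : RA S D U A R) (hoff : OffM U A)
    (hU : ∀ u ∈ U, ∀ v ∈ U, u * v = v * u) (hDU : D ≤ U) : (⨆ s : S, MulAut.conj (s : G) • R) ⊓ D = ⊥ := by
  have hSU := hSP.trans hPU
  have hc : ∀ s : S, RA S D U (MulAut.conj (s : G) • A) (MulAut.conj (s : G) • R) := fun s => h.conj hSU s.2
  have ho : ∀ s : S, OffM U (MulAut.conj (s : G) • A) := fun s =>
    NOThreeL.NF.NatR.offM_cj (g := (s : G)) hoff (hSU s.2)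
  choose p q hT using fun s : S => exists_tr M hPU hSP (hc s) (ho s)
  have hm : 1 ≤ m := m_pos M (hT 1)
  refine iSup_inf_eq_bot (U := U) (fun s : S => MulAut.conj (s : G) • R) (fun s => (hc s).le_U hSU) hU
    (fun s x => ED M x (p s)) (fun s x hx y hy => ED_mul M hx hy _) (fun s d hd => ?_)
    (fun s x hx h0 => ?_) fun s t => ?_
  · have h1 := (M.ker d (hDU hd)).2 hd
    change M.e d (p s).1 (p s).2 = 0
    rw [h1]; rfl
  · refine ((hT s).supp M hPU hSP (hc s) hx).resolve_right fun h1 => ?_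
    have h2 := h1 (p s)
    have h0' : ED M x (p s) = 0 := h0
    rw [h0', if_pos rfl, if_neg (hT s).ne, add_zero] at h2
    exact zero_ne_one h2
  · by_cases h1 : p s = p t
    · left
      have hTt := hT t
      rw [← h1] at hTt
      have h2 := Tr.uniq M hPU hSP hS hm (hc s).le (hc t).le (hT s) hTt
      rw [← h2] at hTt
      exact le_antisymm ((hT s).le M hPU hSP (hc s) hTt (hc t)) (hTt.le M hPU hSP (hc t) (hT s) (hc s))
    · by_cases h2 : p s = q t
      · left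
        have hTt := (hT t).symm
        rw [← h2] at hTt
        have h3 := Tr.uniq M hPU hSP hS hm (hc s).le (hc t).le (hT s) hTt
        rw [← h3] at hTt
        exact le_antisymm ((hT s).le M hPU hSP (hc s) hTt (hc t)) (hTt.le M hPU hSP (hc t) (hT s) (hc s))
      · right
        intro x hx
        rcases (hT t).supp M hPU hSP (hc t) hx with h3 | h3
        · change ED M x (p s) = 0
          rw [h3, ED_one]
        · change ED M x (p s) = 0
          rw [h3, if_neg h1, if_neg h2, add_zero]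

end symTwo

end Cfsg.Agent.Omega.NO3S.Pas.AZ

namespace Cfsg.Agent.Omega.NO3S.Pas

open Subgroup Cfsg Cfsg.Agent.ZN Cfsg.Agent.Omega.MinPar
open Cfsg.Agent.Omega.NOne.NearFF (c c_def)
open Cfsg.Agent.Omega.NOThreeL.Low (Fr)
open Cfsg.Agent.Omega.FFThm (ElemM OffM ConclM relIndex_le_iff)
open Cfsg.Agent.Omega.FrameFF (cv)
open scoped Pointwise

universe v

variable {G : Type v} [Group G] [Finite G] {S : Sylow 2 G} {P V F M : Subgroup G} {n : ℕ}

/-- **ACT (0)**: an active type has `C_Z(P) = 1` if one active type has. -/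
theorem WFr.act_cv (w : WFr S M V F) (hFF : FFThm.StmtM.{v}) (f : Fr S M V F n) (hP : IsParS (S : Subgroup G) P)
    (hcv : cv (S : Subgroup G) P = ⊥) (hact : ¬ NOne.Flat.WW V F ≤ o2 P)
    (hk : Key V F (BL M (S : Subgroup G) V F n)) {R : Subgroup G} (hR : IsParS (S : Subgroup G) R)
    (hactR : ¬ NOne.Flat.WW V F ≤ o2 R) : cv (S : Subgroup G) R = ⊥ := by
  have a := w.act hP hcv hact
  have hr := w.rootN f hP hact hk
  have hLI := w.L_le_IN n hP
  have hrp := rp_of_concl w.hc hP hcv (a.ff hFF).2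
  have hmin := w.minN hFF f hP hcv hact hk
  have hZ := zc_le a hFF (bh f).I_le_E hr hLI
  have hUV := w.zl_le_V hR
  have hRU : R ≤ normalizer (zl (S : Subgroup G) R : Set G) := MinSimple.VModule.le_normalizer_zl _ _
  have hmov := w.mov hR hactR
  have hE := w.hyp.elemM_W
  have hoff : OffM (zl (S : Subgroup G) R) (NOne.Flat.WW V F) :=
    { sq := fun b hb => centralizer_le hUV (hE.sq b hb)
      comm := fun b hb d hd => centralizer_le hUV (hE.comm b hb d hd)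
      ne := hmov
      le := relIndex_le_iff.2 (w.hyp.off_of_le_all (w.zl_le_E hR)) }
  obtain ⟨-, hcon⟩ := hFF G (S : Subgroup G) R (MinSimple.EmptyTI.syl_of_le hR.le)
    hR.toIsMinPar (hR.isLoc.char2 S w.hc) ⟨_, w.WS.trans hR.le, hoff⟩
  have hUc : ∀ u ∈ zl (S : Subgroup G) R, ∀ v ∈ zl (S : Subgroup G) R, u * v = v * u :=
    fun u hu v hv => w.hyp.V_comm (hUV hu) (hUV hv)
  have hDU : cv (S : Subgroup G) R ≤ zl (S : Subgroup G) R := inf_le_left
  -- the ambient interface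
  have hra : (∀ b ∈ NOne.Flat.WW V F, ∀ d ∈ cv (S : Subgroup G) R, b * d = d * b) →
      AZ.RA (S : Subgroup G) (cv (S : Subgroup G) R) (zl (S : Subgroup G) R) (NOne.Flat.WW V F)
        ⁅zl (S : Subgroup G) P, NOne.Flat.WW V F⁆ := fun hcD =>
    { le := w.WS
      mov := hmov
      root := fun r hrU hrW x => by
        have hrF : r ∉ F := fun hrF => hrW (by
          rw [mem_centralizer_iff]
          intro s hs
          exact (NOne.Flat.Hyp.F_comm hrF (NOne.Flat.Hyp.W_le_X hs)).symm)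
        have h1 := mem_comm_iff hrp hr hLI hmin (w.L_le_IN n hR hrU) hrF (x := x)
        simpa only [c_def] using h1
      ker := fun g hg h1 h2 => AZ.ker w.hc hR (fun h3 => hmov (by
        intro s hs
        rw [mem_centralizer_iff]
        exact fun u hu => (hcD s hs u (h3 hu)).symm)) hg ⟨hR.le hg, h1, h2⟩ }
  have hinf : (⨆ s : (S : Subgroup G), MulAut.conj (s : G) • ⁅zl (S : Subgroup G) P, NOne.Flat.WW V F⁆) ⊓
      cv (S : Subgroup G) R = ⊥ := by
    rcases hcon with ⟨K, _, _, _, k, hk, ⟨N⟩⟩ | ⟨k, m, hk, hm, ⟨N⟩⟩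
    · refine AZ.inf_eq_bot_nat hRU hR.le N (hra ?_) hoff hUc hDU
      obtain ⟨I, h1, -⟩ := N.offM _ w.WS hoff
      intro b hb
      obtain ⟨_, _, h2⟩ := h1 b hb
      exact h2.2
    · exact AZ.inf_eq_bot_sym hRU hR.le N S.isPGroup' (hra (N.offM _ w.WS hoff).1) hoff hUc hDU
  by_contra hne
  have : Fact (Nat.Prime 2) := ⟨Nat.prime_two⟩
  have hD2 : IsPGroup 2 (cv (S : Subgroup G) R) := by
    intro x
    refine ⟨1, Subtype.ext ?_⟩
    rw [pow_one, pow_two]
    exact w.hyp.sq' (hUV (hDU x.2))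
  have h1 := PLocal.OffenderStep.inf_centralizer_ne_bot (cv (S : Subgroup G) R) (S : Subgroup G) hD2 S.isPGroup'
    (hR.le.trans (AZ.norm_cv (S : Subgroup G) R)) hne
  obtain ⟨x, hx⟩ := Subgroup.ne_bot_iff_exists_ne_one.1 h1
  have hxV : (x : G) ∈ V := hUV (hDU x.2.1)
  have hxS : (x : G) ∈ (S : Subgroup G) := (w.zl_le_E hR |>.trans (NOne.Flat.Hyp.E_le_W.trans w.WS)) (hDU x.2.1)
  have hxZ : (x : G) ∈ zc (S : Subgroup G) := by
    rw [ChoiceBase.mem_zc]
    exact ⟨hxS, by rw [pow_two]; exact w.hyp.sq' hxV, fun y hy => mem_centralizer_iff.1 x.2.2 y hy⟩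
  have h2 : (x : G) ∈ (⨆ s : (S : Subgroup G), MulAut.conj (s : G) • ⁅zl (S : Subgroup G) P, NOne.Flat.WW V F⁆) ⊓
      cv (S : Subgroup G) R := ⟨hZ hxZ, x.2.1⟩
  rw [hinf, mem_bot] at h2
  exact hx (Subtype.ext h2)

end Cfsg.Agent.Omega.NO3S.Pas

end

end
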